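import Mathlib

/-!
# Elements of alternating groups

* `embAlt`: `A_n ↪ A_r` for `n ≤ r`;
* `exists_f20`: for `r ≥ 7`, `A_r` has `a` of order 5 and `b` with `b a b⁻¹ = a²`;
* `exists_f21`: for `r ≥ 7`, `A_r` has `a` of order 7 and `b` with `b a b⁻¹ = a²`;
* `exists_f55`: for `r ≥ 11`, `A_r` has `a` of order 11 and `b` with `b a b⁻¹ = a³`.
-/

set_option autoImplicit false

namespace Cfsg.Agent.H191.AltElts

open Equiv

/-- `A_n ↪ A_r` -/
noncomputable def embAlt {n r : ℕ} (h : n ≤ r) : alternatingGroup (Fin n) →* alternatingGroup (Fin r) :=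
  ((Perm.extendDomainHom (Equiv.ofInjective (Fin.castLE h) (Fin.castLE_injective h))).comp
    (alternatingGroup (Fin n)).subtype).codRestrict (alternatingGroup (Fin r)) (fun x => by
      rw [MonoidHom.comp_apply, Perm.mem_alternatingGroup]
      show Perm.sign ((x : Perm (Fin n)).extendDomain _) = 1
      rw [Perm.sign_extendDomain]
      exact Perm.mem_alternatingGroup.1 x.2)

theorem embAlt_injective {n r : ℕ} (h : n ≤ r) : Function.Injective (embAlt h) := by
  intro x y hxy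
  have h1 := congrArg Subtype.val hxy
  apply Subtype.ext
  exact Perm.extendDomainHom_injective _ h1

/-- transfer of a relation from `A_n` to `A_r` -/
theorem transfer {n r : ℕ} (h : n ≤ r) {p k : ℕ} [Fact p.Prime] (a0 b0 : Perm (Fin n)) (ha : Perm.sign a0 = 1)
    (hb : Perm.sign b0 = 1) (h1 : a0 ^ p = 1) (h2 : a0 ≠ 1) (hab : b0 * a0 = a0 ^ k * b0) :
    ∃ a b : alternatingGroup (Fin r), orderOf a = p ∧ b * a * b⁻¹ = a ^ k := by
  have hoa : orderOf a0 = p := orderOf_eq_prime h1 h2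
  let a : alternatingGroup (Fin n) := ⟨a0, Perm.mem_alternatingGroup.2 ha⟩
  let b : alternatingGroup (Fin n) := ⟨b0, Perm.mem_alternatingGroup.2 hb⟩
  have e : b * a * b⁻¹ = a ^ k := by
    apply Subtype.ext
    show b0 * a0 * b0⁻¹ = a0 ^ k
    rw [hab, mul_inv_cancel_right]
  refine ⟨embAlt h a, embAlt h b, ?_, ?_⟩
  · rw [orderOf_injective _ (embAlt_injective h), ← Subgroup.orderOf_coe]
    exact hoa
  · rw [← map_inv, ← map_mul, ← map_mul, ← map_pow, e]

theorem exists_f20 {r : ℕ} (h : 7 ≤ r) : ∃ a b : alternatingGroup (Fin r), orderOf a = 5 ∧ b * a * b⁻¹ = a ^ 2 := by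
  have hfact : Fact (Nat.Prime 5) := ⟨by norm_num⟩
  exact transfer (n := 7) h c[0, 1, 2, 3, 4] (c[1, 2, 4, 3] * c[5, 6]) (by decide +kernel) (by decide +kernel)
    (by decide +kernel) (by decide +kernel) (by decide +kernel)

theorem exists_f21 {r : ℕ} (h : 7 ≤ r) : ∃ a b : alternatingGroup (Fin r), orderOf a = 7 ∧ b * a * b⁻¹ = a ^ 2 := by
  have hfact : Fact (Nat.Prime 7) := ⟨by norm_num⟩
  exact transfer (n := 7) h c[0, 1, 2, 3, 4, 5, 6] (c[1, 2, 4] * c[3, 6, 5]) (by decide +kernel) (by decide +kernel)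
    (by decide +kernel) (by decide +kernel) (by decide +kernel)

theorem exists_f55 {r : ℕ} (h : 11 ≤ r) : ∃ a b : alternatingGroup (Fin r), orderOf a = 11 ∧ b * a * b⁻¹ = a ^ 3 := by
  have hfact : Fact (Nat.Prime 11) := ⟨by norm_num⟩
  exact transfer (n := 11) h c[0, 1, 2, 3, 4, 5, 6, 7, 8, 9, 10] (c[1, 3, 9, 5, 4] * c[2, 6, 7, 10, 8])
    (by decide +kernel) (by decide +kernel) (by decide +kernel) (by decide +kernel) (by decide +kernel)

end Cfsg.Agent.H191.AltElts
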