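import Cfsg.Agent.ChevalleyStructure.E6Form.Cubic
import Cfsg.Agent.OddOrderLocal.Thm34Weights

/-!
# Fixed spaces of semisimple isometries of the cubic form in 27 variables

`finrank_le_of_rad`: for `w ≠ 0` the radical of `tri w · ·` has dimension at most 17.

`bound_odd`, `bound_two`: an isometry of odd order `m` prime to the characteristic with fixed space of dimension at
least 21 (of order 2, with fixed space of dimension at least 23) is trivial.
-/

set_option autoImplicit false

namespace Cfsg.Agent.H191.CubicBound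

open Cfsg.Lie Module
open Cfsg.Agent.ChevalleyStructure.E6Form.Cubic
open Cfsg.Agent.OddOrderLocal.Thm34Weights (isSemisimple_of_pow)

universe u

/-- two weights collinear with `a` in a common monomial lie in a monomial with `a` -/
theorem gq (a c b : I27) (h1 : nc a c = true) (h2 : nc a b = true) (h3 : nc c b = true) : b = th a c := by
  have h := forall_wts (p := fun a => wts.all fun c => !(nc a c) || wts.all fun b => !(nc a b) || !(nc c b) ||
    (b == th a c)) (by decide +kernel) a
  have h' := forall_wts h c
  simp only [h1, Bool.not_true, Bool.false_or] at h'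
  have h'' := forall_wts h' b
  simp only [h2, h3, Bool.not_true, Bool.false_or, beq_iff_eq] at h''
  exact h''

theorem card_not_nc (a : I27) : Fintype.card {b : I27 // nc a b = false} = 17 := by
  revert a
  decide +kernel

variable {F : Type u} [Field F]

theorem tri_e_left (c : I27) (v w : I27 → F) :
    tri (e F c) v w = ∑ b, if nc c b = true then (sg c b : F) * (v b * w (th c b)) else 0 := by
  rw [tri_formula, Finset.sum_eq_single c]
  · refine Finset.sum_congr rfl fun b _ => ?_
    rw [e_self, one_mul]
  · intro d _ hd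
    refine Finset.sum_eq_zero fun b _ => ?_
    rw [e_ne hd]; simp
  · intro h; exact absurd (Finset.mem_univ _) h

/-- **The radical of `tri w · ·` has dimension at most 17.** -/
theorem finrank_le_of_rad {w : I27 → F} (hw : w ≠ 0) (R : Submodule F (I27 → F))
    (hR : ∀ v ∈ R, ∀ u, tri w v u = 0) : finrank F R ≤ 17 := by
  obtain ⟨a, ha⟩ : ∃ a, w a ≠ 0 := by
    by_contra h
    push Not at h
    exact hw (funext h)
  let r : R →ₗ[F] ({b : I27 // nc a b = false} → F) :=
    { toFun := fun v b => (v : I27 → F) b
      map_add' := fun _ _ => rfl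
      map_smul' := fun _ _ => rfl }
  have hinj : Function.Injective r := by
    rw [← LinearMap.ker_eq_bot, Submodule.eq_bot_iff]
    rintro ⟨v, hv⟩ hv0
    have h0 : ∀ b, nc a b = false → v b = 0 := fun b hb => congrFun (LinearMap.mem_ker.1 hv0) ⟨b, hb⟩
    have h1 : ∀ c, nc a c = true → v (th a c) = 0 := by
      intro c hc
      have h2 := hR v hv (e F c)
      rw [tri_comm12, tri_comm23, tri_comm12, tri_e_left] at h2
      obtain ⟨f1, f2, f3, f4, f5⟩ := (th_facts a c).1 hc
      obtain ⟨g1, g2, g3, g4, g5⟩ := (th_facts c a).1 f1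
      have hth : th c a = th a c := f4
      rw [Finset.sum_eq_single (th a c)] at h2
      · rw [if_pos (by rw [← hth]; exact g2)] at h2
        have h3 : th c (th a c) = a := by rw [← hth]; exact g3
        rw [h3] at h2
        have h4 : ((sg c (th a c) : ℤ) : F) ≠ 0 := sg_ne_zero (by rw [← hth]; exact g2)
        rcases mul_eq_zero.1 h2 with h5 | h5
        · exact absurd h5 h4
        · rcases mul_eq_zero.1 h5 with h6 | h6
          · exact h6
          · exact absurd h6 ha
      · intro b _ hb
        by_cases h3 : nc c b = true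
        · by_cases h4 : nc a b = true
          · exact absurd (gq a c b hc h4 h3) hb
          · rw [h0 b (by simpa using h4)]; simp
        · rw [if_neg h3]
      · intro h; exact absurd (Finset.mem_univ _) h
    refine Subtype.ext (funext fun b => ?_)
    by_cases hb : nc a b = true
    · obtain ⟨-, f2, f3, -⟩ := (th_facts a b).1 hb
      have := h1 (th a b) f2
      rwa [f3] at this
    · exact h0 b (by simpa using hb)
  have h := LinearMap.finrank_le_finrank_of_injective hinj
  rwa [Module.finrank_fintype_fun_eq_card, card_not_nc] at h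

/-! ### Semisimple isometries -/

variable {g : GL I27 F}

/-- the linear map of `g` -/
abbrev lin (g : GL I27 F) : End F (I27 → F) := Matrix.toLin' (g : Matrix I27 I27 F)

theorem lin_apply (g : GL I27 F) (v : I27 → F) : lin g v = (g : Matrix I27 I27 F).mulVec v := Matrix.toLin'_apply _ _

theorem tri_add_right (x y z z' : I27 → F) : tri x y (z + z') = tri x y z + tri x y z' := by
  rw [tri_formula, tri_formula, tri_formula, ← Finset.sum_add_distrib]
  refine Finset.sum_congr rfl fun a _ => ?_
  rw [← Finset.sum_add_distrib]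
  refine Finset.sum_congr rfl fun b _ => ?_
  split
  · rw [Pi.add_apply]; ring
  · ring

theorem tri_smul_right (s : F) (x y z : I27 → F) : tri x y (s • z) = s * tri x y z := by
  rw [tri_comm23, tri_smul_mid, tri_comm23]

/-- `tri w u ·` as a linear form, linear in `u`. -/
noncomputable def triLin (w : I27 → F) : (I27 → F) →ₗ[F] (I27 → F) →ₗ[F] F :=
  LinearMap.mk₂ F (fun u v => tri w u v)
    (fun u u' v => by rw [tri_comm23, tri_add_right, tri_comm23 w v u, tri_comm23 w v u'])
    (fun s u v => by rw [tri_smul_mid]; rfl)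
    (fun u v v' => tri_add_right _ _ _ _)
    (fun s u v => by rw [tri_smul_right]; rfl)

theorem triLin_apply (w u v : I27 → F) : triLin w u v = tri w u v := rfl

/-- If `w ≠ 0` is an eigenvector of a diagonalisable isometry for the eigenvalue `l` then the fixed space has dimension
at most 17 plus that of the eigenspace of `l⁻¹`. -/
theorem finrank_fixed_le (hg : g ∈ E6univ F) (hd : ⨆ μ : F, End.eigenspace (lin g) μ = ⊤) {l : F}
    (hl : End.eigenspace (lin g) l ≠ ⊥) :
    finrank F (End.eigenspace (lin g) 1) ≤ 17 + finrank F (End.eigenspace (lin g) l⁻¹) := by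
  obtain ⟨w, hw, hw0⟩ := Submodule.exists_mem_ne_zero_of_ne_bot hl
  rw [End.mem_eigenspace_iff, lin_apply] at hw
  -- the map `V_1 → Dual V_{l⁻¹}`
  let T : End.eigenspace (lin g) 1 →ₗ[F] (End.eigenspace (lin g) l⁻¹ →ₗ[F] F) :=
    { toFun := fun u => (triLin w u).comp (End.eigenspace (lin g) l⁻¹).subtype
      map_add' := fun u u' => by
        rw [Submodule.coe_add, map_add, LinearMap.add_comp]
      map_smul' := fun s u => by
        rw [Submodule.coe_smul, map_smul, LinearMap.smul_comp, RingHom.id_apply] }
  have h1 := LinearMap.finrank_range_add_finrank_ker T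
  have h2 : finrank F (LinearMap.range T) ≤ finrank F (End.eigenspace (lin g) l⁻¹) := by
    refine (Submodule.finrank_le _).trans ?_
    rw [Module.finrank_linearMap, finrank_self, mul_one]
  -- the kernel lies in the radical
  let R : Submodule F (I27 → F) := (LinearMap.ker T).map (End.eigenspace (lin g) 1).subtype
  have h3 : finrank F R = finrank F (LinearMap.ker T) := by
    exact (Submodule.equivMapOfInjective _ (End.eigenspace (lin g) 1).injective_subtype _).finrank_eq.symm
  have h4 : finrank F R ≤ 17 := by
    refine finrank_le_of_rad hw0 R ?_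
    rintro _ ⟨⟨u, hu⟩, hu', rfl⟩ v
    rw [SetLike.mem_coe, LinearMap.mem_ker] at hu'
    have hgu := End.mem_eigenspace_iff.1 hu
    rw [lin_apply, one_smul] at hgu
    have hv : v ∈ ⨆ μ : F, End.eigenspace (lin g) μ := hd ▸ Submodule.mem_top
    show tri w u v = 0
    induction hv using Submodule.iSup_induction' with
    | mem μ v hv =>
      have hgv := hv
      rw [End.mem_eigenspace_iff, lin_apply] at hgv
      have h5 := tri_mulVec hg w u v
      rw [hw, hgu, hgv, tri_smul_left, tri_smul_right] at h5
      by_cases hμ : l * μ = 1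
      · have hl0 : l ≠ 0 := left_ne_zero_of_mul_eq_one hμ
        have hμ' : μ = l⁻¹ := eq_inv_of_mul_eq_one_right hμ
        clear hl0
        subst hμ'
        exact congrArg (fun f : (End.eigenspace (lin g) l⁻¹ →ₗ[F] F) => f ⟨v, hv⟩) hu'
      · have h6 : (l * μ - 1) * tri w u v = 0 := by rw [sub_mul, mul_assoc, h5]; ring
        rcases mul_eq_zero.1 h6 with h7 | h7
        · exact absurd (sub_eq_zero.1 h7) hμ
        · exact h7
    | zero => rw [← triLin_apply, map_zero]
    | add x y _ _ hx hy => rw [tri_add_right, hx, hy, add_zero]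
  omega

theorem eq_one_of_fixed (hd : ⨆ μ : F, End.eigenspace (lin g) μ = ⊤)
    (h : ∀ l : F, l ≠ 1 → End.eigenspace (lin g) l = ⊥) : g = 1 := by
  have h1 : End.eigenspace (lin g) 1 = ⊤ := by
    rw [eq_top_iff, ← hd]
    refine iSup_le fun μ => ?_
    by_cases hμ : μ = 1
    · rw [hμ]
    · rw [h μ hμ]; exact bot_le
  apply Units.ext
  apply Matrix.toLin'.injective
  refine LinearMap.ext fun v => ?_
  have h2 : v ∈ End.eigenspace (lin g) 1 := h1 ▸ Submodule.mem_top
  rw [End.mem_eigenspace_iff, one_smul] at h2
  rw [Units.val_one, Matrix.toLin'_one]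
  exact h2

theorem lin_pow (g : GL I27 F) (m : ℕ) : lin (g ^ m) = lin g ^ m := by
  unfold lin
  rw [Units.val_pow_eq_pow_val, Matrix.toLin'_pow]

variable [IsAlgClosed F]

theorem iSup_eigenspace {m : ℕ} (hm : (m : F) ≠ 0) (hgm : g ^ m = 1) : ⨆ μ : F, End.eigenspace (lin g) μ = ⊤ := by
  apply Module.End.IsSemisimple.iSup_eigenspace_eq_top
  apply isSemisimple_of_pow _ hm
  rw [← lin_pow, hgm]
  unfold lin
  rw [Units.val_one, Matrix.toLin'_one]
  rfl

theorem pow_eq_one_of_eigen {m : ℕ} (hgm : g ^ m = 1) {l : F} (hl : End.eigenspace (lin g) l ≠ ⊥) : l ^ m = 1 := by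
  obtain ⟨v, hv, hv0⟩ := Submodule.exists_mem_ne_zero_of_ne_bot hl
  rw [End.mem_eigenspace_iff] at hv
  have h1 : ∀ n : ℕ, (lin g ^ n) v = l ^ n • v := by
    intro n
    induction n with
    | zero => simp
    | succ n ih => rw [pow_succ', End.mul_apply, ih, map_smul, hv, smul_smul, pow_succ]
  have h2 := h1 m
  rw [← lin_pow, hgm] at h2
  have h3 : lin (1 : GL I27 F) v = v := by
    unfold lin
    rw [Units.val_one, Matrix.toLin'_one]; rfl
  rw [h3] at h2
  have h4 : (l ^ m - 1) • v = 0 := by rw [sub_smul, one_smul, ← h2, sub_self]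
  rcases smul_eq_zero.1 h4 with h5 | h5
  · exact sub_eq_zero.1 h5
  · exact absurd h5 hv0

/-- three eigenspaces -/
theorem finrank_three (f : End F (I27 → F)) {a b c : F} (hab : a ≠ b) (hac : a ≠ c) (hbc : b ≠ c) :
    finrank F (End.eigenspace f a) + finrank F (End.eigenspace f b) + finrank F (End.eigenspace f c) ≤ 27 := by
  have hind := End.eigenspaces_iSupIndep f
  have h1 : Disjoint (End.eigenspace f a) (End.eigenspace f b) := hind.pairwiseDisjoint hab
  have h2 : Disjoint (End.eigenspace f a ⊔ End.eigenspace f b) (End.eigenspace f c) := by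
    have h3 := hind c
    refine (h3.mono_right ?_).symm
    rw [sup_le_iff]
    constructor
    · exact le_iSup₂_of_le a hac le_rfl
    · exact le_iSup₂_of_le b hbc le_rfl
  have h3 := Submodule.finrank_sup_add_finrank_inf_eq (End.eigenspace f a) (End.eigenspace f b)
  have h4 := Submodule.finrank_sup_add_finrank_inf_eq (End.eigenspace f a ⊔ End.eigenspace f b) (End.eigenspace f c)
  rw [h1.eq_bot, finrank_bot, add_zero] at h3
  rw [h2.eq_bot, finrank_bot, add_zero] at h4
  have h5 := Submodule.finrank_le ((End.eigenspace f a ⊔ End.eigenspace f b) ⊔ End.eigenspace f c)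
  have h6 : finrank F (I27 → F) = 27 := by
    rw [Module.finrank_fintype_fun_eq_card]; decide
  omega

/-- **An isometry of odd order prime to the characteristic fixing a subspace of dimension 21 is trivial.** -/
theorem bound_odd (hg : g ∈ E6univ F) {m : ℕ} (hm : (m : F) ≠ 0) (hodd : Odd m) (hgm : g ^ m = 1)
    (h21 : 21 ≤ finrank F (End.eigenspace (lin g) 1)) : g = 1 := by
  have hd := iSup_eigenspace hm hgm
  refine eq_one_of_fixed hd fun l hl1 => ?_
  by_contra hl
  have h1 := finrank_fixed_le hg hd hl
  have hli : End.eigenspace (lin g) l⁻¹ ≠ ⊥ := by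
    intro h
    rw [h, finrank_bot] at h1
    omega
  have h2 := finrank_fixed_le hg hd hli
  rw [inv_inv] at h2
  have hlm := pow_eq_one_of_eigen hgm hl
  have hl0 : l ≠ 0 := by
    rintro rfl
    rw [zero_pow (by rintro rfl; exact hm (by simp))] at hlm
    exact zero_ne_one hlm
  have hll : l ≠ l⁻¹ := by
    intro h
    have h3 : l ^ 2 = 1 := by rw [sq]; nth_rewrite 2 [h]; exact mul_inv_cancel₀ hl0
    obtain ⟨k, rfl⟩ := hodd
    rw [pow_succ, pow_mul, h3, one_pow, one_mul] at hlm
    exact hl1 hlm
  have hli1 : l⁻¹ ≠ 1 := by rwa [Ne, inv_eq_one]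
  have h4 := finrank_three (lin g) (Ne.symm hl1) (Ne.symm hli1) hll
  omega

/-- **An isometry of order 2 fixing a subspace of dimension 23 is trivial.** -/
theorem bound_two (hg : g ∈ E6univ F) (h2 : (2 : F) ≠ 0) (hgm : g ^ 2 = 1)
    (h23 : 23 ≤ finrank F (End.eigenspace (lin g) 1)) : g = 1 := by
  have hd := iSup_eigenspace (m := 2) (by exact_mod_cast h2) hgm
  refine eq_one_of_fixed hd fun l hl1 => ?_
  by_contra hl
  have h1 := finrank_fixed_le hg hd hl
  have hlm := pow_eq_one_of_eigen hgm hl
  have hl' : l = -1 := by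
    rcases sq_eq_one_iff.1 hlm with h | h
    · exact absurd h hl1
    · exact h
  have hli : l⁻¹ = l := by rw [hl']; norm_num
  rw [hli] at h1
  have h0 : l ≠ 0 := by rw [hl']; norm_num
  have h4 := finrank_three (lin g) (a := 1) (b := l) (c := 0) (Ne.symm hl1) one_ne_zero h0
  omega

end Cfsg.Agent.H191.CubicBound
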