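import Mathlib

/-!
# Elements of the alternating group of degree 12: tables
-/

set_option autoImplicit false

namespace Cfsg.Agent.H191.AltTab

open Equiv

abbrev A12 : Type := alternatingGroup (Fin 12)

/-- an even permutation as an element of the alternating group -/
def mk (σ : Perm (Fin 12)) (h : Perm.sign σ = 1) : A12 := ⟨σ, Perm.mem_alternatingGroup.2 h⟩

theorem coe_mk (σ : Perm (Fin 12)) (h : Perm.sign σ = 1) : ((mk σ h : A12) : Perm (Fin 12)) = σ := rfl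

/-- four disjoint 3-cycles -/
def tp : Fin 4 → Perm (Fin 12) := ![c[0, 1, 2], c[3, 4, 5], c[6, 7, 8], c[9, 10, 11]]

theorem sign_tp : ∀ i, Perm.sign (tp i) = 1 := by decide +kernel

/-- four disjoint 3-cycles -/
def t (i : Fin 4) : A12 := mk (tp i) (sign_tp i)

/-- the moves -/
def mp : Fin 4 → Perm (Fin 12) := ![c[1, 2] * c[4, 5], c[0, 3, 6] * c[1, 4, 7] * c[2, 5, 8],
  c[3, 6, 9] * c[4, 7, 10] * c[5, 8, 11], c[0, 3] * c[1, 4] * c[2, 5] * c[7, 8]]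

theorem sign_mp : ∀ i, Perm.sign (mp i) = 1 := by decide +kernel

def mv (i : Fin 4) : A12 := mk (mp i) (sign_mp i)

def mτ : Fin 4 → Fin 4 → Fin 4 := ![![0, 1, 2, 3], ![2, 0, 1, 3], ![0, 3, 1, 2], ![1, 0, 2, 3]]

def me : Fin 4 → Fin 4 → Fin 3 := ![![2, 2, 1, 1], ![1, 1, 1, 1], ![1, 1, 1, 1], ![1, 1, 2, 1]]

theorem mv_t (m j : Fin 4) : mv m * t (mτ m j) * (mv m)⁻¹ = t j ^ (me m j : ℕ) := by
  have h : ∀ m j, mp m * tp (mτ m j) * (mp m)⁻¹ = tp j ^ (me m j : ℕ) := by decide +kernel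
  exact Subtype.ext (h m j)

theorem me_ne : ∀ m j, me m j = 1 ∨ me m j = 2 := by decide +kernel

/-- the effect of a move on a weight -/
def act (m : Fin 4) (v : Fin 4 → Fin 3) : Fin 4 → Fin 3 := fun j => me m j * v (mτ m j)

/-- the Hamming weight -/
def hw (v : Fin 4 → Fin 3) : Fin 5 := (if v 0 = 0 then 0 else 1) + (if v 1 = 0 then 0 else 1) +
  (if v 2 = 0 then 0 else 1) + (if v 3 = 0 then 0 else 1)

def rep : Fin 5 → Fin 4 → Fin 3 := ![![0, 0, 0, 0], ![0, 0, 0, 1], ![0, 0, 1, 1], ![0, 1, 1, 1], ![1, 1, 1, 1]]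

def cd (v : Fin 4 → Fin 3) : ℕ := v 0 + 3 * v 1 + 9 * v 2 + 27 * v 3

def pTo : List (List (Fin 4)) := [[], [1, 1, 2], [0, 1, 1, 2], [1, 2], [1, 2], [1, 0, 2], [0, 1, 2], [2, 3, 2], [0, 1, 2], [2], [1, 1, 2], [0, 1, 1, 2], [2], [2, 1, 1], [0, 2, 3], [0, 2], [2, 3], [2, 0, 3], [3, 2], [3, 2], [0, 3, 2], [2, 2, 0, 1], [1, 0, 2, 3], [3, 2, 3], [1, 0, 3, 2], [0, 3, 2, 3], [3, 2, 0, 3], [], [1, 1], [0, 1, 1], [1], [1], [1, 0], [0, 1], [0, 1, 0], [0, 1], [], [1, 1], [0, 1, 1], [], [], [0, 1, 3], [0], [1, 3], [0], [3], [3], [0, 3], [2, 2, 0], [3], [1, 0], [1, 0, 3], [0, 1, 0], [0, 3], [2, 0, 1, 2], [1, 2, 0, 2], [2, 0, 1, 2], [2, 0, 2], [1, 2, 0], [1, 0, 2, 0], [0, 2, 0, 2], [0, 1, 0, 2, 0], [0, 1, 2, 0], [2, 0, 1], [0, 2, 0, 1], [2, 0, 1], [2, 0], [2, 1, 3], [2, 0], [0, 2, 0], [0, 2, 0], [2, 0, 3], [3, 2, 0, 1], [3, 2, 0], [0, 3, 2, 0], [1, 2, 0, 1], [1, 2, 0], [0,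 3, 2, 0], [3, 2, 0, 1], [3, 2, 0], [0, 1, 2, 0]]

def pFr : List (List (Fin 4)) := [[], [2, 3], [2, 0, 3], [2], [1, 2], [1, 0, 2], [2, 0], [1, 0, 2, 0], [1, 2, 0], [2, 1], [1, 2, 2], [1, 0, 2, 2], [2, 2], [1, 1, 2], [3, 1, 2], [2, 2, 0], [3, 2, 2], [0, 3, 2, 2], [2, 0, 1], [2, 2, 3], [1, 2, 0, 2], [2, 0, 2], [1, 0, 1, 2], [0, 3, 1, 2], [1, 2, 0, 1], [3, 1, 2, 3], [3, 2, 0, 2], [], [1], [1, 0], [2], [1, 1], [3, 1], [2, 0], [1, 0, 1], [0, 3, 1], [], [1], [1, 0], [], [], [3, 1], [0], [0, 2, 3], [0], [3], [3], [0, 3], [0, 2], [3], [0, 2], [0, 2, 0], [0, 1], [0, 3], [2, 0, 1, 2], [3, 2, 3], [3, 2, 0, 3], [3, 2], [3, 2], [0, 3, 2], [3, 2, 0], [0, 3, 2, 0], [3, 2, 0], [3, 2, 1], [0, 2, 2, 1], [0, 2, 0, 2, 1], [0, 2, 2], [3, 2], [0, 2, 2], [0, 2, 2, 0], [0, 1, 2, 2], [3, 2, 0], [3, 2, 0, 1], [0, 2, 2, 3], [0, 2, 2, 0, 3], [0, 2, 0, 2], [0, 1, 2], [0, 3, 2], [3, 2, 0,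 1], [0, 2, 2, 3], [0, 1, 2, 0]]

theorem path_to : ∀ v : Fin 4 → Fin 3, (pTo.getD (cd v) []).foldl (fun w m => act m w) v = rep (hw v) := by
  decide +kernel

theorem path_from : ∀ v : Fin 4 → Fin 3, (pFr.getD (cd v) []).foldl (fun w m => act m w) (rep (hw v)) = v := by
  decide +kernel

theorem card_hw : ∀ k : Fin 5, (Finset.univ.filter fun v : Fin 4 → Fin 3 => hw v = k).card =
    (![1, 8, 24, 32, 16] : Fin 5 → ℕ) k := by decide +kernel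

/-! ### The elements for the four-groups -/

def q1 : A12 := mk (c[0, 1] * c[2, 3]) (by decide +kernel)
def q2 : A12 := mk (c[0, 3] * c[1, 4]) (by decide +kernel)
def g11 : A12 := mk c[1, 3, 4, 5, 2] (by decide +kernel)
def g12 : A12 := mk c[0, 1, 3, 4, 5] (by decide +kernel)
def g21 : A12 := mk c[2, 4, 3] (by decide +kernel)
def g22 : A12 := mk c[1, 2, 5, 4, 3] (by decide +kernel)

theorem t_comm (i j : Fin 4) : t i * t j = t j * t i := by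
  have h : ∀ i j, tp i * tp j = tp j * tp i := by decide +kernel
  exact Subtype.ext (h i j)

theorem t_cube (i : Fin 4) : t i ^ 3 = 1 := by
  have h : ∀ i, tp i ^ 3 = 1 := by decide +kernel
  exact Subtype.ext (h i)

/-- the relations used to kill an element of order three -/
structure Kit (d q g h : A12) : Prop where
  qq : q * q = 1
  comm : q * (d * q * d⁻¹) = (d * q * d⁻¹) * q
  cyc : d * (d * q * d⁻¹) * d⁻¹ = q * (d * q * d⁻¹)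
  prod : (g * (d * q * d⁻¹ * q⁻¹) * g⁻¹) * (h * (d * q * d⁻¹ * q⁻¹) * h⁻¹) = t 0
  qt : ∀ i, 2 ≤ i → q * t i = t i * q
  gt : ∀ i, 2 ≤ i → g * t i = t i * g
  ht : ∀ i, 2 ≤ i → h * t i = t i * h

theorem kit1 : Kit (t 0) q1 g11 g12 where
  qq := by decide +kernel
  comm := by decide +kernel
  cyc := by decide +kernel
  prod := by decide +kernel
  qt := by decide +kernel
  gt := by decide +kernel
  ht := by decide +kernel

theorem kit2 : Kit (t 0 * t 1) q2 g21 g22 where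
  qq := by decide +kernel
  comm := by decide +kernel
  cyc := by decide +kernel
  prod := by decide +kernel
  qt := by decide +kernel
  gt := by decide +kernel
  ht := by decide +kernel

/-- the block permutations -/
def α (j : Fin 3) : Perm (Fin 12) := (![c[0, 3] * c[6, 9], c[1, 4] * c[7, 10], c[2, 5] * c[8, 11]] :
  Fin 3 → Perm (Fin 12)) j
def β (j : Fin 3) : Perm (Fin 12) := (![c[0, 9] * c[3, 6], c[1, 10] * c[4, 7], c[2, 11] * c[5, 8]] :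
  Fin 3 → Perm (Fin 12)) j
def γ (j : Fin 3) : Perm (Fin 12) := (![c[1, 3, 9, 8, 7, 5, 2, 6, 4], c[0, 1, 4] * c[2, 7, 5] * c[3, 10, 9, 8, 6],
  c[0, 2, 8, 6, 3, 11, 10, 9, 7, 4] * c[1, 5]] : Fin 3 → Perm (Fin 12)) j

theorem sign_α : ∀ j, Perm.sign (α j) = 1 := by decide +kernel
theorem sign_β : ∀ j, Perm.sign (β j) = 1 := by decide +kernel
theorem sign_γ : ∀ j, Perm.sign (γ j) = 1 := by decide +kernel

def aα (j : Fin 3) : A12 := mk (α j) (sign_α j)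
def aβ (j : Fin 3) : A12 := mk (β j) (sign_β j)
def aγ (j : Fin 3) : A12 := mk (γ j) (sign_γ j)

theorem B1 : ∀ j, aγ j * q1 * (aγ j)⁻¹ = aα j := by decide +kernel
theorem B2 : ∀ j, aγ j * (t 0 * q1 * (t 0)⁻¹) * (aγ j)⁻¹ = aβ j := by decide +kernel
theorem B3 : ∀ i j, aα i * aβ j = aβ j * aα i := by decide +kernel
theorem B4 : ∀ i j, aβ i * aβ j = aβ j * aβ i := by decide +kernel
theorem B5 : ∀ i, (aγ i * t 0 * (aγ i)⁻¹) * aα i * (aγ i * t 0 * (aγ i)⁻¹)⁻¹ = aβ i := by decide +kernel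
theorem B6 : ∀ i, (aγ i * t 0 * (aγ i)⁻¹) * aβ i * (aγ i * t 0 * (aγ i)⁻¹)⁻¹ = aα i * aβ i := by decide +kernel
theorem B7 : ∀ i j, i ≠ j → (aγ i * t 0 * (aγ i)⁻¹) * aβ j * (aγ i * t 0 * (aγ i)⁻¹)⁻¹ = aβ j := by decide +kernel

def aτ : Fin 4 → Fin 4 := ![1, 0, 3, 2]
def bτ : Fin 4 → Fin 4 := ![3, 2, 1, 0]

theorem α_t : ∀ j, (aα 0 * (aα 1 * aα 2)) * t (aτ j) * (aα 0 * (aα 1 * aα 2))⁻¹ = t j := by decide +kernel
theorem β_t : ∀ j, (aβ 0 * (aβ 1 * aβ 2)) * t (bτ j) * (aβ 0 * (aβ 1 * aβ 2))⁻¹ = t j := by decide +kernel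

end Cfsg.Agent.H191.AltTab
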