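import Mathlib

/-!
# Commutators in central extensions by a group of exponent two
-/

set_option autoImplicit false

namespace Cfsg.Agent.H191.CentralComm

variable {G A : Type*} [Group G] [Group A]

/-- the commutator -/
def br (x y : G) : G := x * y * x⁻¹ * y⁻¹

theorem map_br (ψ : G →* A) (x y : G) : ψ (br x y) = br (ψ x) (ψ y) := by
  simp [br]

theorem br_eq_one {x y : G} (h : x * y = y * x) : br x y = 1 := by
  unfold br; rw [h]; group

theorem br_conj (g x y : G) : br (g * x * g⁻¹) (g * y * g⁻¹) = g * br x y * g⁻¹ := by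
  unfold br; group

section

variable (ψ : G →* A) (hcen : ∀ z, ψ z = 1 → ∀ g, z * g = g * z)

include hcen

theorem br_congr {x x' y y' : G} (hx : ψ x = ψ x') (hy : ψ y = ψ y') : br x y = br x' y' := by
  have h1 : ψ (x'⁻¹ * x) = 1 := by rw [map_mul, map_inv, hx, inv_mul_cancel]
  have h2 : ψ (y'⁻¹ * y) = 1 := by rw [map_mul, map_inv, hy, inv_mul_cancel]
  obtain ⟨z, hz⟩ : ∃ z, z = x'⁻¹ * x := ⟨_, rfl⟩
  obtain ⟨w, hw⟩ : ∃ w, w = y'⁻¹ * y := ⟨_, rfl⟩
  have hx' : x = x' * z := by rw [hz]; group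
  have hy' : y = y' * w := by rw [hw]; group
  have cz := hcen z (hz ▸ h1)
  have cw := hcen w (hw ▸ h2)
  have czi : ∀ g, z⁻¹ * g = g * z⁻¹ := fun g => by
    rw [inv_mul_eq_iff_eq_mul, ← mul_assoc, cz, mul_inv_cancel_right]
  have cwi : ∀ g, w⁻¹ * g = g * w⁻¹ := fun g => by
    rw [inv_mul_eq_iff_eq_mul, ← mul_assoc, cw, mul_inv_cancel_right]
  unfold br
  rw [hx', hy']
  calc x' * z * (y' * w) * (x' * z)⁻¹ * (y' * w)⁻¹
      = x' * (z * y') * (w * z⁻¹) * x'⁻¹ * w⁻¹ * y'⁻¹ := by group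
    _ = x' * (y' * z) * (z⁻¹ * w) * x'⁻¹ * w⁻¹ * y'⁻¹ := by rw [cz, cw]
    _ = x' * y' * (w * x'⁻¹) * w⁻¹ * y'⁻¹ := by group
    _ = x' * y' * (x'⁻¹ * w) * w⁻¹ * y'⁻¹ := by rw [cw]
    _ = _ := by group

theorem br_central {x y : G} (h : ψ x * ψ y = ψ y * ψ x) (g : G) : br x y * g = g * br x y :=
  hcen _ (by rw [map_br, br_eq_one h]) g

theorem br_mul_left {a b y : G} (h : ψ b * ψ y = ψ y * ψ b) : br (a * b) y = br a y * br b y := by
  have h1 := br_central ψ hcen h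
  calc br (a * b) y = a * (br b y * y) * a⁻¹ * y⁻¹ := by unfold br; group
    _ = a * y * (br b y * a⁻¹) * y⁻¹ := by rw [h1]; group
    _ = a * y * a⁻¹ * (br b y * y⁻¹) := by rw [h1]; group
    _ = _ := by rw [h1]; unfold br; group

theorem br_mul_right {x b c : G} (h : ψ x * ψ c = ψ c * ψ x) : br x (b * c) = br x b * br x c := by
  have h1 := br_central ψ hcen h
  calc br x (b * c) = x * b * x⁻¹ * (br x c * b⁻¹) := by unfold br; group
    _ = _ := by rw [h1]; unfold br; group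

variable (hψ : Function.Surjective ψ) (hexp : ∀ z, ψ z = 1 → z * z = 1)

include hψ in
/-- two fours groups, one of them inverted cyclically by an element centralising the other one -/
theorem br_eq_one_of {a b c : G} {d : A} (hac : ψ a * ψ c = ψ c * ψ a)
    (hbc : ψ b * ψ c = ψ c * ψ b) (h1 : d * ψ a * d⁻¹ = ψ b) (h2 : d * ψ b * d⁻¹ = ψ a * ψ b)
    (h3 : d * ψ c * d⁻¹ = ψ c) : br a c = 1 := by
  obtain ⟨D, rfl⟩ := hψ d
  have e1 : br a c = br b c := by
    have h4 := br_central ψ hcen hac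
    have h5 : br a c = D * br a c * D⁻¹ := by rw [← h4]; group
    rw [h5, ← br_conj]
    exact br_congr ψ hcen (by rw [map_mul, map_mul, map_inv, h1]) (by rw [map_mul, map_mul, map_inv, h3])
  have e2 : br b c = br a c * br b c := by
    have h4 := br_central ψ hcen hbc
    have h5 : br b c = D * br b c * D⁻¹ := by rw [← h4]; group
    have h6 : br (D * b * D⁻¹) (D * c * D⁻¹) = br (a * b) c :=
      br_congr ψ hcen (by rw [map_mul, map_mul, map_inv, h2, map_mul]) (by rw [map_mul, map_mul, map_inv, h3])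
    rw [br_conj, ← h5, br_mul_left ψ hcen hbc] at h6
    exact h6
  exact (mul_eq_right.1 e2.symm)

include hψ hexp in
theorem main {q q' : A} (hqq : q * q' = q' * q) (α β g : Fin 3 → A)
    (hα : ∀ j, g j * q * (g j)⁻¹ = α j) (hβ : ∀ j, g j * q' * (g j)⁻¹ = β j)
    (h0 : ∀ i j, α i * β j = β j * α i) (hββ : ∀ i j, β i * β j = β j * β i)
    (hd : ∀ i j, i ≠ j → ∃ d : A, d * α i * d⁻¹ = β i ∧ d * β i * d⁻¹ = α i * β i ∧ d * β j * d⁻¹ = β j)
    {x y X Y : G} (hx : ψ x = q) (hy : ψ y = q') (hX : ψ X = α 0 * (α 1 * α 2)) (hY : ψ Y = β 0 * (β 1 * β 2)) :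
    br X Y = br x y := by
  choose γ hγ using fun j => hψ (g j)
  obtain ⟨a, ha'⟩ : ∃ a : Fin 3 → G, ∀ j, a j = γ j * x * (γ j)⁻¹ := ⟨_, fun _ => rfl⟩
  obtain ⟨b, hb'⟩ : ∃ b : Fin 3 → G, ∀ j, b j = γ j * y * (γ j)⁻¹ := ⟨_, fun _ => rfl⟩
  have ha : ∀ j, ψ (a j) = α j := fun j => by
    rw [ha', map_mul, map_mul, map_inv, hγ, hx, hα]
  have hb : ∀ j, ψ (b j) = β j := fun j => by
    rw [hb', map_mul, map_mul, map_inv, hγ, hy, hβ]
  have hz := br_central ψ hcen (x := x) (y := y) (by rw [hx, hy, hqq])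
  have e1 : ∀ j, br (a j) (b j) = br x y := by
    intro j
    rw [ha', hb', br_conj, ← hz]; group
  have e2 : ∀ i j, i ≠ j → br (a i) (b j) = 1 := by
    intro i j hij
    obtain ⟨d, h1, h2, h3⟩ := hd i j hij
    exact br_eq_one_of ψ hcen hψ (a := a i) (b := b i) (c := b j) (d := d)
      (by rw [ha, hb, h0]) (by rw [hb, hb, hββ]) (by rw [ha, hb, h1]) (by rw [ha, hb, h2]) (by rw [hb, h3])
  have e3 : br X Y = br (a 0 * (a 1 * a 2)) (b 0 * (b 1 * b 2)) :=
    br_congr ψ hcen (by rw [hX, map_mul ψ (a 0), map_mul ψ (a 1), ha, ha, ha])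
      (by rw [hY, map_mul ψ (b 0), map_mul ψ (b 1), hb, hb, hb])
  have e4 : ∀ i, br (a i) (b 0 * (b 1 * b 2)) = br (a i) (b 0) * (br (a i) (b 1) * br (a i) (b 2)) := by
    intro i
    rw [br_mul_right ψ hcen, br_mul_right ψ hcen]
    · rw [ha, hb, h0]
    · rw [map_mul, ha, hb, hb]
      exact (Commute.mul_right (h0 i 1) (h0 i 2) : Commute _ _)
  have e5 : ∀ i, br (a i) (b 0 * (b 1 * b 2)) = br x y := by
    intro i
    rw [e4]
    fin_cases i
    · show br (a 0) (b 0) * (br (a 0) (b 1) * br (a 0) (b 2)) = _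
      rw [e1, e2 0 1 (by decide), e2 0 2 (by decide), mul_one, mul_one]
    · show br (a 1) (b 0) * (br (a 1) (b 1) * br (a 1) (b 2)) = _
      rw [e1, e2 1 0 (by decide), e2 1 2 (by decide), mul_one, one_mul]
    · show br (a 2) (b 0) * (br (a 2) (b 1) * br (a 2) (b 2)) = _
      rw [e1, e2 2 0 (by decide), e2 2 1 (by decide), one_mul, one_mul]
  have hc : ∀ i, ψ (a i) * ψ (b 0 * (b 1 * b 2)) = ψ (b 0 * (b 1 * b 2)) * ψ (a i) := by
    intro i
    rw [map_mul, map_mul, ha, hb, hb, hb]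
    exact (Commute.mul_right (h0 i 0) (Commute.mul_right (h0 i 1) (h0 i 2)) : Commute _ _)
  rw [e3, br_mul_left ψ hcen (by
    rw [map_mul ψ (a 1)]
    exact (Commute.mul_left (hc 1) (hc 2) : Commute _ _)), br_mul_left ψ hcen (hc 2), e5, e5, e5]
  have hzz : br x y * br x y = 1 := hexp _ (by rw [map_br, hx, hy, br_eq_one hqq])
  rw [hzz, mul_one]

end

end Cfsg.Agent.H191.CentralComm
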