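import Cfsg.Agent.H191.Kill
import Cfsg.Agent.H191.AltTab
import Cfsg.Agent.H191.CentralComm

/-!
# Small modules of covers of the alternating group of degree 12

`main`: `H` a finite group with a surjection to `A_12` whose kernel is the product of a normal `p`-subgroup and a central
subgroup of exponent two. In every `H`-module of dimension at most 27 in characteristic `p ≥ 5` the elements of order
three over two disjoint 3-cycles satisfy `(c_i - 1) (c_j - 1) = 0`.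
-/

set_option autoImplicit false

namespace Cfsg.Agent.H191.AltT

open Module Cfsg.Agent.H191.Lin Cfsg.Agent.H191.ConjFam Cfsg.Agent.H191.Kill Cfsg.Agent.H191.AltTab
  Cfsg.Agent.H191.CentralComm

/-- a cover of `A_12` -/
structure Cov {H : Type*} [Group H] (φ : H →* A12) (P Z : Subgroup H) : Prop where
  surj : Function.Surjective φ
  nor : P.Normal
  odd : ∀ x ∈ P, ∃ m : ℕ, Odd m ∧ x ^ m = 1
  kP : ∀ x ∈ P, φ x = 1
  cZ : ∀ z ∈ Z, ∀ g, z * g = g * z
  eZ : ∀ z ∈ Z, z * z = 1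
  kZ : ∀ z ∈ Z, φ z = 1
  dec : ∀ x, φ x = 1 → ∃ z ∈ Z, x * z⁻¹ ∈ P
  k3 : ¬ 3 ∣ Nat.card φ.ker

theorem hfact3 : Fact (Nat.Prime 3) := ⟨by norm_num⟩

section split

variable {k V : Type*} [Field k] [AddCommGroup V] [Module k V] {ω : k}

theorem omega_sum (hω1 : ω ≠ 1) (hω : ω ^ 3 = 1) : 1 + ω + ω ^ 2 = 0 := by
  have : (ω - 1) * (1 + ω + ω ^ 2) = 0 := by ring_nf; rw [hω]; ring
  rcases mul_eq_zero.1 this with h | h
  · exact absurd (sub_eq_zero.1 h) hω1
  · exact h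

/-- decomposition of a vector under an operator of order three -/
theorem exists_split {g : End k V} (h3 : (3 : k) ≠ 0) (hω1 : ω ≠ 1) (hω : ω ^ 3 = 1) (hg : g ^ 3 = 1) (x : V) :
    ∃ y : Fin 3 → V, x = ∑ i, y i ∧ (∀ i : Fin 3, g (y i) = ω ^ (i : ℕ) • y i) ∧
      ∀ (h : End k V) (μ : k), h * g = g * h → h x = μ • x → ∀ i, h (y i) = μ • y i := by
  have hggg : g (g (g x)) = x := by
    have := LinearMap.congr_fun hg x
    simpa [pow_succ, End.mul_apply] using this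
  have hs := omega_sum hω1 hω
  refine ⟨fun i => (3 : k)⁻¹ • (x + ω ^ (2 * (i : ℕ)) • g x + ω ^ (i : ℕ) • g (g x)), ?_, ?_, ?_⟩
  · rw [Fin.sum_univ_three]
    simp only [Fin.val_zero, Fin.val_one, Fin.val_two, mul_zero, pow_zero, one_smul, mul_one, pow_one]
    have e : (3 : k)⁻¹ • (x + g x + g (g x)) + (3 : k)⁻¹ • (x + ω ^ 2 • g x + ω • g (g x)) +
      (3 : k)⁻¹ • (x + ω ^ (2 * 2) • g x + ω ^ 2 • g (g x)) =
      ((3 : k)⁻¹ * 3) • x + ((3 : k)⁻¹ * (1 + ω ^ 2 + ω ^ 4)) • g x + ((3 : k)⁻¹ * (1 + ω + ω ^ 2)) • g (g x) := by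
      module
    have e4 : (1 : k) + ω ^ 2 + ω ^ 4 = 0 := by
      have : (1 : k) + ω ^ 2 + ω ^ 4 = (1 + ω + ω ^ 2) + ω * (ω ^ 3 - 1) := by ring
      rw [this, hs, hω]; ring
    rw [e, hs, e4, mul_zero, zero_smul, zero_smul, inv_mul_cancel₀ h3, one_smul, add_zero, add_zero]
  · intro i
    simp only [map_smul, map_add, hggg]
    have h1 : (ω ^ (i : ℕ)) ^ 3 = 1 := by rw [← pow_mul, mul_comm, pow_mul, hω, one_pow]
    have h2 : ω ^ (2 * (i : ℕ)) = (ω ^ (i : ℕ)) ^ 2 := by rw [← pow_mul, mul_comm]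
    rw [h2]
    generalize ω ^ (i : ℕ) = a at h1
    have e : a • (3 : k)⁻¹ • (x + a ^ 2 • g x + a • g (g x)) =
      (3 : k)⁻¹ • (a • x + (a ^ 3) • g x + a ^ 2 • g (g x)) := by module
    rw [e, h1, one_smul]
    module
  · intro h μ hgh hx i
    have h1 : h (g x) = μ • g x := by
      rw [← End.mul_apply, hgh, End.mul_apply, hx, map_smul]
    have h2 : h (g (g x)) = μ • g (g x) := by
      rw [← End.mul_apply h g, hgh, End.mul_apply, h1, map_smul]
    simp only [map_smul, map_add, hx, h1, h2]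
    module

end split

section

variable {k : Type*} [Field k] {p : ℕ} [hp : Fact p.Prime] [CharP k p] (hp5 : 5 ≤ p)

include hp hp5 in
theorem two_ne : (2 : k) ≠ 0 := by
  intro h
  have : p ∣ 2 := (CharP.cast_eq_zero_iff k p 2).1 (by exact_mod_cast h)
  have := Nat.le_of_dvd (by norm_num) this
  omega

include hp hp5 in
theorem three_ne : (3 : k) ≠ 0 := by
  intro h
  have : p ∣ 3 := (CharP.cast_eq_zero_iff k p 3).1 (by exact_mod_cast h)
  have := Nat.le_of_dvd (by norm_num) this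
  omega

theorem eq_one_of_pow_char {μ : k} {n : ℕ} (h : μ ^ p ^ n = 1) : μ = 1 := by
  have h1 : (μ - 1) ^ p ^ n = 0 := by
    rw [sub_pow_char_pow, h, one_pow, sub_self]
  exact sub_eq_zero.1 (pow_eq_zero_iff (pow_ne_zero n hp.out.ne_zero) |>.1 h1)

end

variable {k : Type*} [Field k] {p : ℕ} [hp : Fact p.Prime] [CharP k p]
  {H : Type*} [Group H] {φ : H →* A12} {P Z : Subgroup H} (C : Cov φ P Z)
  {V : Type*} [AddCommGroup V] [Module k V] (ρ : Representation k H V)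
  {c : Fin 4 → H} (hc : ∀ i j, c i * c j = c j * c i) (hc3 : ∀ i, c i ^ 3 = 1) (hcφ : ∀ i, φ (c i) = t i)
  {ω : k} (hω1 : ω ≠ 1) (hω : ω ^ 3 = 1)

/-- the weight spaces -/
def Wt (c : Fin 4 → H) (ω : k) (v : Fin 4 → Fin 3) : Submodule k V := W3 (fun i => ρ (c i)) ω v

theorem mem_Wt {c : Fin 4 → H} {ω : k} {v : Fin 4 → Fin 3} {x : V} :
    x ∈ Wt ρ c ω v ↔ ∀ i, ρ (c i) x = ω ^ (v i : ℕ) • x := mem_W3

theorem omega_two (hω : ω ^ 3 = 1) (a : Fin 3) : ω ^ ((2 * a : Fin 3) : ℕ) = (ω ^ (a : ℕ)) ^ 2 := by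
  fin_cases a
  · simp
  · show ω ^ 2 = (ω ^ 1) ^ 2
    rw [pow_one]
  · show ω ^ 1 = (ω ^ 2) ^ 2
    rw [← pow_mul, pow_one]
    have : ω ^ (2 * 2) = ω ^ 3 * ω := by ring
    rw [this, hω, one_mul]

include C hc hc3 hcφ hω in
theorem finrank_act_le [Finite H] [FiniteDimensional k V] (m : Fin 4) (v : Fin 4 → Fin 3) (U : Submodule k V)
    (hU : ∀ h, ∀ x ∈ U, ρ h x ∈ U) :
    finrank k (Wt ρ c ω v ⊓ U : Submodule k V) ≤ finrank k (Wt ρ c ω (act m v) ⊓ U : Submodule k V) := by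
  have : Fact (Nat.Prime 3) := hfact3
  obtain ⟨h, -, hh⟩ := exists_lift φ C.k3 (c := fun j => c (mτ m j)) (d := fun j => c j ^ (me m j : ℕ))
    (fun i j => hc _ _) (fun i => hc3 _)
    (fun i j => ((show Commute (c i) (c j) from hc i j).pow_pow _ _).eq)
    (fun i => by rw [← pow_mul, mul_comm, pow_mul, hc3, one_pow]) (a := mv m) (C.surj _)
    (fun i => by rw [hcφ, map_pow, hcφ, mv_t])
  have hmem : ∀ x ∈ (Wt ρ c ω v ⊓ U : Submodule k V), ρ h x ∈ (Wt ρ c ω (act m v) ⊓ U : Submodule k V) := by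
    rintro x ⟨hx, hxU⟩
    refine ⟨?_, hU h x hxU⟩
    rw [SetLike.mem_coe, mem_Wt] at hx ⊢
    intro j
    have e1 : ρ (c j ^ (me m j : ℕ)) (ρ h x) = ω ^ (v (mτ m j) : ℕ) • ρ h x := by
      rw [← End.mul_apply, ← map_mul, ← hh j, inv_mul_cancel_right, map_mul, End.mul_apply, hx, map_smul]
    rcases me_ne m j with h1 | h1
    · rw [h1] at e1
      have e2 : act m v j = v (mτ m j) := by rw [act, h1, one_mul]
      rw [e2]
      simpa using e1
    · rw [h1] at e1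
      have e2 : act m v j = 2 * v (mτ m j) := by rw [act, h1]
      rw [e2, omega_two hω]
      have e3 : c j = (c j ^ 2) ^ 2 := by rw [← pow_mul, pow_succ, hc3, one_mul]
      have e4 : ρ (c j ^ 2) (ρ h x) = ω ^ (v (mτ m j) : ℕ) • ρ h x := e1
      rw [e3, sq (c j ^ 2), map_mul, End.mul_apply, e4, map_smul, e4, smul_smul, sq]
  let T : (Wt ρ c ω v ⊓ U : Submodule k V) →ₗ[k] (Wt ρ c ω (act m v) ⊓ U : Submodule k V) := (ρ h).restrict hmem
  apply LinearMap.finrank_le_finrank_of_injective (f := T)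
  intro x y hxy
  have h1 : ρ h x = ρ h y := congrArg Subtype.val hxy
  have h2 := congrArg (ρ h⁻¹) h1
  rw [← End.mul_apply, ← End.mul_apply, ← map_mul, inv_mul_cancel, map_one] at h2
  exact Subtype.ext h2

include C hc hc3 hcφ hω in
theorem finrank_foldl_le [Finite H] [FiniteDimensional k V] (U : Submodule k V) (hU : ∀ h, ∀ x ∈ U, ρ h x ∈ U)
    (l : List (Fin 4)) (v : Fin 4 → Fin 3) :
    finrank k (Wt ρ c ω v ⊓ U : Submodule k V) ≤
      finrank k (Wt ρ c ω (l.foldl (fun w m => act m w) v) ⊓ U : Submodule k V) := by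
  induction l generalizing v with
  | nil => exact le_rfl
  | cons m l ih =>
    rw [List.foldl_cons]
    exact (finrank_act_le C ρ hc hc3 hcφ hω m v U hU).trans (ih _)

include C hc hc3 hcφ hω in
/-- the dimensions depend on the Hamming weight only -/
theorem finrank_le_of_hw [Finite H] [FiniteDimensional k V] (U : Submodule k V) (hU : ∀ h, ∀ x ∈ U, ρ h x ∈ U)
    {v v' : Fin 4 → Fin 3} (h : hw v = hw v') :
    finrank k (Wt ρ c ω v ⊓ U : Submodule k V) ≤ finrank k (Wt ρ c ω v' ⊓ U : Submodule k V) := by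
  have h1 := finrank_foldl_le C ρ hc hc3 hcφ hω U hU (pTo.getD (cd v) []) v
  have h2 := finrank_foldl_le C ρ hc hc3 hcφ hω U hU (pFr.getD (cd v') []) (rep (hw v'))
  rw [path_to] at h1
  rw [path_from] at h2
  rw [h] at h1
  exact h1.trans h2

/-- the number of weights of Hamming weight `j` in terms of the multiplicity -/
noncomputable def nn (c : Fin 4 → H) (ω : k) (j : Fin 5) : ℕ := finrank k (Wt ρ c ω (rep j))

theorem hw_rep : ∀ j, hw (rep j) = j := by decide +kernel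

include C hc hc3 hcφ hω in
theorem finrank_Wt [Finite H] [FiniteDimensional k V] (v : Fin 4 → Fin 3) :
    finrank k (Wt ρ c ω v) = nn ρ c ω (hw v) := by
  have h1 := finrank_le_of_hw C ρ hc hc3 hcφ hω ⊤ (fun _ _ _ => trivial) (v := v) (v' := rep (hw v))
    (hw_rep _).symm
  have h2 := finrank_le_of_hw C ρ hc hc3 hcφ hω ⊤ (fun _ _ _ => trivial) (v := rep (hw v)) (v' := v) (hw_rep _)
  rw [inf_top_eq, inf_top_eq] at h1 h2
  exact le_antisymm h1 h2

include C hc hc3 hcφ hω1 hω in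
theorem count [IsAlgClosed k] [Finite H] [FiniteDimensional k V] (h3 : (3 : k) ≠ 0) :
    nn ρ c ω 0 + 8 * nn ρ c ω 1 + 24 * nn ρ c ω 2 + 32 * nn ρ c ω 3 + 16 * nn ρ c ω 4 = finrank k V := by
  classical
  have h1 := sum_W3 (f := fun i => ρ (c i)) (fun i j => by
    show ρ (c i) * ρ (c j) = ρ (c j) * ρ (c i)
    rw [← map_mul, hc, map_mul]) (fun i => by rw [← map_pow, hc3, map_one]) h3 hω1 hω
  have h2 : ∀ v, finrank k (W3 (fun i => ρ (c i)) ω v) = nn ρ c ω (hw v) :=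
    fun v => finrank_Wt C ρ hc hc3 hcφ hω v
  simp only [h2] at h1
  rw [← h1, ← Finset.sum_fiberwise' Finset.univ hw (nn ρ c ω)]
  simp only [Finset.sum_const, card_hw, smul_eq_mul, Fin.sum_univ_five]
  simp only [Matrix.cons_val_zero, Matrix.cons_val_one, Matrix.cons_val]
  ring

/-! ### The kill lemma -/

/-- the centraliser of the last two elements of order three -/
def LL (c : Fin 4 → H) : Subgroup H where
  carrier := {h | ∀ i, 2 ≤ i → h * c i = c i * h}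
  one_mem' := fun i _ => by rw [one_mul, mul_one]
  mul_mem' := by
    intro a b ha hb i hi
    rw [mul_assoc, hb i hi, ← mul_assoc, ha i hi, mul_assoc]
  inv_mem' := by
    intro a ha i hi
    rw [inv_mul_eq_iff_eq_mul, ← mul_assoc, ha i hi, mul_inv_cancel_right]

/-- an eigenspace of the last two elements -/
def YY (c : Fin 4 → H) (ω : k) (a : Fin 3) : Submodule k V :=
  End.eigenspace (ρ (c 2)) (ω ^ (a : ℕ)) ⊓ End.eigenspace (ρ (c 3)) ω

theorem mem_YY {c : Fin 4 → H} {ω : k} {a : Fin 3} {x : V} :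
    x ∈ YY ρ c ω a ↔ ρ (c 2) x = ω ^ (a : ℕ) • x ∧ ρ (c 3) x = ω • x := by
  unfold YY
  rw [Submodule.mem_inf, End.mem_eigenspace_iff, End.mem_eigenspace_iff]

theorem YY_inv {c : Fin 4 → H} {ω : k} {a : Fin 3} {h : H} (hh : h ∈ LL c) {x : V} (hx : x ∈ YY ρ c ω a) :
    ρ h x ∈ YY ρ c ω a := by
  rw [mem_YY] at hx ⊢
  have h2 := hh 2 le_rfl
  have h3 := hh 3 (by decide)
  constructor
  · rw [← End.mul_apply, ← map_mul, ← h2, map_mul, End.mul_apply, hx.1, map_smul]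
  · rw [← End.mul_apply, ← map_mul, ← h3, map_mul, End.mul_apply, hx.2, map_smul]

/-- the representation on `YY` -/
noncomputable def sg (c : Fin 4 → H) (ω : k) (a : Fin 3) : Representation k (LL c) (YY ρ c ω a : Submodule k V) where
  toFun h := (ρ (h : H)).restrict fun _ hx => YY_inv ρ h.2 hx
  map_one' := by
    refine LinearMap.ext fun x => Subtype.ext ?_
    show ρ ((1 : LL c) : H) x = x
    rw [Subgroup.coe_one, map_one]; rfl
  map_mul' := fun g h => by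
    refine LinearMap.ext fun x => Subtype.ext ?_
    show ρ ((g * h : LL c) : H) x = ρ g (ρ h x)
    rw [Subgroup.coe_mul, map_mul]; rfl

theorem sg_apply {c : Fin 4 → H} {ω : k} {a : Fin 3} (h : LL c) (x : (YY ρ c ω a : Submodule k V)) :
    (sg ρ c ω a h x : V) = ρ (h : H) x := rfl

include C hc hc3 hcφ in
theorem exists_LL [Finite H] {x : A12} (hx : ∀ i, 2 ≤ i → x * t i = t i * x) : ∃ h ∈ LL c, φ h = x := by
  have : Fact (Nat.Prime 3) := hfact3
  obtain ⟨h, h1, h2⟩ := exists_lift φ C.k3 (c := fun i : {i : Fin 4 // 2 ≤ i} => c i)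
    (d := fun i : {i : Fin 4 // 2 ≤ i} => c i) (fun _ _ => hc _ _) (fun _ => hc3 _) (fun _ _ => hc _ _)
    (fun _ => hc3 _) (a := x) (C.surj x) (fun i => by rw [hcφ, hx i i.2, mul_inv_cancel_right])
  refine ⟨h, fun i hi => ?_, h1⟩
  have := h2 ⟨i, hi⟩
  rw [mul_inv_eq_iff_eq_mul] at this
  exact this

include C hc hc3 hcφ in
theorem core [IsAlgClosed k] [Finite H] [FiniteDimensional k V] (h2 : (2 : k) ≠ 0) (a : Fin 3) {d q g h : A12}
    (K : Kit d q g h) {x : H} (hxL : x ∈ LL c) (hx3 : x ^ 3 = 1) (hxd : φ x = d)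
    (hfix : ∀ y ∈ YY ρ c ω a, ρ x y = y → y = 0)
    (hcomm : ∀ s ∈ LL c, ∀ s' ∈ LL c, IsPGroup 2 (Subgroup.closure {s, s'}) → φ s = q → φ s' = d * q * d⁻¹ →
      ∀ y ∈ YY ρ c ω a, ρ (s * s') y = ρ (s' * s) y) : ∀ y ∈ YY ρ c ω a, ρ (c 0) y = y := by
  classical
  have : Fact (Nat.Prime 2) := ⟨by norm_num⟩
  let ψ : LL c →* A12 := φ.comp (LL c).subtype
  have hk : ¬ 3 ∣ Nat.card ψ.ker := by
    intro hd
    apply C.k3
    let e : ψ.ker →* φ.ker :=
      { toFun := fun x => ⟨((x : LL c) : H), x.2⟩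
        map_one' := rfl
        map_mul' := fun _ _ => rfl }
    refine hd.trans (Subgroup.card_dvd_of_injective e ?_)
    intro x y hxy
    apply Subtype.ext
    apply Subtype.ext
    exact congrArg (fun z : φ.ker => (z : H)) hxy
  set q' := d * q * d⁻¹ with hq'
  let Q : Subgroup A12 := Subgroup.closure (Set.range ![q, q'])
  have hqq' : q' * q' = 1 := by
    have : q' * q' = d * (q * q) * d⁻¹ := by rw [hq']; group
    rw [this, K.qq]; simp
  have hQ : IsPGroup 2 Q := by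
    apply isPGroup_closure
    · intro i j
      fin_cases i <;> fin_cases j
      · rfl
      · exact K.comm
      · exact K.comm.symm
      · rfl
    · intro i
      fin_cases i
      · show q ^ 2 = 1
        rw [sq, K.qq]
      · show q' ^ 2 = 1
        rw [sq, hqq']
  have hqQ : q ∈ Q := Subgroup.subset_closure ⟨0, rfl⟩
  have hq'Q : q' ∈ Q := Subgroup.subset_closure ⟨1, rfl⟩
  have hdt : ∀ i, 2 ≤ i → d * t i = t i * d := by
    intro i hi
    have := congrArg φ (hxL i hi)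
    rwa [map_mul, map_mul, hxd, hcφ] at this
  have hQr : Q ≤ ψ.range := by
    rw [Subgroup.closure_le]
    rintro _ ⟨i, rfl⟩
    have hq't : ∀ i, 2 ≤ i → q' * t i = t i * q' := by
      intro i hi
      have c1 : Commute d (t i) := hdt i hi
      have c2 : Commute q (t i) := K.qt i hi
      exact ((c1.mul_left c2).mul_left c1.inv_left).eq
    fin_cases i
    · obtain ⟨h, hL, he⟩ := exists_LL C hc hc3 hcφ K.qt
      exact ⟨⟨h, hL⟩, he⟩
    · obtain ⟨h, hL, he⟩ := exists_LL C hc hc3 hcφ hq't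
      exact ⟨⟨h, hL⟩, he⟩
  have hQd : ∀ z : A12, z ∈ Q ↔ d * z * d⁻¹ ∈ Q := by
    have h1 : ∀ z ∈ Q, d * z * d⁻¹ ∈ Q := by
      intro z hz
      have : Q ≤ Q.comap (MulAut.conj d).toMonoidHom := by
        show Subgroup.closure (Set.range ![q, q']) ≤ _
        rw [Subgroup.closure_le]
        rintro _ ⟨i, rfl⟩
        fin_cases i
        · show d * q * d⁻¹ ∈ Q
          exact hq'Q
        · show d * q' * d⁻¹ ∈ Q
          rw [K.cyc]
          exact Q.mul_mem hqQ hq'Q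
      exact this hz
    have hd3 : d ^ 3 = 1 := by rw [← hxd, ← map_pow, hx3, map_one]
    intro z
    refine ⟨h1 z, fun hz => ?_⟩
    have h4 := h1 _ (h1 _ hz)
    have h5 : d * (d * (d * z * d⁻¹) * d⁻¹) * d⁻¹ = d ^ 3 * z * (d ^ 3)⁻¹ := by
      simp only [pow_succ, pow_zero, one_mul]; group
    rw [h5, hd3] at h4
    simpa using h4
  obtain ⟨r, hr1, hr2⟩ := kill ψ hk (sg ρ c ω a) h2 Q hQ hQr hQd (c := ⟨x, hxL⟩) (Subtype.ext hx3) hxd
    (by
      rintro ⟨y, hy⟩ hxy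
      exact Subtype.ext (hfix y hy (congrArg Subtype.val hxy))) hqQ (by
      intro s s' hss hs hs'
      refine LinearMap.ext fun y => Subtype.ext ?_
      have hcl : IsPGroup 2 (Subgroup.closure {(s : H), (s' : H)}) := by
        have h6 : Subgroup.closure {(s : H), (s' : H)} = (Subgroup.closure {s, s'}).map (LL c).subtype := by
          rw [MonoidHom.map_closure, Set.image_pair]; rfl
        rw [h6]
        exact hss.map _
      exact hcomm s s.2 s' s'.2 hcl hs hs' y y.2)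
  obtain ⟨G, hG, hGe⟩ := exists_LL C hc hc3 hcφ K.gt
  obtain ⟨G', hG', hGe'⟩ := exists_LL C hc hc3 hcφ K.ht
  let r0 : LL c := (⟨G, hG⟩ * r * ⟨G, hG⟩⁻¹) * (⟨G', hG'⟩ * r * ⟨G', hG'⟩⁻¹)
  have hr0 : sg ρ c ω a r0 = 1 := by
    have e : ∀ u : LL c, sg ρ c ω a (u * r * u⁻¹) = 1 := by
      intro u
      rw [map_mul, map_mul, hr2, mul_one, ← map_mul, mul_inv_cancel, map_one]
    show sg ρ c ω a (_ * _) = 1
    rw [map_mul, e, e, mul_one]
  have hψr0 : ψ r0 = t 0 := by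
    have e : ∀ u : LL c, ψ (u * r * u⁻¹) = ψ u * (d * q * d⁻¹ * q⁻¹) * (ψ u)⁻¹ := by
      intro u
      rw [map_mul, map_mul, map_inv, hr1]
    show ψ (_ * _) = t 0
    rw [map_mul, e, e]
    have e1 : ψ ⟨G, hG⟩ = g := hGe
    have e2 : ψ ⟨G', hG'⟩ = h := hGe'
    rw [e1, e2]
    exact K.prod
  have hc0 : c 0 ∈ LL c := fun i _ => hc 0 i
  have h8 := kill_three ψ hk (sg ρ c ω a) (r := r0) (c := ⟨c 0, hc0⟩) hr0 (Subtype.ext (hc3 0))
    (by rw [hψr0]; exact (hcφ 0).symm)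
  intro y hy
  have h9 := LinearMap.congr_fun h8 ⟨y, hy⟩
  exact congrArg Subtype.val h9

/-! ### Central elements -/

include C in
omit [CharP k p] in
theorem mem_Z (hp5 : 5 ≤ p) {x : H} (hx : φ x = 1) {n : ℕ} (hn : x ^ 2 ^ n = 1) : x ∈ Z := by
  obtain ⟨z, hz, hu⟩ := C.dec x hx
  obtain ⟨m, hmo, hm'⟩ := C.odd _ hu
  have hcz : Commute x z⁻¹ := (show Commute x z from (C.cZ z hz x).symm).inv_right
  have h1 : (x * z⁻¹) ^ 2 ^ (n + 1) = 1 := by
    have e1 : x ^ 2 ^ (n + 1) = 1 := by rw [pow_succ, pow_mul, hn, one_pow]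
    have e2 : z⁻¹ ^ 2 ^ (n + 1) = 1 := by
      rw [pow_succ', pow_mul, inv_pow, sq, C.eZ z hz, inv_one, one_pow]
    rw [hcz.mul_pow, e1, e2, one_mul]
  have hcop : Nat.Coprime m (2 ^ (n + 1)) := Nat.Coprime.pow_right _ (Nat.coprime_two_right.2 hmo)
  have h2 : orderOf (x * z⁻¹) ∣ 1 := by
    rw [← hcop]
    exact Nat.dvd_gcd (orderOf_dvd_of_pow_eq_one hm') (orderOf_dvd_of_pow_eq_one h1)
  have h3 : x * z⁻¹ = 1 := orderOf_eq_one_iff.1 (Nat.dvd_one.1 h2)
  rw [mul_inv_eq_one.1 h3]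
  exact hz

include C in
omit [CharP k p] in
theorem br_mem_Z (hp5 : 5 ≤ p) {s s' : H} (h : IsPGroup 2 (Subgroup.closure {s, s'})) (hs : φ s * φ s' = φ s' * φ s) :
    br s s' ∈ Z := by
  have h1 : s ∈ Subgroup.closure {s, s'} := Subgroup.subset_closure (by simp)
  have h2 : s' ∈ Subgroup.closure {s, s'} := Subgroup.subset_closure (by simp)
  have h3 : br s s' ∈ Subgroup.closure {s, s'} :=
    mul_mem (mul_mem (mul_mem h1 h2) (inv_mem h1)) (inv_mem h2)
  obtain ⟨n, hn⟩ := h ⟨_, h3⟩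
  exact mem_Z C hp5 (by rw [map_br, br_eq_one hs]) (congrArg Subtype.val hn)

include C hc hc3 hcφ hω in
theorem le_of_fixed [Finite H] [FiniteDimensional k V] {z : H} (hz : z ∈ Z) {v0 : Fin 4 → Fin 3}
    (h1 : finrank k (Wt ρ c ω v0) = 1) {w : V} (hw0 : w ≠ 0) (hwm : w ∈ Wt ρ c ω v0) (hzw : ρ z w = w)
    {v : Fin 4 → Fin 3} (hv : hw v0 = hw v) {x : V} (hx : x ∈ Wt ρ c ω v) : ρ z x = x := by
  let U : Submodule k V := End.eigenspace (ρ z) 1
  have hU : ∀ h, ∀ x ∈ U, ρ h x ∈ U := by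
    intro h x hx
    rw [End.mem_eigenspace_iff, one_smul] at hx ⊢
    rw [← End.mul_apply, ← map_mul, C.cZ z hz, map_mul, End.mul_apply, hx]
  have h2 := finrank_le_of_hw C ρ hc hc3 hcφ hω U hU hv
  have h3 : 0 < finrank k (Wt ρ c ω v0 ⊓ U : Submodule k V) := by
    rw [Module.finrank_pos_iff_exists_ne_zero]
    refine ⟨⟨w, hwm, ?_⟩, ?_⟩
    · show w ∈ U
      rw [End.mem_eigenspace_iff, one_smul, hzw]
    · intro h
      exact hw0 (congrArg Subtype.val h)
  have h4 : finrank k (Wt ρ c ω v) = 1 := by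
    rw [finrank_Wt C ρ hc hc3 hcφ hω v, ← hv, ← finrank_Wt C ρ hc hc3 hcφ hω v0, h1]
  have h5 : (Wt ρ c ω v ⊓ U : Submodule k V) = Wt ρ c ω v := by
    apply Submodule.eq_of_le_of_finrank_le inf_le_left
    omega
  have h6 : x ∈ (Wt ρ c ω v ⊓ U : Submodule k V) := h5.symm ▸ hx
  have h7 : x ∈ U := h6.2
  rwa [End.mem_eigenspace_iff, one_smul] at h7

include hc hc3 hω1 hω in
theorem YY_decomp (h3 : (3 : k) ≠ 0) {a : Fin 3} {x : V} (hx : x ∈ YY ρ c ω a) :
    ∃ z : Fin 3 → Fin 3 → V, x = ∑ i, ∑ j, z i j ∧ (∀ i j, z i j ∈ Wt ρ c ω ![i, j, a, 1]) ∧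
      ∀ (h : End k V) (μ : k), h * ρ (c 0) = ρ (c 0) * h → h * ρ (c 1) = ρ (c 1) * h → h x = μ • x →
        ∀ i j, h (z i j) = μ • z i j := by
  rw [mem_YY] at hx
  have hcm : ∀ i j, ρ (c i) * ρ (c j) = ρ (c j) * ρ (c i) := fun i j => by rw [← map_mul, hc, map_mul]
  have hc3' : ∀ i, ρ (c i) ^ 3 = 1 := fun i => by rw [← map_pow, hc3, map_one]
  obtain ⟨y, hy1, hy2, hy3⟩ := exists_split h3 hω1 hω (hc3' 0) x
  choose z hz1 hz2 hz3 using fun i => exists_split h3 hω1 hω (hc3' 1) (y i)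
  refine ⟨z, ?_, ?_, ?_⟩
  · rw [hy1]
    exact Finset.sum_congr rfl fun i _ => hz1 i
  · intro i j
    rw [mem_Wt]
    intro l
    fin_cases l
    · exact hz3 i _ _ (hcm 0 1) (hy2 i) j
    · exact hz2 i j
    · exact hz3 i _ _ (hcm 2 1) (hy3 _ _ (hcm 2 0) hx.1 i) j
    · have : ρ (c 3) (z i j) = ω • z i j := hz3 i _ _ (hcm 3 1) (hy3 _ _ (hcm 3 0) hx.2 i) j
      show ρ (c 3) (z i j) = ω ^ 1 • z i j
      rw [pow_one, this]
  · intro h μ h0 h1 hx i j
    exact hz3 i _ _ h1 (hy3 _ _ h0 hx i) j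

include C hc hc3 hcφ hω in
theorem Wt_eq_bot [Finite H] [FiniteDimensional k V] {v : Fin 4 → Fin 3} (h : nn ρ c ω (hw v) = 0) :
    Wt ρ c ω v = ⊥ := by
  rw [← finrank_Wt C ρ hc hc3 hcφ hω v] at h
  exact Submodule.finrank_eq_zero.1 h

include hω1 hω in
theorem smul_eq_self {a : Fin 3} (ha : a ≠ 0) {x : V} (h : ω ^ (a : ℕ) • x = x) : x = 0 := by
  by_contra hx
  have h1 : (ω ^ (a : ℕ) - 1) • x = 0 := by rw [sub_smul, one_smul, h, sub_self]
  rcases smul_eq_zero.1 h1 with h2 | h2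
  · apply ha
    apply omega_pow_inj hω1 hω
    rw [sub_eq_zero.1 h2, Fin.val_zero, pow_zero]
  · exact hx h2

/-- scalars on a line -/
theorem exists_scalar {W : Submodule k V} [FiniteDimensional k V] (h1 : finrank k W = 1) {w : V} (hw0 : w ≠ 0)
    (hw : w ∈ W) {x : V} (hx : x ∈ W) : ∃ μ : k, x = μ • w := by
  obtain ⟨v, hv0, hv⟩ := finrank_eq_one_iff'.1 h1
  obtain ⟨a, ha⟩ := hv ⟨w, hw⟩
  obtain ⟨b, hb⟩ := hv ⟨x, hx⟩
  have ha' : a • (v : V) = w := congrArg Subtype.val ha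
  have hb' : b • (v : V) = x := congrArg Subtype.val hb
  have ha0 : a ≠ 0 := by
    rintro rfl
    rw [zero_smul] at ha'
    exact hw0 ha'.symm
  refine ⟨b * a⁻¹, ?_⟩
  rw [← ha', smul_smul, mul_assoc, inv_mul_cancel₀ ha0, mul_one, hb']

/-- two operators preserving a line commute on it -/
theorem br_fix {w : V} {g h : H} {a b : k} (hw0 : w ≠ 0) (hg : ρ g w = a • w) (hh : ρ h w = b • w) :
    ρ (br g h) w = w := by
  have inv : ∀ (g : H) (a : k), ρ g w = a • w → ρ g⁻¹ w = a⁻¹ • w := by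
    intro g a hg
    have h1 : ρ g⁻¹ (ρ g w) = w := by rw [← End.mul_apply, ← map_mul, inv_mul_cancel, map_one, End.one_apply]
    have ha : a ≠ 0 := by
      rintro rfl
      rw [hg, zero_smul, map_zero] at h1
      exact hw0 h1.symm
    rw [hg, map_smul] at h1
    rw [← h1, smul_smul, inv_mul_cancel₀ ha, one_smul, h1]
  have ha : a ≠ 0 := by
    rintro rfl
    have h1 : ρ g⁻¹ (ρ g w) = w := by rw [← End.mul_apply, ← map_mul, inv_mul_cancel, map_one, End.one_apply]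
    rw [hg, zero_smul, map_zero] at h1
    exact hw0 h1.symm
  have hb : b ≠ 0 := by
    rintro rfl
    have h1 : ρ h⁻¹ (ρ h w) = w := by rw [← End.mul_apply, ← map_mul, inv_mul_cancel, map_one, End.one_apply]
    rw [hh, zero_smul, map_zero] at h1
    exact hw0 h1.symm
  unfold br
  rw [map_mul, map_mul, map_mul, End.mul_apply, End.mul_apply, End.mul_apply, inv h b hh]
  simp only [map_smul, inv g a hg, hh, hg, smul_smul]
  have : b⁻¹ * a⁻¹ * b * a = 1 := by field_simp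
  rw [this, one_smul]

/-! ### The two cases -/

theorem br_eq (x y : H) : x * y = br x y * (y * x) := by unfold br; group

theorem hw_facts : (∀ i j : Fin 3, i ≠ 0 → j ≠ 0 → hw ![i, j, 1, 1] = 4) ∧
    (∀ i j : Fin 3, i = 0 ∨ j = 0 → hw ![i, j, 1, 1] = 2 ∨ hw ![i, j, 1, 1] = 3) ∧
    (∀ i j : Fin 3, ¬ (i = 0 ∧ j = 0) → hw ![i, j, 1, 1] = 3 ∨ hw ![i, j, 1, 1] = 4) ∧
    (∀ i j : Fin 3, hw ![i, j, 0, 1] = 2 → (i = 0 ∧ j ≠ 0) ∨ (i ≠ 0 ∧ j = 0)) ∧
    (∀ i j : Fin 3, hw ![i, j, 0, 1] = 1 ∨ hw ![i, j, 0, 1] = 2 ∨ hw ![i, j, 0, 1] = 3) ∧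
    hw ![0, 0, 1, 1] = 2 ∧ hw ![1, 0, 0, 1] = 2 ∧ hw ![1, 1, 1, 1] = 4 := by decide +kernel

theorem q1_comm : q1 * (t 0 * q1 * (t 0)⁻¹) = (t 0 * q1 * (t 0)⁻¹) * q1 := kit1.comm

include C hc hc3 hcφ hω1 hω in
/-- weights of Hamming weight 4 -/
theorem case_four [IsAlgClosed k] [Finite H] [FiniteDimensional k V] (hp5 : 5 ≤ p) (h4 : nn ρ c ω 4 = 1)
    (h2 : nn ρ c ω 2 = 0) (h3 : nn ρ c ω 3 = 0) : False := by
  have k3 : (3 : k) ≠ 0 := three_ne (p := p) hp5
  have k2 : (2 : k) ≠ 0 := two_ne (p := p) hp5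
  have : Fact (Nat.Prime 3) := hfact3
  obtain ⟨f1, f2, f3, -, -, -, -, f4⟩ := hw_facts
  have hbot : ∀ i j : Fin 3, i = 0 ∨ j = 0 → Wt ρ c ω ![i, j, 1, 1] = ⊥ := by
    intro i j hij
    apply Wt_eq_bot C ρ hc hc3 hcφ hω
    rcases f2 i j hij with h | h
    · rw [h, h2]
    · rw [h, h3]
  have hd1 : finrank k (Wt ρ c ω ![1, 1, 1, 1]) = 1 := by
    rw [finrank_Wt C ρ hc hc3 hcφ hω, f4, h4]
  obtain ⟨w, hwm, hw0⟩ : ∃ w ∈ Wt ρ c ω ![1, 1, 1, 1], w ≠ 0 := by
    apply Submodule.exists_mem_ne_zero_of_ne_bot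
    intro h
    rw [h, finrank_bot] at hd1
    exact zero_ne_one hd1
  have hwc : ∀ i, ρ (c i) w = ω • w := by
    intro i
    have h5 := (mem_Wt ρ).1 hwm i
    have h6 : (![1, 1, 1, 1] : Fin 4 → Fin 3) i = 1 := by fin_cases i <;> rfl
    rw [h6] at h5
    simpa using h5
  -- elements of `A_12` permuting the four 3-cycles act on `w` by scalars
  have hscal : ∀ (τ : Fin 4 → Fin 4) (a : A12), (∀ j, a * t (τ j) * a⁻¹ = t j) → ∃ h, φ h = a ∧ ∃ μ : k,
      ρ h w = μ • w := by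
    intro τ a ha
    obtain ⟨h, hh, hh'⟩ := exists_lift φ C.k3 (c := fun j => c (τ j)) (d := c) (fun i j => hc _ _)
      (fun i => hc3 _) hc hc3 (a := a) (C.surj a) (fun i => by rw [hcφ, hcφ, ha])
    refine ⟨h, hh, ?_⟩
    obtain ⟨μ, hμ⟩ := exists_scalar (W := Wt ρ c ω ![1, 1, 1, 1]) hd1 hw0 hwm (x := ρ h w) (by
      rw [mem_Wt]
      intro i
      have h6 : (![1, 1, 1, 1] : Fin 4 → Fin 3) i = 1 := by fin_cases i <;> rfl
      rw [h6, ← End.mul_apply, ← map_mul, ← hh' i, inv_mul_cancel_right, map_mul, End.mul_apply, hwc, map_smul]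
      simp)
    exact ⟨μ, hμ⟩
  obtain ⟨A, hA, μ, hAw⟩ := hscal aτ _ α_t
  obtain ⟨B, hB, ν, hBw⟩ := hscal bτ _ β_t
  have hABw : ρ (br A B) w = w := br_fix ρ hw0 hAw hBw
  -- the kill lemma
  have hfix1 : ∀ y ∈ YY ρ c ω 1, ρ (c 0) y = y → y = 0 := by
    intro y hy hy0
    obtain ⟨z, hz1, hz2, hz3⟩ := YY_decomp ρ hc hc3 hω1 hω k3 hy
    rw [hz1]
    refine Finset.sum_eq_zero fun i _ => Finset.sum_eq_zero fun j _ => ?_
    by_cases hi : i = 0
    · have := hz2 i j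
      rw [hbot i j (Or.inl hi)] at this
      exact (Submodule.mem_bot k).1 this
    · have h5 := hz3 (ρ (c 0)) 1 rfl (by rw [← map_mul, hc, map_mul]) (by rw [one_smul, hy0]) i j
      have h6 := (mem_Wt ρ).1 (hz2 i j) 0
      rw [one_smul] at h5
      rw [h5] at h6
      exact smul_eq_self hω1 hω hi h6.symm
  have hcore := core C ρ hc hc3 hcφ k2 1 kit1 (x := c 0) (fun i _ => hc 0 i) (hc3 0) (hcφ 0) hfix1 (by
    intro s hs s' hs' hss hsq hsq' y hy
    have hz : br s s' ∈ Z := br_mem_Z C hp5 hss (by rw [hsq, hsq', q1_comm])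
    set z := br s s' with hzdef
    -- comparison modulo `P`
    have hPn := C.nor
    let ψ : H ⧸ P →* A12 := QuotientGroup.lift P φ C.kP
    have hψ : ∀ x : H, ψ (x : H ⧸ P) = φ x := fun x => rfl
    have hψker : ∀ g : H ⧸ P, ψ g = 1 → ∃ z ∈ Z, g = ((z : H) : H ⧸ P) := by
      intro g hg
      obtain ⟨x, rfl⟩ := QuotientGroup.mk_surjective g
      obtain ⟨z, hz, hu⟩ := C.dec x hg
      refine ⟨z, hz, ?_⟩
      rw [eq_comm, QuotientGroup.eq]
      have : z⁻¹ * x = x * z⁻¹ := by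
        rw [inv_mul_eq_iff_eq_mul, ← mul_assoc, C.cZ z hz, mul_inv_cancel_right]
      rw [this]; exact hu
    have hcen : ∀ z : H ⧸ P, ψ z = 1 → ∀ g, z * g = g * z := by
      intro g hg x
      obtain ⟨z, hz, rfl⟩ := hψker g hg
      obtain ⟨x, rfl⟩ := QuotientGroup.mk_surjective x
      rw [← QuotientGroup.mk_mul, ← QuotientGroup.mk_mul, C.cZ z hz]
    have hexp : ∀ z : H ⧸ P, ψ z = 1 → z * z = 1 := by
      intro g hg
      obtain ⟨z, hz, rfl⟩ := hψker g hg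
      rw [← QuotientGroup.mk_mul, C.eZ z hz, QuotientGroup.mk_one]
    have hsurj : Function.Surjective ψ := by
      intro a
      obtain ⟨x, rfl⟩ := C.surj a
      exact ⟨x, rfl⟩
    have hmain := CentralComm.main ψ hcen hsurj hexp q1_comm aα aβ aγ B1 B2 B3 B4
      (fun i j hij => ⟨_, B5 i, B6 i, B7 i j hij⟩) (x := (s : H ⧸ P)) (y := (s' : H ⧸ P)) (X := (A : H ⧸ P))
      (Y := (B : H ⧸ P)) (by rw [hψ, hsq]) (by rw [hψ, hsq']) (by rw [hψ, hA]) (by rw [hψ, hB])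
    have hu : z⁻¹ * br A B ∈ P := by
      rw [← QuotientGroup.eq]
      exact hmain.symm
    -- `z` acts trivially on `w`
    have hzw : ρ z w = w := by
      obtain ⟨μ, hμ⟩ := exists_scalar (W := Wt ρ c ω ![1, 1, 1, 1]) hd1 hw0 hwm (x := ρ z w) (by
        rw [mem_Wt]
        intro i
        rw [← End.mul_apply, ← map_mul, ← C.cZ z hz, map_mul, End.mul_apply, (mem_Wt ρ).1 hwm i, map_smul])
      have h5 : ρ (br A B) w = μ • ρ (z⁻¹ * br A B) w := by
        have : br A B = (z⁻¹ * br A B) * z := by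
          rw [← C.cZ z hz, mul_inv_cancel_left]
        nth_rewrite 1 [this]
        rw [map_mul ρ (z⁻¹ * br A B) z, End.mul_apply, hμ, map_smul]
      rw [hABw] at h5
      have hμ0 : μ ≠ 0 := by
        rintro rfl
        rw [zero_smul] at h5
        exact hw0 h5
      have h6 : ρ (z⁻¹ * br A B) w = μ⁻¹ • w := by
        have := congrArg (fun v => μ⁻¹ • v) h5
        simp only [smul_smul, inv_mul_cancel₀ hμ0, one_smul] at this
        exact this.symm
      obtain ⟨m, hmo, hm'⟩ := C.odd _ hu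
      have h7 := Lin.pow_eq_one_of_eigen h6 hw0 (n := m) (by rw [← map_pow, hm', map_one])
      have h9 := Lin.pow_eq_one_of_eigen hμ hw0 (n := 2) (by rw [← map_pow, sq, C.eZ z hz, map_one])
      have h8 : μ⁻¹ = 1 := by
        have e1 : orderOf μ⁻¹ ∣ m := orderOf_dvd_of_pow_eq_one h7
        have e2 : orderOf μ⁻¹ ∣ 2 := orderOf_dvd_of_pow_eq_one (by rw [inv_pow, h9, inv_one])
        have e3 := Nat.dvd_gcd e1 e2
        rw [Nat.coprime_two_right.2 hmo] at e3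
        exact orderOf_eq_one_iff.1 (Nat.dvd_one.1 e3)
      rw [hμ, inv_eq_one.1 h8, one_smul]
    have hzy : ∀ y ∈ YY ρ c ω 1, ρ z y = y := by
      intro y hy
      obtain ⟨v, hz1, hz2, -⟩ := YY_decomp ρ hc hc3 hω1 hω k3 hy
      rw [hz1, map_sum]
      refine Finset.sum_congr rfl fun i _ => ?_
      rw [map_sum]
      refine Finset.sum_congr rfl fun j _ => ?_
      by_cases hij : i = 0 ∨ j = 0
      · have := hz2 i j
        rw [hbot i j hij, Submodule.mem_bot] at this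
        rw [this, map_zero]
      · push Not at hij
        exact le_of_fixed C ρ hc hc3 hcφ hω hz hd1 hw0 hwm hzw (by rw [f4, f1 i j hij.1 hij.2]) (hz2 i j)
    rw [br_eq s s', map_mul, End.mul_apply]
    exact hzy _ (YY_inv ρ ((LL c).mul_mem hs' hs) hy))
  have h5 := hcore w ((mem_YY ρ).2 ⟨by simpa using hwc 2, hwc 3⟩)
  have h6 : w = 0 := hfix1 w ((mem_YY ρ).2 ⟨by simpa using hwc 2, hwc 3⟩) h5
  exact hw0 h6

include C hc hc3 hcφ hω1 hω in
/-- weights of Hamming weight 2 -/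
theorem case_two [IsAlgClosed k] [Finite H] [FiniteDimensional k V] (hp5 : 5 ≤ p) (h2 : nn ρ c ω 2 = 1)
    (h1 : nn ρ c ω 1 = 0) (h3 : nn ρ c ω 3 = 0) (h4 : nn ρ c ω 4 = 0) : False := by
  have k3 : (3 : k) ≠ 0 := three_ne (p := p) hp5
  have k2 : (2 : k) ≠ 0 := two_ne (p := p) hp5
  obtain ⟨-, -, f3, f4, f5, f6, f7, -⟩ := hw_facts
  have hbot1 : ∀ i j : Fin 3, ¬ (i = 0 ∧ j = 0) → Wt ρ c ω ![i, j, 1, 1] = ⊥ := by
    intro i j hij
    apply Wt_eq_bot C ρ hc hc3 hcφ hω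
    rcases f3 i j hij with h | h
    · rw [h, h3]
    · rw [h, h4]
  have hbot0 : ∀ i j : Fin 3, hw ![i, j, 0, 1] ≠ 2 → Wt ρ c ω ![i, j, 0, 1] = ⊥ := by
    intro i j hij
    apply Wt_eq_bot C ρ hc hc3 hcφ hω
    rcases f5 i j with h | h | h
    · rw [h, h1]
    · exact absurd h hij
    · rw [h, h3]
  have hd1 : finrank k (Wt ρ c ω ![0, 0, 1, 1]) = 1 := by
    rw [finrank_Wt C ρ hc hc3 hcφ hω, f6, h2]
  have hd2 : finrank k (Wt ρ c ω ![1, 0, 0, 1]) = 1 := by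
    rw [finrank_Wt C ρ hc hc3 hcφ hω, f7, h2]
  have hne : ∀ {U : Submodule k V}, finrank k U = 1 → ∃ w ∈ U, w ≠ 0 := by
    intro U hU
    apply Submodule.exists_mem_ne_zero_of_ne_bot
    intro h
    rw [h, finrank_bot] at hU
    exact zero_ne_one hU
  obtain ⟨w, hwm, hw0⟩ := hne hd1
  obtain ⟨w', hwm', hw0'⟩ := hne hd2
  have hwY : w ∈ YY ρ c ω 1 := by
    rw [mem_YY]
    have e2 := (mem_Wt ρ).1 hwm 2
    have e3 := (mem_Wt ρ).1 hwm 3
    exact ⟨e2, by simpa using e3⟩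
  -- `YY 1` is a line
  have hY1 : ∀ y ∈ YY ρ c ω 1, y ∈ Wt ρ c ω ![0, 0, 1, 1] := by
    intro y hy
    obtain ⟨z, hz1, hz2, -⟩ := YY_decomp ρ hc hc3 hω1 hω k3 hy
    rw [hz1]
    refine Submodule.sum_mem _ fun i _ => Submodule.sum_mem _ fun j _ => ?_
    by_cases hij : i = 0 ∧ j = 0
    · have := hz2 i j
      rwa [hij.1, hij.2] at this ⊢
    · have := hz2 i j
      rw [hbot1 i j hij, Submodule.mem_bot] at this
      rw [this]
      exact zero_mem _
  have hx3 : (c 0 * c 1) ^ 3 = 1 := by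
    rw [(show Commute (c 0) (c 1) from hc 0 1).mul_pow, hc3, hc3, mul_one]
  have hfix : ∀ y ∈ YY ρ c ω 0, ρ (c 0 * c 1) y = y → y = 0 := by
    intro y hy hy0
    obtain ⟨z, hz1, hz2, hz3⟩ := YY_decomp ρ hc hc3 hω1 hω k3 hy
    rw [hz1]
    refine Finset.sum_eq_zero fun i _ => Finset.sum_eq_zero fun j _ => ?_
    by_cases hij : hw ![i, j, 0, 1] = 2
    · have e0 : ρ (c 0) (z i j) = ω ^ (i : ℕ) • z i j := (mem_Wt ρ).1 (hz2 i j) 0
      have e1 : ρ (c 1) (z i j) = ω ^ (j : ℕ) • z i j := (mem_Wt ρ).1 (hz2 i j) 1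
      have h5 := hz3 (ρ (c 0 * c 1)) 1 (by
        rw [← map_mul, ← map_mul, mul_assoc, hc 1 0]) (by
        rw [← map_mul, ← map_mul, ← mul_assoc, hc 1 0]) (by rw [one_smul, hy0]) i j
      rw [one_smul, map_mul, End.mul_apply, e1, map_smul, e0] at h5
      rcases f4 i j hij with ⟨hi, hj⟩ | ⟨hi, hj⟩
      · rw [hi, Fin.val_zero, pow_zero, one_smul] at h5
        rw [hi]
        exact smul_eq_self hω1 hω hj h5
      · rw [hj, Fin.val_zero, pow_zero, one_smul] at h5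
        rw [hj]
        exact smul_eq_self hω1 hω hi h5
    · have := hz2 i j
      rw [hbot0 i j hij, Submodule.mem_bot] at this
      exact this
  have hcore := core C ρ hc hc3 hcφ k2 0 kit2 (x := c 0 * c 1)
    (fun i _ => by rw [mul_assoc, hc 1 i, ← mul_assoc, hc 0 i, mul_assoc]) hx3
    (by rw [map_mul, hcφ, hcφ]) hfix (by
    intro s hs s' hs' hss hsq hsq' y hy
    have hz : br s s' ∈ Z := br_mem_Z C hp5 hss (by rw [hsq, hsq', kit2.comm])
    obtain ⟨μ, hμ⟩ := exists_scalar hd1 hw0 hwm (hY1 _ (YY_inv ρ hs hwY))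
    obtain ⟨ν, hν⟩ := exists_scalar hd1 hw0 hwm (hY1 _ (YY_inv ρ hs' hwY))
    have hzw : ρ (br s s') w = w := br_fix ρ hw0 hμ hν
    have hzy : ∀ y ∈ YY ρ c ω 0, ρ (br s s') y = y := by
      intro y hy
      obtain ⟨v, hz1, hz2, -⟩ := YY_decomp ρ hc hc3 hω1 hω k3 hy
      rw [hz1, map_sum]
      refine Finset.sum_congr rfl fun i _ => ?_
      rw [map_sum]
      refine Finset.sum_congr rfl fun j _ => ?_
      by_cases hij : hw ![i, j, 0, 1] = 2
      · exact le_of_fixed C ρ hc hc3 hcφ hω hz hd1 hw0 hwm hzw (by rw [f6, hij]) (hz2 i j)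
      · have := hz2 i j
        rw [hbot0 i j hij, Submodule.mem_bot] at this
        rw [this, map_zero]
    rw [br_eq s s', map_mul, End.mul_apply]
    exact hzy _ (YY_inv ρ ((LL c).mul_mem hs' hs) hy))
  have hwY' : w' ∈ YY ρ c ω 0 := by
    rw [mem_YY]
    have e2 := (mem_Wt ρ).1 hwm' 2
    have e3 := (mem_Wt ρ).1 hwm' 3
    exact ⟨e2, by simpa using e3⟩
  have h5 := hcore w' hwY'
  have h6 : ρ (c 0) w' = ω ^ ((1 : Fin 3) : ℕ) • w' := (mem_Wt ρ).1 hwm' 0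
  rw [h5] at h6
  exact hw0' (smul_eq_self hω1 hω (by decide) h6.symm)

include C hc hc3 hcφ hω1 hω in
/-- **Main theorem.** -/
theorem main [IsAlgClosed k] [Finite H] [FiniteDimensional k V] (hp5 : 5 ≤ p) (hd : finrank k V ≤ 27)
    {i j : Fin 4} (hij : i ≠ j) (x : V) : ρ (c i) (ρ (c j) x - x) = ρ (c j) x - x := by
  have k3 : (3 : k) ≠ 0 := three_ne (p := p) hp5
  have hcount := count C ρ hc hc3 hcφ hω1 hω k3
  have h3 : nn ρ c ω 3 = 0 := by omega
  have h4 : nn ρ c ω 4 = 0 := by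
    by_contra h
    exact case_four C ρ hc hc3 hcφ hω1 hω hp5 (by omega) (by omega) h3
  have h2 : nn ρ c ω 2 = 0 := by
    by_contra h
    exact case_two C ρ hc hc3 hcφ hω1 hω hp5 (by omega) (by omega) h3 h4
  have htop := iSup_W3 (f := fun i => ρ (c i)) (fun i j => by
    show ρ (c i) * ρ (c j) = ρ (c j) * ρ (c i)
    rw [← map_mul, hc, map_mul]) (fun i => by rw [← map_pow, hc3, map_one]) k3 hω1 hω
  have hx : x ∈ ⨆ v, W3 (fun i => ρ (c i)) ω v := htop ▸ Submodule.mem_top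
  induction hx using Submodule.iSup_induction' with
  | mem v x hx =>
    have hx' : x ∈ Wt ρ c ω v := hx
    have key : ∀ (v : Fin 4 → Fin 3) (i j : Fin 4), i ≠ j → (hw v = 2 ∨ hw v = 3 ∨ hw v = 4) ∨ v i = 0 ∨ v j = 0 := by
      decide +kernel
    rcases key v i j hij with h | h | h
    · have hbot : Wt ρ c ω v = ⊥ := by
        apply Wt_eq_bot C ρ hc hc3 hcφ hω
        rcases h with h | h | h <;> rw [h]
        · exact h2
        · exact h3
        · exact h4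
      rw [hbot, Submodule.mem_bot] at hx'
      rw [hx', map_zero, sub_zero, map_zero]
    · have e1 := (mem_Wt ρ).1 hx' i
      have e2 := (mem_Wt ρ).1 hx' j
      rw [h, Fin.val_zero, pow_zero, one_smul] at e1
      rw [e2, map_sub, map_smul, e1]
    · have e2 := (mem_Wt ρ).1 hx' j
      rw [h, Fin.val_zero, pow_zero, one_smul] at e2
      rw [e2, sub_self, map_zero]
  | zero => rw [map_zero, sub_zero, map_zero]
  | add x y _ _ hx hy =>
    have : ρ (c j) (x + y) - (x + y) = (ρ (c j) x - x) + (ρ (c j) y - y) := by rw [map_add]; abel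
    rw [this, map_add, hx, hy]

end Cfsg.Agent.H191.AltT
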