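import Mathlib

/-!
# Lifting families of commuting elements of prime order over a kernel of order prime to it

`conj_family`: two families of commuting elements of order dividing `ℓ` with the same images are conjugate by an element
of the kernel. `exists_lift`: every element of the quotient mapping the images of one family to those of another lifts
to an element mapping the first family to the second.
-/

set_option autoImplicit false

namespace Cfsg.Agent.H191.ConjFam

open scoped Pointwise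

variable {H A : Type*} [Group H] [Group A]

/-- the subgroup generated by a commuting family of elements of order dividing `ℓ` is an `ℓ`-group -/
theorem isPGroup_closure {ι : Type*} {c : ι → H} {ℓ : ℕ} (hc : ∀ i j, c i * c j = c j * c i)
    (hl : ∀ i, c i ^ ℓ = 1) : IsPGroup ℓ (Subgroup.closure (Set.range c)) := by
  rintro ⟨x, hx⟩
  refine ⟨1, Subtype.ext ?_⟩
  show x ^ ℓ ^ 1 = 1
  rw [pow_one]
  have hcomm : ∀ x ∈ Subgroup.closure (Set.range c), ∀ y ∈ Subgroup.closure (Set.range c), x * y = y * x := by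
    intro x hx y hy
    induction hx, hy using Subgroup.closure_induction₂ with
    | mem x y hx hy => obtain ⟨i, rfl⟩ := hx; obtain ⟨j, rfl⟩ := hy; exact hc i j
    | one_left x _ => rw [one_mul, mul_one]
    | one_right x _ => rw [one_mul, mul_one]
    | mul_left x y z _ _ _ h1 h2 => rw [mul_assoc, h2, ← mul_assoc, h1, mul_assoc]
    | mul_right x y z _ _ _ h1 h2 => rw [← mul_assoc, h1, mul_assoc, h2, mul_assoc]
    | inv_left x y _ _ h => rw [inv_mul_eq_iff_eq_mul, ← mul_assoc, h, mul_inv_cancel_right]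
    | inv_right x y _ _ h => rw [eq_inv_mul_iff_mul_eq, ← mul_assoc, ← h, mul_inv_cancel_right]
  induction hx using Subgroup.closure_induction with
  | mem x hx => obtain ⟨i, rfl⟩ := hx; exact hl i
  | one => exact one_pow _
  | mul x y hx hy h1 h2 =>
    have : Commute x y := hcomm x hx y hy
    rw [this.mul_pow, h1, h2, one_mul]
  | inv x _ h => rw [inv_pow, h, inv_one]

variable [Finite H] (φ : H →* A) {ℓ : ℕ} [hℓ : Fact ℓ.Prime] (hk : ¬ ℓ ∣ Nat.card φ.ker)

omit [Finite H] in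
include hk in
theorem eq_one_of_ker {x : H} (hx : φ x = 1) {n : ℕ} (hn : x ^ ℓ ^ n = 1) : x = 1 := by
  have h1 : orderOf x ∣ ℓ ^ n := orderOf_dvd_of_pow_eq_one hn
  have h2 : orderOf x ∣ Nat.card φ.ker := by
    have := orderOf_dvd_natCard (⟨x, hx⟩ : φ.ker)
    rw [← Subgroup.orderOf_coe] at this
    exact this
  have h3 : orderOf x ∣ 1 := by
    have hcop : Nat.Coprime (ℓ ^ n) (Nat.card φ.ker) :=
      Nat.Coprime.pow_left n ((Nat.Prime.coprime_iff_not_dvd hℓ.out).2 hk)
    have := Nat.dvd_gcd h1 h2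
    rwa [hcop] at this
  exact orderOf_eq_one_iff.1 (Nat.dvd_one.1 h3)

include hk in
theorem inj_on {S : Subgroup H} (hS : IsPGroup ℓ S) {x y : H} (hx : x ∈ S) (hy : y ∈ S) (h : φ x = φ y) : x = y := by
  have h1 : x * y⁻¹ ∈ S := S.mul_mem hx (S.inv_mem hy)
  obtain ⟨n, hn⟩ := hS ⟨_, h1⟩
  have h2 : (x * y⁻¹) ^ ℓ ^ n = 1 := congrArg Subtype.val hn
  have h3 := eq_one_of_ker φ hk (x := x * y⁻¹) (by rw [map_mul, map_inv, h, mul_inv_cancel]) h2
  exact mul_inv_eq_one.1 h3

include hk in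
/-- an `ℓ`-subgroup with full image is a Sylow subgroup -/
theorem not_dvd_index {M : Subgroup H} {S : Subgroup H} (hSM : S ≤ M) (hS : IsPGroup ℓ S) (hM : ∀ m ∈ M, ∃ s ∈ S, φ s = φ m) :
    ¬ ℓ ∣ (S.subgroupOf M).index := by
  intro hd
  apply hk
  let f : M →* A := φ.comp M.subtype
  let g : S.subgroupOf M →* A := f.comp (S.subgroupOf M).subtype
  have hr : g.range = f.range := by
    apply le_antisymm
    · rintro _ ⟨x, rfl⟩; exact ⟨x, rfl⟩
    · rintro _ ⟨⟨m, hm⟩, rfl⟩
      obtain ⟨s, hs, he⟩ := hM m hm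
      exact ⟨⟨⟨s, hSM hs⟩, hs⟩, he⟩
  have hfin : Finite f.range := Finite.of_surjective _ f.rangeRestrict_surjective
  have h1 : Nat.card M = Nat.card f.ker * Nat.card f.range := by
    rw [← Subgroup.card_mul_index f.ker, Subgroup.index_ker]
  have h2 : Nat.card (S.subgroupOf M) = Nat.card g.ker * Nat.card f.range := by
    rw [← Subgroup.card_mul_index g.ker, Subgroup.index_ker, hr]
  have h3 := Subgroup.card_mul_index (S.subgroupOf M)
  rw [h2, h1] at h3
  have h4 : Nat.card g.ker * (S.subgroupOf M).index = Nat.card f.ker := by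
    apply Nat.eq_of_mul_eq_mul_right (Nat.card_pos (α := f.range))
    rw [← h3]; ring
  have h5 : Nat.card f.ker ∣ Nat.card φ.ker := by
    let e : f.ker →* φ.ker :=
      { toFun := fun x => ⟨((x : M) : H), x.2⟩
        map_one' := rfl
        map_mul' := fun _ _ => rfl }
    refine Subgroup.card_dvd_of_injective e ?_
    intro x y h
    apply Subtype.ext
    apply Subtype.ext
    exact congrArg (fun z : φ.ker => (z : H)) h
  exact (hd.trans (Dvd.intro_left _ h4)).trans h5

include hk in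
/-- two `ℓ`-subgroups with the same image are conjugate by an element of the kernel -/
theorem exists_conj {S S' : Subgroup H} (hS : IsPGroup ℓ S) (hS' : IsPGroup ℓ S') (h : S.map φ = S'.map φ) :
    ∃ k : H, φ k = 1 ∧ ∀ s ∈ S, k * s * k⁻¹ ∈ S' := by
  classical
  let M : Subgroup H := (S.map φ).comap φ
  have hSM : S ≤ M := fun s hs => ⟨s, hs, rfl⟩
  have hSM' : S' ≤ M := fun s hs => by
    show φ s ∈ S.map φ
    rw [h]; exact ⟨s, hs, rfl⟩
  have h1 := not_dvd_index φ hk hSM hS (fun m hm => hm)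
  have h2 := not_dvd_index φ hk hSM' hS' (fun m hm => by
    have : φ m ∈ S.map φ := hm
    rw [h] at this; exact this)
  let P : Sylow ℓ M := (hS.comap_subtype : IsPGroup ℓ (S.subgroupOf M)).toSylow h1
  let P' : Sylow ℓ M := (hS'.comap_subtype : IsPGroup ℓ (S'.subgroupOf M)).toSylow h2
  obtain ⟨m, hm⟩ := MulAction.exists_smul_eq M P P'
  have hm1 : ∀ s ∈ S, (m : H) * s * (m : H)⁻¹ ∈ S' := by
    intro s hs
    have h3 : (⟨s, hSM hs⟩ : M) ∈ (P : Subgroup M) := hs
    have h4 : m * ⟨s, hSM hs⟩ * m⁻¹ ∈ ((m • P : Sylow ℓ M) : Subgroup M) := by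
      rw [Sylow.coe_subgroup_smul]
      exact Subgroup.smul_mem_pointwise_smul _ (MulAut.conj m) _ h3
    rw [hm] at h4
    exact h4
  have hm2 : φ (m : H) ∈ S'.map φ := by
    have : φ (m : H) ∈ S.map φ := m.2
    rwa [h] at this
  obtain ⟨t, ht, hte⟩ := hm2
  refine ⟨t⁻¹ * m, by rw [map_mul, map_inv, hte, inv_mul_cancel], fun s hs => ?_⟩
  have : t⁻¹ * m * s * (t⁻¹ * m)⁻¹ = t⁻¹ * (m * s * (m : H)⁻¹) * t := by group
  rw [this]
  exact S'.mul_mem (S'.mul_mem (S'.inv_mem ht) (hm1 s hs)) ht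

include hk in
theorem conj_family {ι : Type*} {c c' : ι → H} (hc : ∀ i j, c i * c j = c j * c i) (hl : ∀ i, c i ^ ℓ = 1)
    (hc' : ∀ i j, c' i * c' j = c' j * c' i) (hl' : ∀ i, c' i ^ ℓ = 1) (h : ∀ i, φ (c i) = φ (c' i)) :
    ∃ k : H, φ k = 1 ∧ ∀ i, k * c i * k⁻¹ = c' i := by
  have h1 := isPGroup_closure hc hl
  have h2 := isPGroup_closure hc' hl'
  obtain ⟨k, hk1, hk2⟩ := exists_conj φ hk h1 h2 (by
    rw [MonoidHom.map_closure, MonoidHom.map_closure, ← Set.range_comp, ← Set.range_comp]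
    congr 2
    funext i; exact h i)
  refine ⟨k, hk1, fun i => inj_on φ hk h2 (hk2 _ (Subgroup.subset_closure ⟨i, rfl⟩))
    (Subgroup.subset_closure ⟨i, rfl⟩) ?_⟩
  rw [map_mul, map_mul, map_inv, hk1, h i]
  simp

include hk in
theorem exists_lift {ι : Type*} {c d : ι → H} (hc : ∀ i j, c i * c j = c j * c i) (hl : ∀ i, c i ^ ℓ = 1)
    (hd : ∀ i j, d i * d j = d j * d i) (hl' : ∀ i, d i ^ ℓ = 1) {a : A} (ha : ∃ h, φ h = a)
    (h : ∀ i, a * φ (c i) * a⁻¹ = φ (d i)) : ∃ x : H, φ x = a ∧ ∀ i, x * c i * x⁻¹ = d i := by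
  obtain ⟨g, rfl⟩ := ha
  obtain ⟨k, hk1, hk2⟩ := conj_family φ hk (c := fun i => g * c i * g⁻¹) (c' := d)
    (fun i j => by
      have : g * c i * g⁻¹ * (g * c j * g⁻¹) = g * (c i * c j) * g⁻¹ := by group
      rw [this, hc]; group)
    (fun i => by rw [conj_pow, hl]; simp) hd hl' (fun i => by rw [← h i, map_mul, map_mul, map_inv])
  refine ⟨k * g, by rw [map_mul, hk1, one_mul], fun i => ?_⟩
  rw [← hk2 i]; group

end Cfsg.Agent.H191.ConjFam
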