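import Mathlib
import Cfsg.Agent.CharactersDeep.ElemExt

/-!
# Small lemmas for `CROSS`: signs, extension of a linear character
-/

set_option autoImplicit false
set_option linter.unusedSectionVars false

namespace Cfsg.Agent.H191.Cross

universe u v

/-- An elementary abelian 2-group of operators on an abelian group of odd order which does not act trivially
has a nontrivial "eigenvector" with sign. -/
theorem exists_sign {D : Type u} [Group D] [Finite D] {M : Type v} [CommGroup M] [Finite M]
    [MulDistribMulAction D M] (hodd : Odd (Nat.card M)) (hsq : ∀ (d : D) (m : M), d • d • m = m)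
    (hc : ∀ (d e : D) (m : M), d • e • m = e • d • m) (hne : ∃ (d : D) (m : M), d • m ≠ m) :
    ∃ m : M, (∃ d : D, d • m ≠ m) ∧ ∀ d : D, d • m = m ∨ d • m = m⁻¹ := by
  classical
  have hsq1 : ∀ m : M, m = m⁻¹ → m = 1 := by
    intro m hm
    have h1 : m ^ 2 = 1 := by
      rw [pow_two]
      nth_rewrite 2 [hm]
      exact mul_inv_cancel m
    have h2 : orderOf m ∣ 2 := orderOf_dvd_of_pow_eq_one h1
    have h3 : orderOf m ∣ Nat.card M := orderOf_dvd_natCard m
    have h4 : Nat.Coprime 2 (Nat.card M) := by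
      rw [Nat.prime_two.coprime_iff_not_dvd]
      exact hodd.not_two_dvd_nat
    have h5 := Nat.eq_one_of_dvd_coprimes h4 h2 h3
    exact orderOf_eq_one_iff.1 h5
  -- a non-fixed element with maximal stabiliser
  let T : Set M := {m | ∃ d : D, d • m ≠ m}
  have hT : T.Nonempty := by
    obtain ⟨d, m, h⟩ := hne
    exact ⟨m, d, h⟩
  obtain ⟨m, hm, hmax⟩ := T.toFinite.exists_maximalFor (fun m => Nat.card (MulAction.stabilizer D m)) T hT
  obtain ⟨e, he⟩ := hm
  have hmax' : ∀ n : M, n ∈ T → MulAction.stabilizer D m ≤ MulAction.stabilizer D n →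
      MulAction.stabilizer D n = MulAction.stabilizer D m := by
    intro n hn hle
    have h1 : Nat.card (MulAction.stabilizer D m) ≤ Nat.card (MulAction.stabilizer D n) := Subgroup.card_le_of_le hle
    have h2 := hmax hn h1
    exact (Subgroup.eq_of_le_of_card_ge hle h2).symm
  set ν : M := m⁻¹ * e • m with hν
  have heν : e • ν = ν⁻¹ := by
    rw [hν, smul_mul', smul_inv', hsq, mul_inv, inv_inv, mul_comm]
  have hν1 : ν ≠ 1 := by
    intro h
    apply he
    rw [hν, inv_mul_eq_one] at h
    exact h.symm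
  have hνT : e • ν ≠ ν := by
    rw [heν]
    intro h
    exact hν1 (hsq1 ν h.symm)
  have hle : MulAction.stabilizer D m ≤ MulAction.stabilizer D ν := by
    intro d hd
    rw [MulAction.mem_stabilizer_iff] at hd ⊢
    rw [hν, smul_mul', smul_inv', hd, hc, hd]
  have hst := hmax' ν ⟨e, hνT⟩ hle
  clear_value ν
  refine ⟨ν, ⟨e, hνT⟩, fun d => ?_⟩
  by_cases hd : d • ν = ν
  · exact Or.inl hd
  right
  set κ : M := ν * d • ν with hκ
  have hdκ : d • κ = κ := by
    rw [hκ, smul_mul', hsq, mul_comm]
  have hle2 : MulAction.stabilizer D ν ≤ MulAction.stabilizer D κ := by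
    intro c hc2
    rw [MulAction.mem_stabilizer_iff] at hc2 ⊢
    rw [hκ, smul_mul', hc, hc2]
  have hκfix : ∀ c : D, c • κ = κ := by
    by_contra hcon
    push Not at hcon
    have h1 := hmax' κ hcon (hst ▸ hle2)
    rw [← hst] at h1
    have h2 : d ∈ MulAction.stabilizer D κ := hdκ
    rw [h1] at h2
    exact hd h2
  have heκ : e • κ = κ⁻¹ := by
    rw [hκ, smul_mul', hc, heν, smul_inv', mul_inv]
  have h3 : κ = 1 := hsq1 κ (by rw [← heκ]; exact (hκfix e).symm)
  rw [hκ] at h3
  exact (inv_eq_of_mul_eq_one_right h3).symm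

/-- Extension of a linear character when all squares lie in its kernel. -/
theorem exists_ext {P : Type u} [Group P] [Finite P] {V : Type v} [Group V] (f : V →* P)
    (hf : Function.Injective f) (l : V →* ℂˣ)
    (hinv : ∀ (x : P) (v : V), ∃ w : V, x * f v * x⁻¹ = f w ∧ l w = l v)
    (hsq : ∀ x : P, ∃ v : V, x * x = f v ∧ l v = 1) :
    ∃ φ : P →* ℂˣ, ∀ v, φ (f v) = l v := by
  let K : Subgroup P := l.ker.map f
  have hK : K.Normal := by
    constructor
    rintro _ ⟨v, hv, rfl⟩ x
    obtain ⟨w, hw, hlw⟩ := hinv x v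
    refine ⟨w, ?_, hw.symm⟩
    show l w = 1
    rw [hlw]
    exact hv
  have hsq2 : ∀ a : P ⧸ K, a * a = 1 := by
    intro a
    induction a using QuotientGroup.induction_on with
    | H x =>
      obtain ⟨v, hv, hl⟩ := hsq x
      rw [← QuotientGroup.mk_mul, QuotientGroup.eq_one_iff, hv]
      exact ⟨v, hl, rfl⟩
  have hcomm : ∀ a b : P ⧸ K, a * b = b * a := by
    intro a b
    have e1 : a⁻¹ = a := inv_eq_of_mul_eq_one_left (hsq2 a)
    have e2 : b⁻¹ = b := inv_eq_of_mul_eq_one_left (hsq2 b)
    have e3 : (a * b)⁻¹ = a * b := inv_eq_of_mul_eq_one_left (hsq2 (a * b))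
    rw [mul_inv_rev, e1, e2] at e3
    exact e3.symm
  let j : V ⧸ l.ker →* P ⧸ K := QuotientGroup.map l.ker K f (Subgroup.le_comap_map f l.ker)
  have hj : Function.Injective j := by
    rw [injective_iff_map_eq_one]
    intro a ha
    induction a using QuotientGroup.induction_on with
    | H v =>
      have h1 : (QuotientGroup.mk (f v) : P ⧸ K) = 1 := ha
      rw [QuotientGroup.eq_one_iff] at h1
      obtain ⟨w, hw, hwv⟩ := h1
      rw [QuotientGroup.eq_one_iff]
      rwa [← hf hwv]
  obtain ⟨β, hβ⟩ := CharactersDeep.ElemExt.exists_ext_of_injective hcomm j hj (QuotientGroup.kerLift l)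
  refine ⟨β.comp (QuotientGroup.mk' K), fun v => ?_⟩
  have h1 := hβ (QuotientGroup.mk v)
  exact h1

end Cfsg.Agent.H191.Cross
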