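import Cfsg.Agent.H672.Lin
import Cfsg.Agent.OddOrderCharacters.PF9.CliffGen

/-!
# Two Clifford steps: a degree divisible by `|X : I| · |I : S|`

`V` normal in `X`, `l` a linear character of `V` with inertia group `I`, `P` normal in `I`, `V ≤ P`, `φ` a
linear character of `P` extending `l`, `S` the inertia group of `φ` in `I`.
-/

set_option autoImplicit false
set_option linter.style.haveILetI false
set_option linter.unusedSectionVars false
open Cfsg

namespace Cfsg.Agent.H191.Cross

open Cfsg.Agent.Characters.Core Cfsg.Agent.Characters.Clifford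
open Cfsg.Agent.H672
open Cfsg.Agent.OddOrderCharacters.PF9.CliffGen (resTo irr_ind)
open scoped ComplexConjugate

universe u

theorem exists_degree {X : Type u} [Group X] [Finite X] (V I : Subgroup X) [hV : V.Normal]
    (l : V →* ℂˣ) (hI : inertia V (lf l) = I) (P : Subgroup I) [P.Normal]
    (hVI : V ≤ I) (hVP : ∀ v : V, (⟨v, hVI v.2⟩ : I) ∈ P) (φ : P →* ℂˣ)
    (hφ : ∀ v : V, φ ⟨⟨v, hVI v.2⟩, hVP v⟩ = l v) :
    ∃ d ∈ charDegrees X, I.index * (H672.inertia P (lf φ)).index ∣ d := by
  classical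
  letI := Fintype.ofFinite X
  letI := Fintype.ofFinite V
  letI := Fintype.ofFinite I
  letI := Fintype.ofFinite P
  obtain ⟨ψ, hψ, hψo⟩ := exists_over P (lf φ) (isIrr_lf φ)
  have hdvd := index_mul_charDegree_dvd P hψ (isIrr_lf φ) hψo
  rw [charDegree_lf, mul_one] at hdvd
  -- over `l`
  let f : V →* P := (Subgroup.inclusion hVI).codRestrict P hVP
  have hov : Over (P.subtype.comp f) ψ (lf l) := by
    rw [over_comp_iff P.subtype f (isIrr_isCharacter hψ) (isIrr_lf l)]
    refine ⟨lf φ, isIrr_lf φ, hψo, ?_⟩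
    have e : (lf φ) ∘ f = lf l := by
      funext v
      show (φ (f v) : ℂ) = (l v : ℂ)
      rw [← hφ v]
      rfl
    rw [over_iff, e]
    rw [classInner_irr_self (isIrr_lf l)]
    exact one_ne_zero
  rw [over_iff] at hov
  have h0 : classInner (resTo hVI ψ) (lf l) ≠ 0 := hov
  have hT : ∀ g, g ∈ I ↔ Cfsg.Agent.OddOrderCharacters.NormalInduced.conjFn V (lf l) g = lf l := by
    intro g
    rw [← hI]
    exact Iff.rfl
  have hirr := irr_ind (isIrr_lf l) hT hVI hψ h0
  refine ⟨charDegree (indFun I ψ), ⟨⟨_, hirr⟩, rfl⟩, ?_⟩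
  have hdeg : charDegree (indFun I ψ) = I.index * charDegree ψ := by
    apply charDegree_of_eq
    rw [OddOrderCharacters.InertiaAbelian.indFun_one, ← coe_charDegree hψ]
    push_cast
    rfl
  rw [hdeg]
  exact Nat.mul_dvd_mul_left _ hdvd

/-- One Clifford step. -/
theorem exists_degree_one {X : Type u} [Group X] [Finite X] (V : Subgroup X) [hV : V.Normal]
    (l : V →* ℂˣ) : ∃ d ∈ charDegrees X, (inertia V (lf l)).index ∣ d := by
  obtain ⟨χ, hχ, hov⟩ := exists_over V (lf l) (isIrr_lf l)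
  have := index_mul_charDegree_dvd V hχ (isIrr_lf l) hov
  rw [charDegree_lf, mul_one] at this
  exact ⟨charDegree χ, ⟨⟨χ, hχ⟩, rfl⟩, this⟩

end Cfsg.Agent.H191.Cross
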