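import Cfsg.Agent.H191.CrossMain
import Cfsg.Agent.H948.PSLMax

/-!
# CROSS, strong form
-/

set_option autoImplicit false
set_option linter.unusedSectionVars false
open Cfsg

namespace Cfsg.Agent.H191.Cross

open Cfsg.Agent.ClassicalGeometry
open Cfsg.Agent.Characters.Core
open Cfsg.Agent.H672
open scoped commutatorElement

universe u

section psl
variable {F : Type} [Field F] [Fintype F]

/-- **Subgroups of `PSL(2, q)`, `q ≥ 8` even, containing at least half of a Sylow 2-subgroup.** -/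
theorem le_normalizer_of_large' (hF : Even (Fintype.card F)) (h4 : 4 < Fintype.card F)
    (Q : Sylow 2 (P2 F)) (J : Subgroup (P2 F)) (hJ : J ≠ ⊤)
    (hQ : Fintype.card F ≤ 2 * Nat.card (J ⊓ (Q : Subgroup (P2 F)) : Subgroup (P2 F))) :
    J ≤ Subgroup.normalizer ((Q : Subgroup (P2 F)) : Set (P2 F)) := by
  classical
  have := charTwo hF
  obtain ⟨n, hn3, hn⟩ := card_two_pow hF h4
  have hpg : IsPGroup 2 (J ⊓ (Q : Subgroup (P2 F)) : Subgroup (P2 F)) := Q.isPGroup'.to_le inf_le_right
  obtain ⟨a, ha⟩ := (IsPGroup.iff_card).1 hpg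
  have han : n ≤ a + 1 := by
    rw [ha, hn, ← pow_succ'] at hQ
    exact (Nat.pow_le_pow_iff_right (by norm_num)).1 hQ
  have hdJ : 2 ^ (n - 1) ∣ Nat.card J := by
    have h1 : 2 ^ (n - 1) ∣ 2 ^ a := pow_dvd_pow 2 (by omega)
    rw [← ha] at h1
    exact h1.trans (Subgroup.card_dvd_of_le inf_le_left)
  have h4J : 4 ∣ Nat.card J := by
    have h1 : 2 ^ 2 ∣ 2 ^ (n - 1) := pow_dvd_pow 2 (by omega)
    exact (by norm_num : (4 : ℕ) = 2 ^ 2) ▸ h1.trans hdJ
  -- it suffices to find a nontrivial normal 2-subgroup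
  have key : ∀ R : Subgroup J, R.Normal → IsPGroup 2 R → R ≠ ⊥ →
      J ≤ Subgroup.normalizer ((Q : Subgroup (P2 F)) : Set (P2 F)) := by
    intro R hR hRp hR1
    obtain ⟨P, hRP, hJP⟩ := PSL2ElemOrder.le_normalizer_of_normal 2 J (R.map J.subtype)
      (hRp.map _) (by
        intro h
        apply hR1
        rw [Subgroup.map_eq_bot_iff_of_injective _ J.subtype_injective] at h
        exact h)
      (by
        intro g hg
        rw [Subgroup.mem_normalizer_iff]
        intro h
        constructor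
        · rintro ⟨r, hr, rfl⟩
          exact ⟨⟨g, hg⟩ * r * ⟨g, hg⟩⁻¹, hR.conj_mem r hr _, rfl⟩
        · rintro ⟨r, hr, hr2⟩
          refine ⟨⟨g, hg⟩⁻¹ * r * ⟨g, hg⟩, ?_, ?_⟩
          · have := hR.conj_mem r hr (⟨g, hg⟩ : J)⁻¹
            simpa using this
          · have h3 : (r : P2 F) = g * h * g⁻¹ := hr2
            show g⁻¹ * (r : P2 F) * g = h
            rw [h3]
            group)
    have h5 : J ⊓ (Q : Subgroup (P2 F)) ≤ (P : Subgroup (P2 F)) := by
      have h6 : J ⊓ (Q : Subgroup (P2 F)) ⊓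
          Subgroup.normalizer ((P : Subgroup (P2 F)) : Set (P2 F)) = J ⊓ (Q : Subgroup (P2 F)) ⊓ (P : Subgroup (P2 F)) :=
        hpg.inf_normalizer_sylow P
      have h7 : J ⊓ (Q : Subgroup (P2 F)) ≤ J ⊓ (Q : Subgroup (P2 F)) ⊓
          Subgroup.normalizer ((P : Subgroup (P2 F)) : Set (P2 F)) :=
        le_inf le_rfl (inf_le_left.trans hJP)
      rw [h6] at h7
      exact h7.trans inf_le_right
    have hne : (J ⊓ (Q : Subgroup (P2 F)) : Subgroup (P2 F)) ≠ ⊥ := by
      intro h0
      rw [h0] at hQ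
      simp at hQ
      omega
    obtain ⟨x, hx, hx1⟩ := (Subgroup.bot_or_exists_ne_one _).resolve_left hne
    have h8 : P = Q := PSL2ElemOrder.sylow_eq_of_mem 2 P Q x hx1 (h5 hx) (hx.2)
    rw [← h8]
    exact hJP
  have hgcd : Nat.gcd 2 (Fintype.card F - 1) = 1 := by
    have h2 : 2 ∣ Fintype.card F := hF.two_dvd
    rw [← Nat.coprime_iff_gcd_eq_one, Nat.prime_two.coprime_iff_not_dvd]
    omega
  rcases S0799.result (F := F) rfl 2 J with h | h | h | h | h | h
  · exfalso
    obtain ⟨k, hk, hk2⟩ := h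
    rw [hgcd, Nat.div_one, Nat.div_one] at hk
    have hodd : ¬ 2 ∣ k := by
      intro h2
      have h3 : 2 ∣ Fintype.card F := hF.two_dvd
      rcases hk with hk | hk
      · have := h2.trans hk
        omega
      · have := h2.trans hk
        omega
    rcases hk2 with ⟨-, hk2⟩ | ⟨⟨e⟩⟩
    · rw [hk2] at h4J
      omega
    · rw [Nat.card_congr e.toEquiv, DihedralGroup.nat_card] at h4J
      omega
  · obtain ⟨P, K, hKP, ⟨e⟩⟩ := h
    -- `P ∩ K` pulled back
    let R : Subgroup J := ((P : Subgroup (P2 F)).subgroupOf K).comap e.toMonoidHom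
    have hRn : R.Normal := by
      have h1 : ((P : Subgroup (P2 F)).subgroupOf K).Normal := Subgroup.normal_subgroupOf_of_le_normalizer hKP
      exact Subgroup.Normal.comap h1 _
    have hRp : IsPGroup 2 R := by
      apply IsPGroup.comap_of_injective _ _ e.injective
      exact (P.isPGroup'.comap_subtype)
    refine key R hRn hRp ?_
    intro h0
    have h1 : (P : Subgroup (P2 F)).subgroupOf K = ⊥ := by
      have h2 : R.map e.toMonoidHom = (P : Subgroup (P2 F)).subgroupOf K :=
        Subgroup.map_comap_eq_self_of_surjective e.surjective _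
      rw [← h2, h0, Subgroup.map_bot]
    -- `K` has even order, so an involution
    have h2 : 2 ∣ Nat.card K := by
      rw [← Nat.card_congr e.toEquiv]
      exact (by norm_num : (2 : ℕ) ∣ 4).trans h4J
    obtain ⟨x, hx⟩ := exists_prime_orderOf_dvd_card' 2 h2
    have h3 : IsPGroup 2 (Subgroup.zpowers (x : P2 F)) := by
      apply IsPGroup.of_card (n := 1)
      rw [Nat.card_zpowers, pow_one]
      simpa using hx
    have h4 : Subgroup.zpowers (x : P2 F) ⊓ Subgroup.normalizer ((P : Subgroup (P2 F)) : Set (P2 F)) =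
        Subgroup.zpowers (x : P2 F) ⊓ (P : Subgroup (P2 F)) := h3.inf_normalizer_sylow P
    have h5 : (x : P2 F) ∈ (P : Subgroup (P2 F)) := by
      have h6 : (x : P2 F) ∈ Subgroup.zpowers (x : P2 F) ⊓ Subgroup.normalizer ((P : Subgroup (P2 F)) : Set (P2 F)) :=
        ⟨Subgroup.mem_zpowers _, hKP x.2⟩
      rw [h4] at h6
      exact h6.2
    have h6 : x ∈ (P : Subgroup (P2 F)).subgroupOf K := h5
    rw [h1, Subgroup.mem_bot] at h6
    rw [h6, orderOf_one] at hx
    omega
  · obtain ⟨e⟩ := h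
    have h44 : Nat.card (Fin 4) = 4 := by simp
    have hV4 := alternatingGroup.kleinFour_card_of_card_eq_four (α := Fin 4) h44
    have hVn := alternatingGroup.normal_kleinFour (α := Fin 4) h44
    let R : Subgroup J := (alternatingGroup.kleinFour (Fin 4)).comap e.toMonoidHom
    have hRn : R.Normal := Subgroup.Normal.comap hVn _
    have hcR : Nat.card R = 4 := by
      rw [← hV4]
      have h1 : (R.map e.toMonoidHom) = alternatingGroup.kleinFour (Fin 4) :=
        Subgroup.map_comap_eq_self_of_surjective e.surjective _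
      rw [← h1]
      exact Nat.card_congr (R.equivMapOfInjective e.toMonoidHom e.injective).toEquiv
    refine key R hRn ?_ ?_
    · apply IsPGroup.of_card (n := 2)
      rw [hcR]; norm_num
    · rintro h0
      rw [h0] at hcR
      simp at hcR
  · exfalso
    obtain ⟨e⟩ := h
    let σ : Equiv.Perm (Fin 4) := finRotate 4
    have h1 : σ * σ ≠ 1 := by decide
    have h2 : σ ^ 2 ^ 2 = 1 := by decide
    have h3 : (((e.symm σ : J) : P2 F)) ^ 2 ^ 2 = 1 := by
      have h5 : (e.symm σ) ^ 2 ^ 2 = 1 := by rw [← map_pow, h2, map_one]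
      exact congrArg Subtype.val h5
    have h4' := WeakTI.PslTwo.mul_self (MulEquiv.refl (P2 F)) h3
    apply h1
    have h5 : (e.symm σ) * (e.symm σ) = 1 := Subtype.ext h4'
    rw [← map_mul] at h5
    exact e.symm.injective (h5.trans (map_one _).symm)
  · exfalso
    obtain ⟨e⟩ := h
    have hc : Nat.card J = 60 := by
      rw [Nat.card_congr e.toEquiv, nat_card_alternatingGroup]
      simp; decide
    rw [hc] at hdJ
    have hle : n ≤ 6 := by
      by_contra hcon
      push Not at hcon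
      have h3 : 2 ^ 6 ≤ 2 ^ (n - 1) := Nat.pow_le_pow_right (by norm_num) (by omega)
      have h5 := Nat.le_of_dvd (by omega) hdJ
      omega
    have h6 : n = 3 := by
      interval_cases n <;> first | rfl | (exfalso; revert hdJ; decide)
    subst h6
    have h7 := Subgroup.card_subgroup_dvd_card J
    have h8 : Nat.card (P2 F) = Fintype.card F * (Fintype.card F ^ 2 - 1) := Classification.PSLTwoEvenSylow.card_psl
    rw [hc, h8, hn] at h7
    revert h7
    decide
  · exfalso
    obtain ⟨K, iK, iK2, m, hm, h⟩ := h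
    have hm0 : m ≠ 0 := by
      rintro rfl
      rw [pow_zero] at hm
      omega
    have hKe : Even (Fintype.card K) := by
      rw [even_iff_two_dvd]
      have h2 : 2 ∣ Fintype.card F := hF.two_dvd
      rw [← hm] at h2
      exact Nat.prime_two.dvd_of_dvd_pow h2
    have hc : Nat.card J = Fintype.card K * (Fintype.card K ^ 2 - 1) := by
      have := charTwo hKe
      rcases h with ⟨⟨e⟩⟩ | ⟨⟨e⟩⟩
      · rw [Nat.card_congr e.toEquiv]
        exact Classification.PSLTwoEvenSylow.card_psl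
      · rw [Nat.card_congr e.toEquiv]
        exact PSL2Basic.card_PGL2 K
    rcases (show m = 1 ∨ 2 ≤ m by omega) with rfl | hm2
    · rw [pow_one] at hm
      apply hJ
      apply Subgroup.eq_top_of_card_eq
      rw [hc, hm]
      exact Classification.PSLTwoEvenSylow.card_psl.symm
    · have hK2 : 2 ≤ Fintype.card K := Fintype.one_lt_card
      have h6 : Fintype.card K ^ 2 ≤ Fintype.card F := by
        rw [← hm]
        exact Nat.pow_le_pow_right (by omega) hm2
      have hodd : ¬ 2 ∣ Fintype.card K ^ 2 - 1 := by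
        have h2 : 2 ∣ Fintype.card K ^ 2 := (hKe.two_dvd).trans (dvd_pow_self _ (by norm_num))
        have h3 : 0 < Fintype.card K ^ 2 := by positivity
        omega
      rw [hc] at hdJ
      have h7 : 2 ^ (n - 1) ∣ Fintype.card K :=
        (Nat.Coprime.pow_left _ ((Nat.prime_two.coprime_iff_not_dvd).2 hodd)).dvd_of_dvd_mul_right hdJ
      have h8 := Nat.le_of_dvd (by omega) h7
      have h9 : 2 ^ n = 2 * 2 ^ (n - 1) := by rw [← pow_succ']; congr 1; omega
      rw [hn, h9] at h6
      have h10 : Fintype.card K ≤ 2 := by nlinarith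
      have h11 : 2 ^ 2 ≤ 2 ^ (n - 1) := Nat.pow_le_pow_right (by norm_num) (by omega)
      omega

/-- A 2-subgroup of the normaliser of `Q` is in `Q`. -/
theorem le_sylow_of_isPGroup (Q : Sylow 2 (P2 F)) (J : Subgroup (P2 F))
    (hJ : J ≤ Subgroup.normalizer ((Q : Subgroup (P2 F)) : Set (P2 F))) (hp : IsPGroup 2 J) :
    J ≤ (Q : Subgroup (P2 F)) := by
  have h6 : J ⊓ Subgroup.normalizer ((Q : Subgroup (P2 F)) : Set (P2 F)) = J ⊓ (Q : Subgroup (P2 F)) :=
    hp.inf_normalizer_sylow Q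
  rw [inf_eq_left.2 hJ] at h6
  rw [h6]
  exact inf_le_right

/-- If `J` normalises `Q` and meets it in a subgroup of index two, then `J ≤ Q`. -/
theorem le_of_half (hF : Even (Fintype.card F)) (h4 : 4 < Fintype.card F)
    (Q : Sylow 2 (P2 F)) (J : Subgroup (P2 F))
    (hJ : J ≤ Subgroup.normalizer ((Q : Subgroup (P2 F)) : Set (P2 F)))
    (hQ : Fintype.card F ≤ 2 * Nat.card (J ⊓ (Q : Subgroup (P2 F)) : Subgroup (P2 F)))
    (hne : ¬ (Q : Subgroup (P2 F)) ≤ J) : J ≤ (Q : Subgroup (P2 F)) ∧ 2 * Nat.card J = Fintype.card F := by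
  classical
  have := charTwo hF
  obtain ⟨n, hn3, hn⟩ := card_two_pow hF h4
  have hcQ : Nat.card (Q : Subgroup (P2 F)) = Fintype.card F := card_sylow hF h4 Q
  -- the order of the intersection
  have hhalf : 2 * Nat.card (J ⊓ (Q : Subgroup (P2 F)) : Subgroup (P2 F)) = Fintype.card F := by
    have h1 : Nat.card (J ⊓ (Q : Subgroup (P2 F)) : Subgroup (P2 F)) ∣ Fintype.card F := by
      rw [← hcQ]; exact Subgroup.card_dvd_of_le inf_le_right
    obtain ⟨c, hc⟩ := h1
    have h2 : Nat.card (J ⊓ (Q : Subgroup (P2 F)) : Subgroup (P2 F)) ≠ Fintype.card F := by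
      intro h
      apply hne
      have h3 : J ⊓ (Q : Subgroup (P2 F)) = (Q : Subgroup (P2 F)) :=
        Subgroup.eq_of_le_of_card_ge inf_le_right (by rw [h, hcQ])
      rw [← h3]
      exact inf_le_left
    have hpos : 0 < Nat.card (J ⊓ (Q : Subgroup (P2 F)) : Subgroup (P2 F)) := Nat.card_pos
    have h3 : c ≤ 2 := by
      by_contra hcon
      push Not at hcon
      nlinarith
    interval_cases c
    · omega
    · omega
    · omega
  have hJ2 : IsPGroup 2 J := by
    rw [IsPGroup.iff_card]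
    refine ⟨_, Nat.eq_prime_pow_of_unique_prime_dvd Nat.card_pos.ne' ?_⟩
    intro p hp hpd
    by_contra hp2
    have := Fact.mk hp
    obtain ⟨g, hg⟩ := exists_prime_orderOf_dvd_card' p hpd
    let α := {y : P2 F // y ∈ Q ∧ y ∉ J}
    let Z := Subgroup.zpowers g
    have hmem : ∀ (z : Z) (y : P2 F), y ∈ Q ∧ y ∉ J → ((z : J) : P2 F) * y * ((z : J) : P2 F)⁻¹ ∈ Q ∧
        ((z : J) : P2 F) * y * ((z : J) : P2 F)⁻¹ ∉ J := by
      rintro z y ⟨hy, hyJ⟩
      refine ⟨(Subgroup.mem_normalizer_iff.1 (hJ (z : J).2) y).1 hy, ?_⟩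
      intro h
      apply hyJ
      have h2 := mul_mem (mul_mem (inv_mem (z : J).2) h) (z : J).2
      simpa [mul_assoc] using h2
    let _ : MulAction Z α :=
      { smul := fun z y => ⟨((z : J) : P2 F) * y * ((z : J) : P2 F)⁻¹, hmem z y y.2⟩
        one_smul := by
          intro y
          apply Subtype.ext
          show ((1 : J) : P2 F) * (y : P2 F) * ((1 : J) : P2 F)⁻¹ = y
          simp
        mul_smul := by
          intro a b y
          apply Subtype.ext
          show (((a : J) * (b : J) : J) : P2 F) * (y : P2 F) * (((a : J) * (b : J) : J) : P2 F)⁻¹ =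
            ((a : J) : P2 F) * (((b : J) : P2 F) * y * ((b : J) : P2 F)⁻¹) * ((a : J) : P2 F)⁻¹
          simp [mul_assoc] }
    have hcα : Nat.card α = 2 ^ (n - 1) := by
      have h1 : Nat.card α + Nat.card (J ⊓ (Q : Subgroup (P2 F)) : Subgroup (P2 F)) = Fintype.card F := by
        have h2 : Nat.card α = (((Q : Subgroup (P2 F)) : Set (P2 F)) \ ((J ⊓ (Q : Subgroup (P2 F)) : Subgroup (P2 F)) : Set (P2 F))).ncard := by
          show Nat.card {y : P2 F // y ∈ Q ∧ y ∉ J} = _
          rw [← Nat.card_coe_set_eq]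
          apply Nat.card_congr
          apply Equiv.subtypeEquivRight
          intro y
          constructor
          · rintro ⟨h, h'⟩
            exact ⟨h, fun h2 => h' h2.1⟩
          · rintro ⟨h, h'⟩
            exact ⟨h, fun h2 => h' ⟨h2, h⟩⟩
        have h3 : ((J ⊓ (Q : Subgroup (P2 F)) : Subgroup (P2 F)) : Set (P2 F)).ncard = Nat.card (J ⊓ (Q : Subgroup (P2 F)) : Subgroup (P2 F)) := rfl
        rw [h2, ← h3, Set.ncard_sdiff_add_ncard_of_subset (fun x hx => hx.2), ← hcQ]
        rfl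
      have h9 : 2 ^ n = 2 * 2 ^ (n - 1) := by rw [← pow_succ']; congr 1; omega
      omega
    have hZ : IsPGroup p Z := by
      apply IsPGroup.of_card (n := 1)
      rw [Nat.card_zpowers, pow_one, hg]
    have hndvd : ¬ p ∣ Nat.card α := by
      rw [hcα]
      intro h
      exact hp2 ((Nat.prime_dvd_prime_iff_eq hp Nat.prime_two).1 (hp.dvd_of_dvd_pow h))
    have hfα : Finite α := inferInstance
    obtain ⟨y, hy⟩ := hZ.nonempty_fixed_point_of_prime_not_dvd_card α hndvd
    have hy2 := hy ⟨g, Subgroup.mem_zpowers g⟩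
    have hy3 : (g : P2 F) * (y : P2 F) * (g : P2 F)⁻¹ = y := congrArg Subtype.val hy2
    have hy1 : (y : P2 F) ≠ 1 := by
      intro h
      exact y.2.2 (h ▸ one_mem J)
    have h7 := WeakTI.PslTwo.cent (MulEquiv.refl (P2 F)) (sq_one hF Q y.2.1) hy1
      (mul_inv_eq_iff_eq_mul.1 hy3).symm
    have h8 : g ^ 2 = 1 := by
      apply Subtype.ext
      rw [pow_two]
      exact h7
    have h9 := orderOf_dvd_of_pow_eq_one h8
    rw [hg] at h9
    exact hp2 ((Nat.prime_dvd_prime_iff_eq hp Nat.prime_two).1 h9)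
  have hle := le_sylow_of_isPGroup Q J hJ hJ2
  refine ⟨hle, ?_⟩
  rw [← hhalf, inf_eq_left.2 hle]

end psl

section main
variable {X : Type u} [Group X] [Finite X] (V : Subgroup X) [hVn : V.Normal]
  {F : Type} [Field F] [Fintype F] (π : X →* P2 F)

/-- the odd case: a linear character whose stabiliser meets `Q` in index two -/
theorem exists_half (hF : Even (Fintype.card F)) (h4 : 4 < Fintype.card F)
    (hVc : ∀ x ∈ V, ∀ y ∈ V, x * y = y * x) (hπ : Function.Surjective π) (hker : π.ker = V)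
    (Q : Sylow 2 (P2 F)) (hfin : Finite (V →* ℂˣ)) (hodd : Odd (Nat.card (V →* ℂˣ)))
    (hne : ∃ x : X, π x ∈ Q ∧ ∃ l : V →* ℂˣ, x ∉ inertia V (lf l)) :
    ∃ l : V →* ℂˣ, ¬ (Q : Subgroup (P2 F)) ≤ (inertia V (lf l)).map π ∧
      Fintype.card F ≤ 2 * Nat.card ((inertia V (lf l)).map π ⊓ (Q : Subgroup (P2 F)) : Subgroup (P2 F)) := by
  classical
  let _ := act V
  let D : Subgroup X := (Q : Subgroup (P2 F)).comap π
  have hVfix : ∀ v ∈ V, ∀ l : V →* ℂˣ, v • l = l := fun v hv l =>
    (act_eq_iff V v l).2 (le_inertia' V hVc l hv)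
  obtain ⟨l, ⟨d, hd⟩, hl⟩ := exists_sign (D := D) (M := V →* ℂˣ) hodd
    (by
      intro d m
      rw [← mul_smul]
      exact hVfix _ (sq_mem V π hF hker Q d.2) m)
    (by
      intro d e m
      rw [← mul_smul, ← mul_smul]
      have h1 : ((d * e : D) : X) = (e * d : X) * ((e * d : X)⁻¹ * (d * e : X)) := by
        rw [mul_inv_cancel_left]; rfl
      show ((d * e : D) : X) • m = ((e * d : D) : X) • m
      rw [h1, mul_smul, hVfix _ (comm_mem V π hF hker Q d.2 e.2) m]
      rfl)
    (by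
      obtain ⟨x, hx, l, hl⟩ := hne
      refine ⟨⟨x, hx⟩, l, ?_⟩
      intro h
      exact hl ((act_eq_iff V x l).1 h))
  have hdn : π d ∉ (inertia V (lf l)).map π := by
    rw [mem_map_iff V π hVc hker l, ← act_eq_iff]
    exact hd
  have hl1 : l⁻¹ ≠ l := by
    intro h
    apply hd
    rcases hl d with h1 | h1
    · exact h1
    · rw [h1, h]
  have hidx : (((inertia V (lf l)).map π).subgroupOf (Q : Subgroup (P2 F))).index = 2 := by
    rw [Subgroup.index_eq_two_iff]
    refine ⟨⟨π d, d.2⟩, ?_⟩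
    rintro ⟨b, hb⟩
    obtain ⟨x, rfl⟩ := hπ b
    rw [Subgroup.mem_subgroupOf, Subgroup.mem_subgroupOf]
    show Xor (π x * π (d : X) ∈ _) (π x ∈ _)
    rw [← map_mul, mem_map_iff V π hVc hker l, mem_map_iff V π hVc hker l, ← act_eq_iff, ← act_eq_iff, mul_smul]
    have hd1 : (d : X) • l = l⁻¹ := (hl d).resolve_left hd
    have e1 : x • l⁻¹ = (x • l)⁻¹ := rfl
    rw [hd1, e1]
    rcases hl ⟨x, hb⟩ with h1 | h1
    · have h2 : x • l = l := h1
      right
      rw [h2]
      exact ⟨rfl, hl1⟩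
    · have h2 : x • l = l⁻¹ := h1
      left
      rw [h2]
      exact ⟨inv_inv l, hl1⟩
  have hcard : Fintype.card F ≤ 2 * Nat.card ((inertia V (lf l)).map π ⊓ (Q : Subgroup (P2 F)) : Subgroup (P2 F)) := by
    have h1 := Subgroup.card_mul_index (((inertia V (lf l)).map π).subgroupOf (Q : Subgroup (P2 F)))
    rw [hidx] at h1
    have h2 : Nat.card (((inertia V (lf l)).map π).subgroupOf (Q : Subgroup (P2 F))) =
        Nat.card ((inertia V (lf l)).map π ⊓ (Q : Subgroup (P2 F)) : Subgroup (P2 F)) := by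
      rw [← Subgroup.subgroupOf_map_subtype]
      exact (Nat.card_congr (Subgroup.equivMapOfInjective _ _ (Subgroup.subtype_injective _)).toEquiv)
    have h3 := card_sylow hF h4 Q
    have h5 : Nat.card (Q : Subgroup (P2 F)) = Fintype.card F := h3
    rw [← h2]
    omega
  exact ⟨l, fun h5 => hdn (h5 d.2), hcard⟩

/-- The inverse image of `Q` in the inertia group. -/
def PP (Q : Sylow 2 (P2 F)) (l : V →* ℂˣ) : Subgroup (inertia V (lf l)) :=
  ((Q : Subgroup (P2 F)).comap π).subgroupOf (inertia V (lf l))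

theorem mem_PP (Q : Sylow 2 (P2 F)) (l : V →* ℂˣ) (x : inertia V (lf l)) :
    x ∈ PP V π Q l ↔ π (x : X) ∈ Q := Iff.rfl

/-- The embedding of `V`. -/
def embV (hVc : ∀ x ∈ V, ∀ y ∈ V, x * y = y * x) (hker : π.ker = V) (Q : Sylow 2 (P2 F)) (l : V →* ℂˣ) :
    V →* PP V π Q l :=
  (Subgroup.inclusion (le_inertia' V hVc l)).codRestrict (PP V π Q l) (by
    intro v
    rw [mem_PP]
    have : (v : X) ∈ π.ker := by rw [hker]; exact v.2
    show π (v : X) ∈ _
    rw [(MonoidHom.mem_ker).1 this]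
    exact one_mem _)

/-- **The even case**: if the stabiliser is transitive on the involutions of `Q`, the linear character extends. -/
theorem exists_extension (hF : Even (Fintype.card F)) (h4 : 4 < Fintype.card F)
    (hVc : ∀ x ∈ V, ∀ y ∈ V, x * y = y * x) (hπ : Function.Surjective π) (hker : π.ker = V)
    (Q : Sylow 2 (P2 F)) (hV2 : ∀ v ∈ V, v * v = 1) (l : V →* ℂˣ)
    (hfix : ∀ x : X, π x ∈ Q → x ∈ inertia V (lf l))
    (htr : ∀ a b : P2 F, a ∈ Q → a ≠ 1 → b ∈ Q → b ≠ 1 → ∃ g ∈ (inertia V (lf l)).map π, g * a * g⁻¹ = b) :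
    ∃ φ : PP V π Q l →* ℂˣ, ∀ v : V, φ (embV V π hVc hker Q l v) = l v := by
  classical
  have := charTwo hF
  have hVI : V ≤ inertia V (lf l) := le_inertia' V hVc l
  have hcQ : Nat.card (Q : Subgroup (P2 F)) = Fintype.card F := card_sylow hF h4 Q
  -- the extended function
  let L : X → ℂˣ := fun x => if h : x ∈ V then l ⟨x, h⟩ else 1
  have hLdef : ∀ x (h : x ∈ V), L x = l ⟨x, h⟩ := fun x h => dif_pos h
  have hLmul : ∀ a ∈ V, ∀ b ∈ V, L (a * b) = L a * L b := by
    intro a ha b hb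
    rw [hLdef _ (mul_mem ha hb), hLdef a ha, hLdef b hb, ← map_mul]
    rfl
  have hL1 : L 1 = 1 := by
    rw [hLdef 1 (one_mem V)]
    exact map_one l
  have hLconj : ∀ g ∈ inertia V (lf l), ∀ a ∈ V, L (g * a * g⁻¹) = L a := by
    intro g hg a ha
    rw [hLdef _ (hVn.conj_mem a ha g), hLdef a ha]
    exact (mem_inertia_lf V).1 hg ⟨a, ha⟩
  have hLconj' : ∀ g ∈ inertia V (lf l), ∀ a ∈ V, L (g⁻¹ * a * g) = L a := by
    intro g hg a ha
    have := hLconj g⁻¹ (inv_mem hg) a ha
    rwa [inv_inv] at this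
  have hsqV : ∀ x, π x ∈ Q → x * x ∈ V := fun x hx => sq_mem V π hF hker Q hx
  have hA : ∀ y, π y ∈ Q → ∀ v ∈ V, L ((y * v) * (y * v)) = L (y * y) := by
    intro y hy v hv
    have h1 : (y * v) * (y * v) = (y * y) * ((y⁻¹ * v * y) * v) := by group
    have h2 : y⁻¹ * v * y ∈ V := by
      have := hVn.conj_mem v hv y⁻¹
      rwa [inv_inv] at this
    rw [h1, hLmul _ (hsqV y hy) _ (mul_mem h2 hv), hLmul _ h2 _ hv, hLconj' y (hfix y hy) v hv,
      ← hLmul v hv v hv, hV2 v hv, hL1, mul_one]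
  have hB : ∀ x y, π x ∈ Q → π x ≠ 1 → π y ∈ Q → π y ≠ 1 → L (x * x) = L (y * y) := by
    intro x y hx hx1 hy hy1
    obtain ⟨g0, ⟨g, hg, rfl⟩, hgxy⟩ := htr _ _ hx hx1 hy hy1
    have hv : (g * x * g⁻¹)⁻¹ * y ∈ V := by
      rw [← hker, MonoidHom.mem_ker, map_mul, map_inv, map_mul, map_mul, map_inv, hgxy, inv_mul_cancel]
    have h1 : y = (g * x * g⁻¹) * ((g * x * g⁻¹)⁻¹ * y) := by group
    have h2 : π (g * x * g⁻¹) ∈ Q := by
      rw [map_mul, map_mul, map_inv, hgxy]
      exact hy
    rw [h1, hA _ h2 _ hv]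
    have h3 : (g * x * g⁻¹) * (g * x * g⁻¹) = g * (x * x) * g⁻¹ := by group
    rw [h3, hLconj g hg _ (hsqV x hx)]
  -- the commutator form
  have hcm : ∀ a b, π a ∈ Q → π b ∈ Q → a⁻¹ * b * a * b⁻¹ ∈ V := by
    intro a b ha hb
    rw [← hker, MonoidHom.mem_ker]
    have h1 := comm_of hF Q ha hb
    simp only [map_mul, map_inv]
    rw [mul_assoc, mul_assoc, ← mul_assoc (π b), ← h1, mul_assoc, mul_inv_cancel, mul_one, inv_mul_cancel]
  have hC : ∀ a b, π a ∈ Q → π b ∈ Q → L ((a * b) * (a * b)) = L (a * a) * L (b * b) * L (a⁻¹ * b * a * b⁻¹) := by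
    intro a b ha hb
    have h1 : (a * b) * (a * b) = (a * a) * ((a⁻¹ * b * a * b⁻¹) * (b * b)) := by group
    rw [h1, hLmul _ (hsqV a ha) _ (mul_mem (hcm a b ha hb) (hsqV b hb)), hLmul _ (hcm a b ha hb) _ (hsqV b hb),
      mul_comm (L (a⁻¹ * b * a * b⁻¹)) (L (b * b)), ← mul_assoc]
  have hD : ∀ a b c, π a ∈ Q → π b ∈ Q → π c ∈ Q →
      L (a⁻¹ * (b * c) * a * (b * c)⁻¹) = L (a⁻¹ * b * a * b⁻¹) * L (a⁻¹ * c * a * c⁻¹) := by
    intro a b c ha hb hc
    have h1 : a⁻¹ * (b * c) * a * (b * c)⁻¹ = (a⁻¹ * b * a * b⁻¹) * (b * (a⁻¹ * c * a * c⁻¹) * b⁻¹) := by group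
    rw [h1, hLmul _ (hcm a b ha hb) _ (hVn.conj_mem _ (hcm a c ha hc) b), hLconj b (hfix b hb) _ (hcm a c ha hc)]
  -- three independent elements
  have hpick : ∀ S : Finset (P2 F), S.card ≤ 4 → ∃ x : X, π x ∈ Q ∧ π x ∉ S := by
    intro S hS
    by_contra hcon
    push Not at hcon
    have h1 : ((Q : Subgroup (P2 F)) : Set (P2 F)) ⊆ S := by
      intro b hb
      obtain ⟨x, rfl⟩ := hπ b
      exact hcon x hb
    have h2 := Set.ncard_le_ncard h1 S.finite_toSet
    rw [Set.ncard_coe_finset] at h2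
    have h3 : ((Q : Subgroup (P2 F)) : Set (P2 F)).ncard = Fintype.card F := hcQ
    omega
  obtain ⟨a, haQ, ha⟩ := hpick {1} (by simp)
  obtain ⟨b, hbQ, hb⟩ := hpick {1, π a} (Finset.card_le_two.trans (by norm_num))
  obtain ⟨c, hcQ', hc⟩ := hpick {1, π a, π b, π a * π b} Finset.card_le_four
  simp only [Finset.mem_singleton, Finset.mem_insert, not_or] at ha hb hc
  have hinv : ∀ x, π x ∈ Q → (π x)⁻¹ = π x := fun x hx => inv_eq_of_mul_eq_one_left (sq_one hF Q hx)
  have hab : π (a * b) ≠ 1 := by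
    rw [map_mul]
    intro h
    apply hb.2
    rw [← hinv a haQ]
    exact (inv_eq_of_mul_eq_one_right h).symm
  have hac : π (a * c) ≠ 1 := by
    rw [map_mul]
    intro h
    apply hc.2.1
    rw [← hinv a haQ]
    exact (inv_eq_of_mul_eq_one_right h).symm
  have hbc : π (b * c) ≠ 1 := by
    rw [map_mul]
    intro h
    apply hc.2.2.1
    rw [← hinv b hbQ]
    exact (inv_eq_of_mul_eq_one_right h).symm
  have habQ : π (a * b) ∈ Q := by rw [map_mul]; exact mul_mem haQ hbQ
  have hacQ : π (a * c) ∈ Q := by rw [map_mul]; exact mul_mem haQ hcQ'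
  have hbcQ : π (b * c) ∈ Q := by rw [map_mul]; exact mul_mem hbQ hcQ'
  have habc : π (a * (b * c)) ≠ 1 := by
    rw [← mul_assoc, map_mul]
    intro h
    apply hc.2.2.2
    rw [← map_mul, ← hinv _ habQ]
    exact (inv_eq_of_mul_eq_one_right h).symm
  have habcQ : π (a * (b * c)) ∈ Q := by rw [map_mul]; exact mul_mem haQ hbcQ
  have hc0 : L (a * a) = 1 := by
    have e1 := hC a b haQ hbQ
    rw [← hB a _ haQ ha habQ hab, ← hB a b haQ ha hbQ hb.1] at e1
    have e2 := hC a c haQ hcQ'
    rw [← hB a _ haQ ha hacQ hac, ← hB a c haQ ha hcQ' hc.1] at e2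
    have e3 := hC a (b * c) haQ hbcQ
    rw [← hB a _ haQ ha habcQ habc, ← hB a _ haQ ha hbcQ hbc, hD a b c haQ hbQ hcQ'] at e3
    set s := L (a * a)
    set w1 := L (a⁻¹ * b * a * b⁻¹)
    set w2 := L (a⁻¹ * c * a * c⁻¹)
    have f1 : s * w1 = 1 := by
      have : s * 1 = s * (s * w1) := by rw [mul_one, ← mul_assoc]; exact e1
      exact (mul_left_cancel this).symm
    have f2 : s * w2 = 1 := by
      have : s * 1 = s * (s * w2) := by rw [mul_one, ← mul_assoc]; exact e2
      exact (mul_left_cancel this).symm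
    have f3 : s * (w1 * w2) = 1 := by
      have : s * 1 = s * (s * (w1 * w2)) := by rw [mul_one, ← mul_assoc]; exact e3
      exact (mul_left_cancel this).symm
    rw [← mul_assoc, f1, one_mul] at f3
    rw [f3, mul_one] at f2
    exact f2
  have hE : ∀ x, π x ∈ Q → L (x * x) = 1 := by
    intro x hx
    by_cases hx1 : π x = 1
    · have hxV : x ∈ V := by rw [← hker]; exact hx1
      rw [hV2 x hxV, hL1]
    · rw [← hB a x haQ ha hx hx1, hc0]
  have hf : Function.Injective (embV V π hVc hker Q l) := by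
    intro v w h
    have h1 : (((embV V π hVc hker Q l v) : inertia V (lf l)) : X) = ((embV V π hVc hker Q l w : inertia V (lf l)) : X) := by
      rw [h]
    exact Subtype.ext h1
  exact exists_ext (embV V π hVc hker Q l) hf l
    (by
      intro x v
      refine ⟨⟨(x : X) * v * (x : X)⁻¹, hVn.conj_mem _ v.2 _⟩, rfl, ?_⟩
      have h1 := hLconj (x : X) (x : inertia V (lf l)).2 v v.2
      rw [hLdef _ (hVn.conj_mem _ v.2 _), hLdef _ v.2] at h1
      exact h1)
    (by
      intro x
      have hx : π (x : X) ∈ Q := x.2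
      refine ⟨⟨(x : X) * x, hsqV _ hx⟩, rfl, ?_⟩
      have h1 := hE (x : X) hx
      rw [hLdef _ (hsqV _ hx)] at h1
      exact h1)


theorem fac (q : ℕ) (h1 : 1 < q) : q ^ 2 - 1 = (q - 1) * (q + 1) := by
  obtain ⟨m, hm⟩ : ∃ m, q = m + 1 := ⟨q - 1, by omega⟩
  rw [hm]
  simp only [Nat.add_sub_cancel]
  have : (m + 1) ^ 2 = m * (m + 1 + 1) + 1 := by ring
  omega

/-- Clifford correspondence for degrees. -/
theorem degree_of_over (l : V →* ℂˣ) (hVI : V ≤ inertia V (lf l)) {ψ : inertia V (lf l) → ℂ}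
    (hψ : IsIrrCharacter (inertia V (lf l)) ψ)
    (hov : Over (Subgroup.inclusion hVI) ψ (lf l)) :
    (inertia V (lf l)).index * charDegree ψ ∈ charDegrees X := by
  classical
  let _ := Fintype.ofFinite X
  let _ := Fintype.ofFinite V
  let _ := Fintype.ofFinite (inertia V (lf l))
  rw [over_iff] at hov
  have h0 : classInner (Cfsg.Agent.OddOrderCharacters.PF9.CliffGen.resTo hVI ψ) (lf l) ≠ 0 := hov
  have hT : ∀ g, g ∈ inertia V (lf l) ↔ Cfsg.Agent.OddOrderCharacters.NormalInduced.conjFn V (lf l) g = lf l :=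
    fun g => Iff.rfl
  have hirr := Cfsg.Agent.OddOrderCharacters.PF9.CliffGen.irr_ind (isIrr_lf l) hT hVI hψ h0
  refine ⟨⟨_, hirr⟩, ?_⟩
  show charDegree (indFun (inertia V (lf l)) ψ) = _
  apply charDegree_of_eq
  rw [OddOrderCharacters.InertiaAbelian.indFun_one, ← coe_charDegree hψ]
  push_cast
  rfl

/-- the conclusion of the strong form -/
def Concl (X : Type u) [Group X] (q x : ℕ) : Prop :=
  (∃ d ∈ charDegrees X, (q + 1) * x ∣ d) ∨
    (∃ r : ℕ, r.Prime ∧ r ∣ q - 1 ∧ ∃ d ∈ charDegrees X, 2 * (q + 1) * r ∣ d)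

theorem comm_mem_PP (hF : Even (Fintype.card F)) (Q : Sylow 2 (P2 F)) (l : V →* ℂˣ)
    (hle : (inertia V (lf l)).map π ≤ Subgroup.normalizer ((Q : Subgroup (P2 F)) : Set (P2 F)))
    (a b : inertia V (lf l)) : ⁅a, b⁆ ∈ PP V π Q l := by
  have := charTwo hF
  rw [mem_PP]
  have ha : π (a : X) ∈ (inertia V (lf l)).map π := ⟨a, a.2, rfl⟩
  have hb : π (b : X) ∈ (inertia V (lf l)).map π := ⟨b, b.2, rfl⟩
  have h1 := H948.PSLMax.comm_pow_char 2 Q _ _ (hle ha) (hle hb)
  have h2 : π ((⁅a, b⁆ : inertia V (lf l)) : X) = ⁅π (a : X), π (b : X)⁆ := by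
    rw [← map_commutatorElement]; rfl
  rw [h2]
  have h3 : Subgroup.zpowers ⁅π (a : X), π (b : X)⁆ ≤ Subgroup.normalizer ((Q : Subgroup (P2 F)) : Set (P2 F)) := by
    rw [Subgroup.zpowers_le]
    rw [commutatorElement_def]
    exact mul_mem (mul_mem (mul_mem (hle ha) (hle hb)) (inv_mem (hle ha))) (inv_mem (hle hb))
  have h4 : IsPGroup 2 (Subgroup.zpowers ⁅π (a : X), π (b : X)⁆) := by
    rintro ⟨y, k, rfl⟩
    refine ⟨1, ?_⟩
    apply Subtype.ext
    show (⁅π (a : X), π (b : X)⁆ ^ k) ^ (2 ^ 1) = 1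
    rw [pow_one, ← zpow_natCast, ← zpow_mul, mul_comm, zpow_mul, zpow_natCast, h1, one_zpow]
  exact le_sylow_of_isPGroup Q _ h3 h4 (Subgroup.mem_zpowers _)

theorem main_even (hF : Even (Fintype.card F)) (h4 : 4 < Fintype.card F)
    (hVc : ∀ x ∈ V, ∀ y ∈ V, x * y = y * x) (hπ : Function.Surjective π) (hker : π.ker = V)
    (Q : Sylow 2 (P2 F)) (hV2 : ∀ v ∈ V, v * v = 1) (l : V →* ℂˣ)
    (hfix : ∀ x : X, π x ∈ Q → x ∈ inertia V (lf l))
    (hJ : (inertia V (lf l)).map π ≠ ⊤) (x : ℕ) (hx : x.Prime) (hxq : x ∣ Fintype.card F - 1) :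
    Concl X (Fintype.card F) x := by
  classical
  have := charTwo hF
  have h1 : 1 < Fintype.card F := Fintype.one_lt_card
  have hVI : V ≤ inertia V (lf l) := le_inertia' V hVc l
  have hQJ : (Q : Subgroup (P2 F)) ≤ (inertia V (lf l)).map π := by
    intro b hb
    obtain ⟨x, rfl⟩ := hπ b
    exact ⟨x, hfix x hb, rfl⟩
  have hcQ : Nat.card (Q : Subgroup (P2 F)) = Fintype.card F := card_sylow hF h4 Q
  have hcard : Fintype.card F ≤ 2 * Nat.card ((inertia V (lf l)).map π ⊓ (Q : Subgroup (P2 F)) : Subgroup (P2 F)) := by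
    rw [inf_eq_right.2 hQJ, hcQ]
    omega
  have hle := le_normalizer_of_large' hF h4 Q _ hJ hcard
  have hidx : Fintype.card F + 1 ∣ ((inertia V (lf l)).map π).index := by
    rw [← H436.TT.index_normalizer 2 Q]
    exact Subgroup.index_dvd_of_le hle
  obtain ⟨k, hk⟩ := hidx
  obtain ⟨m, hm⟩ : Fintype.card F ∣ Nat.card ((inertia V (lf l)).map π) := by
    rw [← hcQ]; exact Subgroup.card_dvd_of_le hQJ
  have hmul := Subgroup.card_mul_index ((inertia V (lf l)).map π)
  rw [hk, hm, Classification.PSLTwoEvenSylow.card_psl, fac _ h1] at hmul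
  have hmk : m * k = Fintype.card F - 1 := by
    have h2 : Fintype.card F * (Fintype.card F + 1) * (m * k) =
        Fintype.card F * (Fintype.card F + 1) * (Fintype.card F - 1) := by
      calc Fintype.card F * (Fintype.card F + 1) * (m * k) = Fintype.card F * m * ((Fintype.card F + 1) * k) := by ring
        _ = Fintype.card F * ((Fintype.card F - 1) * (Fintype.card F + 1)) := hmul
        _ = _ := by ring
    exact Nat.eq_of_mul_eq_mul_left (by positivity) h2
  by_cases hxk : x ∣ k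
  · left
    obtain ⟨d, hd, hdd⟩ := exists_degree_one V l
    rw [← index_map V π hVc hπ hker l, hk] at hdd
    exact ⟨d, hd, (Nat.mul_dvd_mul_left _ hxk).trans hdd⟩
  have hxm : x ∣ m := by
    rw [← hmk] at hxq
    exact (hx.dvd_mul.1 hxq).resolve_right hxk
  have hxJ : x ∣ Nat.card ((inertia V (lf l)).map π) := by
    rw [hm]; exact hxm.mul_left _
  have hxodd : ¬ 2 ∣ x := by
    intro h2
    have h3 : 2 ∣ Fintype.card F := hF.two_dvd
    have h5 := h2.trans hxq
    omega
  -- an element of order `x`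
  have := Fact.mk hx
  obtain ⟨⟨c0, ⟨c, hc, rfl⟩⟩, hco⟩ := exists_prime_orderOf_dvd_card' x hxJ
  have hco' : orderOf (π c) = x := by
    rw [← hco]
    exact Subgroup.orderOf_coe (⟨π c, _⟩ : ((inertia V (lf l)).map π : Subgroup (P2 F))) |>.symm ▸ rfl
  have hcx : π c ^ x = 1 := by rw [← hco']; exact pow_orderOf_eq_one _
  let cI : inertia V (lf l) := ⟨c, hc⟩
  have hPn : (PP V π Q l).Normal := by
    constructor
    rintro ⟨y, hyI⟩ hy ⟨g, hg⟩
    have h5 : π y ∈ (Q : Subgroup (P2 F)) := hy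
    show π (g * y * g⁻¹) ∈ (Q : Subgroup (P2 F))
    rw [map_mul, map_mul, map_inv]
    exact (Subgroup.mem_normalizer_iff.1 (hle ⟨g, hg, rfl⟩) _).1 h5
  by_cases hext : ∃ φ : PP V π Q l →* ℂˣ, ∀ v : V, φ (embV V π hVc hker Q l v) = l v
  · left
    obtain ⟨φ, hφ⟩ := hext
    let ρ : PP V π Q l →* (Q : Subgroup (P2 F)) :=
      (π.comp ((inertia V (lf l)).subtype.comp (PP V π Q l).subtype)).codRestrict _ (fun x => x.2)
    have hρ : ∀ x : PP V π Q l, (ρ x : P2 F) = π (x : X) := fun _ => rfl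
    have hdeg : ∀ ν : (Q : Subgroup (P2 F)) →* ℂˣ, ∃ d ∈ charDegrees X,
        (inertia V (lf l)).index * (H672.inertia (PP V π Q l) (lf (φ * ν.comp ρ))).index ∣ d := by
      intro ν
      refine exists_degree V (inertia V (lf l)) l rfl (PP V π Q l) hVI
        (fun v => (embV V π hVc hker Q l v).2) (φ * ν.comp ρ) ?_
      intro v
      have h5 : ρ (embV V π hVc hker Q l v) = 1 := by
        apply Subtype.ext
        rw [hρ]
        have : (v : X) ∈ π.ker := by rw [hker]; exact v.2
        exact this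
      show φ (embV V π hVc hker Q l v) * ν (ρ (embV V π hVc hker Q l v)) = l v
      rw [h5, map_one, mul_one, hφ]
    by_contra hcon
    -- `c` fixes every extension
    have hcfix : ∀ ν : (Q : Subgroup (P2 F)) →* ℂˣ, cI ∈ H672.inertia (PP V π Q l) (lf (φ * ν.comp ρ)) := by
      intro ν
      have hxS : ¬ x ∣ (H672.inertia (PP V π Q l) (lf (φ * ν.comp ρ))).index := by
        intro h5
        obtain ⟨d, hd, hdd⟩ := hdeg ν
        rw [← index_map V π hVc hπ hker l, hk] at hdd
        exact hcon ⟨d, hd, (Nat.mul_dvd_mul (Dvd.intro k rfl) h5).trans hdd⟩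
      have hPle : PP V π Q l ≤ H672.inertia (PP V π Q l) (lf (φ * ν.comp ρ)) :=
        le_inertia (isCharacter_isClassFunction (isCharacter_lf _))
      have hSn : (H672.inertia (PP V π Q l) (lf (φ * ν.comp ρ))).Normal := by
        constructor
        intro s hs a
        have h5 := hPle (comm_mem_PP V π hF Q l hle a s)
        have h6 := mul_mem h5 hs
        have h7 : ⁅a, s⁆ * s = a * s * a⁻¹ := by
          rw [commutatorElement_def]; group
        rwa [h7] at h6
      have h5 : ((QuotientGroup.mk cI : inertia V (lf l) ⧸ H672.inertia (PP V π Q l) (lf (φ * ν.comp ρ)))) ^ x = 1 := by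
        rw [← QuotientGroup.mk_pow, QuotientGroup.eq_one_iff]
        apply hPle
        rw [mem_PP]
        show π (c ^ x) ∈ Q
        rw [map_pow, hcx]
        exact one_mem _
      have h6 := orderOf_dvd_of_pow_eq_one h5
      have h7 := orderOf_dvd_natCard (QuotientGroup.mk cI : inertia V (lf l) ⧸ H672.inertia (PP V π Q l) (lf (φ * ν.comp ρ)))
      have h8 : Nat.Coprime x (Nat.card (inertia V (lf l) ⧸ H672.inertia (PP V π Q l) (lf (φ * ν.comp ρ)))) := by
        rw [hx.coprime_iff_not_dvd]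
        exact hxS
      have h9 := Nat.eq_one_of_dvd_coprimes h8 h6 h7
      rw [orderOf_eq_one_iff, QuotientGroup.eq_one_iff] at h9
      exact h9
    have hcomQ : ∀ x y : (Q : Subgroup (P2 F)), x * y = y * x := fun x y => Subtype.ext (comm_of hF Q x.2 y.2)
    -- hence `c` centralises `Q`
    have hcen : ∀ y : X, π y ∈ Q → π c * π y * (π c)⁻¹ = π y := by
      intro y hy
      let yP : PP V π Q l := ⟨⟨y, hfix y hy⟩, hy⟩
      have h5 : ρ (MulAut.conjNormal cI yP) = ρ yP := by
        by_contra hne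
        have hne2 : (ρ (MulAut.conjNormal cI yP)) * (ρ yP)⁻¹ ≠ 1 := by
          intro h; exact hne (mul_inv_eq_one.1 h)
        obtain ⟨ν, hν⟩ := exists_lin hcomQ hne2
        apply hν
        have e1 := hcfix ν
        have e2 := hcfix 1
        rw [mem_inertia_lf] at e1 e2
        have e3 := e1 yP
        have e4 := e2 yP
        simp only [MonoidHom.mul_apply, MonoidHom.comp_apply, MonoidHom.one_apply, mul_one] at e3 e4
        rw [e4] at e3
        have e5 := mul_left_cancel e3
        rw [map_mul, map_inv, e5, mul_inv_cancel]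
      have h6 := congrArg Subtype.val h5
      rw [hρ, hρ] at h6
      have h7 : π (c * y * c⁻¹) = π y := h6
      rw [map_mul, map_mul, map_inv] at h7
      exact h7
    -- contradiction
    have hQ1 : (Q : Subgroup (P2 F)) ≠ ⊥ := by
      intro h
      rw [h] at hcQ
      simp at hcQ
      omega
    obtain ⟨a, haQ, ha1⟩ := (Subgroup.bot_or_exists_ne_one _).resolve_left hQ1
    obtain ⟨y, rfl⟩ := hπ a
    have h5 := hcen y haQ
    have h6 := WeakTI.PslTwo.cent (MulEquiv.refl (P2 F)) (sq_one hF Q haQ) ha1 (mul_inv_eq_iff_eq_mul.1 h5).symm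
    have h7 : π c ^ 2 = 1 := by rw [pow_two]; exact h6
    have h8 := orderOf_dvd_of_pow_eq_one h7
    rw [hco'] at h8
    have h9 : x = 2 := (Nat.prime_dvd_prime_iff_eq hx Nat.prime_two).1 h8
    exact hxodd (h9 ▸ dvd_rfl)
  · right
    have hk1 : k ≠ 1 := by
      intro hk1
      apply hext
      rw [hk1, mul_one] at hmk
      refine exists_extension V π hF h4 hVc hπ hker Q hV2 l hfix ?_
      intro a b ha ha1 hb hb1
      exact trans_of_dvd hF h4 Q _ hle (by rw [hm, hmk]; exact Dvd.intro_left _ rfl) ha ha1 hb hb1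
    obtain ⟨r, hr, hrk⟩ := Nat.exists_prime_and_dvd hk1
    refine ⟨r, hr, ?_, ?_⟩
    · rw [← hmk]; exact hrk.mul_left _
    -- a character of even degree
    let f := embV V π hVc hker Q l
    obtain ⟨χ, hχ, hχo⟩ := exists_over V (lf l) (isIrr_lf l)
    let g : PP V π Q l →* X := (inertia V (lf l)).subtype.comp (PP V π Q l).subtype
    have hgf : V.subtype = g.comp f := rfl
    rw [hgf, over_comp_iff g f (isIrr_isCharacter hχ) (isIrr_lf l)] at hχo
    obtain ⟨ξ, hξ, hξo, hξl⟩ := hχo
    rw [over_comp_iff (inertia V (lf l)).subtype (PP V π Q l).subtype (isIrr_isCharacter hχ) hξ] at hξo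
    obtain ⟨ψ, hψ, -, hψξ⟩ := hξo
    have hdvd := (charDegree_dvd_of_over (PP V π Q l) hψ hξ hψξ).1
    have hψl : Over (Subgroup.inclusion hVI) ψ (lf l) := by
      have h5 : Subgroup.inclusion hVI = (PP V π Q l).subtype.comp f := rfl
      rw [h5, over_comp_iff _ _ (isIrr_isCharacter hψ) (isIrr_lf l)]
      exact ⟨ξ, hξ, hψξ, hξl⟩
    have hmem := degree_of_over V l hVI hψ hψl
    refine ⟨_, hmem, ?_⟩
    have heven : 2 ∣ charDegree ξ := by
      -- the degree is a power of two
      have hP2 : IsPGroup 2 (PP V π Q l) := by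
        intro z
        refine ⟨2, ?_⟩
        have h5 := hV2 _ (sq_mem V π hF hker Q z.2)
        apply Subtype.ext
        apply Subtype.ext
        show (((z : inertia V (lf l)) : X)) ^ (2 ^ 2) = 1
        rw [show (((z : inertia V (lf l)) : X)) ^ (2 ^ 2) = ((z : inertia V (lf l)) : X) * ((z : inertia V (lf l)) : X) *
          (((z : inertia V (lf l)) : X) * ((z : inertia V (lf l)) : X)) by simp [pow_succ, mul_assoc]]
        exact h5
      obtain ⟨n, hn⟩ := IsPGroup.iff_card.1 hP2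
      have hdc : charDegree ξ ∣ Nat.card (PP V π Q l) := by
        obtain ⟨n', ρ', hρ', h'⟩ := hξ
        have e1 : charDegree ξ = Module.finrank ℂ (Fin n' → ℂ) := by
          apply charDegree_of_eq
          rw [← h', Representation.char_one]
        rw [e1]
        have := hρ'
        exact Characters.DegreeBounds.finrank_dvd_card ρ'
      rw [hn, Nat.dvd_prime_pow Nat.prime_two] at hdc
      obtain ⟨b, -, hb⟩ := hdc
      rcases Nat.eq_zero_or_pos b with h0 | h0
      · exfalso
        rw [h0, pow_zero] at hb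
        obtain ⟨φ, hφ⟩ := exists_hom_of_degree_one hξ hb
        apply hext
        refine ⟨φ, fun v => ?_⟩
        have h6 := eq_of_over_of_charDegree_eq hξ (isIrr_lf l) hξl (by rw [hb, charDegree_lf])
        have h7 := congrFun h6 v
        rw [hφ] at h7
        exact Units.ext h7
      · rw [hb]; exact dvd_pow_self 2 h0.ne'
    rw [← index_map V π hVc hπ hker l, hk]
    have h5 : 2 * (Fintype.card F + 1) * r = (Fintype.card F + 1) * r * 2 := by ring
    rw [h5]
    exact Nat.mul_dvd_mul (Nat.mul_dvd_mul_left _ hrk) (heven.trans hdvd)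

end main

/-- **CROSS, strong form.** -/
theorem crossE {X : Type u} [Group X] [Finite X] (V : Subgroup X) [V.Normal]
    (hVc : ∀ x ∈ V, ∀ y ∈ V, x * y = y * x)
    (hmin : ∀ N : Subgroup X, N.Normal → N ≤ V → N = ⊥ ∨ N = V)
    (hVz : ¬ V ≤ Subgroup.center X) (F : Type) [Field F] [Fintype F]
    (hF : Even (Fintype.card F)) (h4 : 4 < Fintype.card F)
    (e : X ⧸ V ≃* Matrix.ProjectiveSpecialLinearGroup (Fin 2) F) :
    ∀ x : ℕ, x.Prime → x ∣ Fintype.card F - 1 →
      (∃ d ∈ Cfsg.charDegrees X, (Fintype.card F + 1) * x ∣ d) ∨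
      (∃ r : ℕ, r.Prime ∧ r ∣ Fintype.card F - 1 ∧ ∃ d ∈ Cfsg.charDegrees X, 2 * (Fintype.card F + 1) * r ∣ d) := by
  classical
  intro x₀ hx₀ hxq
  let π : X →* P2 F := e.toMonoidHom.comp (QuotientGroup.mk' V)
  have hπ : Function.Surjective π := e.surjective.comp (QuotientGroup.mk'_surjective V)
  have hker : π.ker = V := by
    ext x
    rw [MonoidHom.mem_ker]
    show e (QuotientGroup.mk x) = 1 ↔ x ∈ V
    rw [map_eq_one_iff e e.injective, QuotientGroup.eq_one_iff]
  have hVcom : ∀ v w : V, v * w = w * v := fun v w => Subtype.ext (hVc v v.2 w w.2)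
  have hVbot : V ≠ ⊥ := by
    rintro rfl
    exact hVz bot_le
  obtain ⟨p, hp, hpV⟩ := exists_exponent V hmin hVc hVbot
  have hcard := card_lin hVcom
  have hfin : Finite (V →* ℂˣ) := by
    apply Nat.finite_of_card_ne_zero
    rw [hcard]
    exact Nat.card_pos.ne'
  have Q : Sylow 2 (P2 F) := default
  -- a nontrivial linear character is not invariant
  have hninv : ∀ l : V →* ℂˣ, l ≠ 1 → (inertia V (lf l)).map π ≠ ⊤ := by
    intro l hl h
    have hall : ∀ x : X, x ∈ inertia V (lf l) := by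
      intro x
      rw [← mem_map_iff V π hVc hker l, h]
      trivial
    let K : Subgroup X := l.ker.map V.subtype
    have hK : K.Normal := by
      constructor
      rintro _ ⟨v, hv, rfl⟩ g
      refine ⟨MulAut.conjNormal g v, ?_, rfl⟩
      show l _ = 1
      rw [(mem_inertia_lf V).1 (hall g) v]
      exact hv
    rcases hmin K hK (Subgroup.map_subtype_le _) with h1 | h1
    · apply hVz
      intro v hv
      rw [Subgroup.mem_center_iff]
      intro g
      have h2 : (⟨v, hv⟩ : V)⁻¹ * MulAut.conjNormal g ⟨v, hv⟩ ∈ l.ker := by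
        rw [MonoidHom.mem_ker, map_mul, map_inv, (mem_inertia_lf V).1 (hall g), inv_mul_cancel]
      have h3 : V.subtype ((⟨v, hv⟩ : V)⁻¹ * MulAut.conjNormal g ⟨v, hv⟩) ∈ K := ⟨_, h2, rfl⟩
      rw [h1, Subgroup.mem_bot] at h3
      have h4 : v⁻¹ * (g * v * g⁻¹) = 1 := h3
      rw [inv_mul_eq_one] at h4
      exact (mul_inv_eq_iff_eq_mul.1 h4.symm)
    · apply hl
      ext v
      have h2 : (v : X) ∈ K := by rw [h1]; exact v.2
      obtain ⟨w, hw, hwv⟩ := h2
      have h3 : w = v := Subtype.ext hwv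
      rw [← h3]
      exact congrArg _ hw
  by_cases hp2 : p = 2
  · subst hp2
    let _ := act V
    have hV2 : ∀ v ∈ V, v * v = 1 := fun v hv => by rw [← pow_two]; exact hpV v hv
    let D : Subgroup X := (Q : Subgroup (P2 F)).comap π
    have hD : IsPGroup 2 D := by
      intro x
      refine ⟨2, ?_⟩
      apply Subtype.ext
      have h1 := hV2 _ (sq_mem V π hF hker Q x.2)
      show (x : X) ^ (2 ^ 2) = 1
      rw [show (x : X) ^ (2 ^ 2) = (x : X) * x * ((x : X) * x) by simp [pow_succ, mul_assoc]]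
      exact h1
    have hVp : IsPGroup 2 V := by
      intro v
      refine ⟨1, ?_⟩
      apply Subtype.ext
      show (v : X) ^ (2 ^ 1) = 1
      rw [pow_one]
      exact hpV v v.2
    have hdvd : 2 ∣ Nat.card (V →* ℂˣ) := by
      rw [hcard]
      obtain ⟨n, hn⟩ := IsPGroup.iff_card.1 hVp
      rw [hn]
      apply dvd_pow_self
      rintro rfl
      rw [pow_zero, Subgroup.card_eq_one] at hn
      exact hVbot hn
    obtain ⟨l, hl, hl1⟩ := hD.exists_fixed_point_of_prime_dvd_card_of_fixed_point (V →* ℂˣ) hdvd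
      (a := 1) (fun d => by
        show (d : X) • (1 : V →* ℂˣ) = 1
        exact (act V).smul_one (d : X))
    refine main_even V π hF h4 hVc hπ hker Q hV2 l ?_ (hninv l (Ne.symm hl1)) x₀ hx₀ hxq
    intro x hx
    exact (act_eq_iff V x l).1 (hl ⟨x, hx⟩)
  · have hodd : Odd (Nat.card (V →* ℂˣ)) := by
      rw [hcard]
      have hVp : IsPGroup p V := by
        intro v
        refine ⟨1, ?_⟩
        apply Subtype.ext
        show (v : X) ^ (p ^ 1) = 1
        rw [pow_one]
        exact hpV v v.2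
      have := Fact.mk hp
      obtain ⟨n, hn⟩ := IsPGroup.iff_card.1 hVp
      rw [hn]
      exact (hp.odd_of_ne_two hp2).pow
    have hex : ∃ x : X, π x ∈ Q ∧ ∃ l : V →* ℂˣ, x ∉ inertia V (lf l) := ?_
    · obtain ⟨l, hlQ, hlc⟩ := exists_half V π hF h4 hVc hπ hker Q hfin hodd hex
      have hJ : (inertia V (lf l)).map π ≠ ⊤ := by
        intro h
        rw [h] at hlQ
        exact hlQ le_top
      have hle := le_normalizer_of_large' hF h4 Q _ hJ hlc
      obtain ⟨-, h2⟩ := le_of_half hF h4 Q _ hle hlc hlQ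
      have hmul := Subgroup.card_mul_index ((inertia V (lf l)).map π)
      have := charTwo hF
      have h1 : 1 < Fintype.card F := Fintype.one_lt_card
      rw [Classification.PSLTwoEvenSylow.card_psl, fac _ h1] at hmul
      have hidx : ((inertia V (lf l)).map π).index = 2 * (Fintype.card F + 1) * (Fintype.card F - 1) := by
        have hpos : 0 < Nat.card ((inertia V (lf l)).map π) := Nat.card_pos
        apply Nat.eq_of_mul_eq_mul_left hpos
        rw [hmul]
        conv_lhs => rw [← h2]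
        have h3 : 0 < Fintype.card F - 1 := by omega
        rw [h2]
        nth_rewrite 1 [← h2]
        ring
      right
      refine ⟨x₀, hx₀, hxq, ?_⟩
      obtain ⟨d, hd, hdd⟩ := exists_degree_one V l
      rw [← index_map V π hVc hπ hker l, hidx] at hdd
      exact ⟨d, hd, (Nat.mul_dvd_mul_left _ hxq).trans hdd⟩
    -- faithfulness
    have hsimp : IsSimpleGroup (P2 F) := TwoFusion.SLTwoFacts.isSimpleGroup_psl (by omega)
    let C : Subgroup X := Subgroup.centralizer (V : Set X)
    have hCn : C.Normal := inferInstance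
    have hVC : V ≤ C := by
      intro v hv
      rw [Subgroup.mem_centralizer_iff]
      intro w hw
      exact hVc w hw v hv
    have hCV : C ≤ V := by
      rcases (hCn.map π hπ).eq_bot_or_eq_top with h | h
      · intro c hc
        rw [← hker, MonoidHom.mem_ker]
        have : π c ∈ C.map π := ⟨c, hc, rfl⟩
        rw [h] at this
        exact this
      · exfalso
        apply hVz
        intro v hv
        rw [Subgroup.mem_center_iff]
        intro g
        have h1 : π g ∈ C.map π := by rw [h]; trivial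
        obtain ⟨c, hc, hcg⟩ := h1
        have h2 : c⁻¹ * g ∈ V := by
          rw [← hker, MonoidHom.mem_ker, map_mul, map_inv, hcg, inv_mul_cancel]
        have h3 : g ∈ C := by
          have := mul_mem hc (hVC h2)
          simpa using this
        exact ((Subgroup.mem_centralizer_iff.1 h3) v hv).symm
    have hQ1 : (Q : Subgroup (P2 F)) ≠ ⊥ := by
      intro h
      have h1 : Nat.card (Q : Subgroup (P2 F)) = Fintype.card F := card_sylow hF h4 Q
      rw [h] at h1
      simp at h1
      omega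
    obtain ⟨a, haQ, ha1⟩ := (Subgroup.bot_or_exists_ne_one _).resolve_left hQ1
    obtain ⟨x, rfl⟩ := hπ a
    have hxV : x ∉ C := by
      intro h
      apply ha1
      have := hCV h
      rw [← hker] at this
      exact this
    rw [Subgroup.mem_centralizer_iff] at hxV
    push Not at hxV
    obtain ⟨v, hv, hvx⟩ := hxV
    have hne : (⟨v, hv⟩ : V)⁻¹ * MulAut.conjNormal x ⟨v, hv⟩ ≠ 1 := by
      intro h
      apply hvx
      rw [inv_mul_eq_one] at h
      have h1 : v = x * v * x⁻¹ := congrArg Subtype.val h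
      exact (mul_inv_eq_iff_eq_mul.1 h1.symm).symm
    obtain ⟨l, hl⟩ := exists_lin hVcom hne
    refine ⟨x, haQ, l, ?_⟩
    intro hx
    apply hl
    rw [map_mul, map_inv, (mem_inertia_lf V).1 hx, inv_mul_cancel]


/-- **CROSS, the form with the full factor `q + 1`.** -/
theorem cross_strong {X : Type u} [Group X] [Finite X] (V : Subgroup X) [V.Normal]
    (hVc : ∀ x ∈ V, ∀ y ∈ V, x * y = y * x)
    (hmin : ∀ N : Subgroup X, N.Normal → N ≤ V → N = ⊥ ∨ N = V)
    (hVz : ¬ V ≤ Subgroup.center X) (F : Type) [Field F] [Fintype F]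
    (hF : Even (Fintype.card F)) (h4 : 4 < Fintype.card F)
    (e : X ⧸ V ≃* Matrix.ProjectiveSpecialLinearGroup (Fin 2) F) :
    ∃ r : ℕ, r.Prime ∧ r ∣ Fintype.card F - 1 ∧ ∃ d ∈ Cfsg.charDegrees X, r * (Fintype.card F + 1) ∣ d := by
  obtain ⟨x, hx, hxq⟩ := Nat.exists_prime_and_dvd (show Fintype.card F - 1 ≠ 1 by omega)
  rcases crossE V hVc hmin hVz F hF h4 e x hx hxq with ⟨d, hd, hdd⟩ | ⟨r, hr, hrq, d, hd, hdd⟩
  · exact ⟨x, hx, hxq, d, hd, by rwa [mul_comm x]⟩
  · refine ⟨r, hr, hrq, d, hd, dvd_trans ?_ hdd⟩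
    exact ⟨2, by ring⟩

end Cfsg.Agent.H191.Cross
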