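import Cfsg.Agent.H436.TTPsl2
import Cfsg.Agent.WeakTI.PslTwo
import Cfsg.Agent.TwoFusion.SLTwoFacts
import Cfsg.Agent.S0799

/-!
# Subgroups of `PSL(2, q)`, `q` even, with a large intersection with a Sylow 2-subgroup
-/

set_option autoImplicit false
set_option linter.unusedSectionVars false
open Cfsg

namespace Cfsg.Agent.H191.Cross

open Cfsg.Agent.ClassicalGeometry

/-- `PSL(2, F)` -/
abbrev P2 (F : Type) [Field F] := Matrix.ProjectiveSpecialLinearGroup (Fin 2) F

section
variable {F : Type} [Field F] [Fintype F]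

theorem charTwo (hF : Even (Fintype.card F)) : CharP F 2 := by
  obtain ⟨p, hp⟩ := CharP.exists F
  have := hp
  obtain ⟨n, hpr, hn⟩ := FiniteField.card F p
  have : p = 2 := by
    have h : 2 ∣ p ^ (n : ℕ) := by rw [← hn]; exact hF.two_dvd
    exact ((Nat.prime_dvd_prime_iff_eq Nat.prime_two hpr).1 (Nat.prime_two.dvd_of_dvd_pow h)).symm
  exact this ▸ hp

theorem card_two_pow (hF : Even (Fintype.card F)) (h4 : 4 < Fintype.card F) :
    ∃ n : ℕ, 3 ≤ n ∧ Fintype.card F = 2 ^ n := by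
  have := charTwo hF
  obtain ⟨n, hpr, hn⟩ := FiniteField.card F 2
  refine ⟨n, ?_, hn⟩
  by_contra hcon
  push Not at hcon
  have : 2 ^ (n : ℕ) ≤ 2 ^ 2 := Nat.pow_le_pow_right (by norm_num) (by omega)
  omega

theorem card_sylow (hF : Even (Fintype.card F)) (h4 : 4 < Fintype.card F)
    (Q : Sylow 2 (P2 F)) : Nat.card Q = Fintype.card F := by
  have := charTwo hF
  obtain ⟨n, hn3, hn⟩ := card_two_pow hF h4
  have h1 : Nat.card (P2 F) = Fintype.card F * (Fintype.card F ^ 2 - 1) :=
    Classification.PSLTwoEvenSylow.card_psl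
  rw [Sylow.card_eq_multiplicity, h1, hn]
  have hodd : ¬ 2 ∣ (2 ^ n) ^ 2 - 1 := by
    have h2 : 2 ∣ (2 ^ n) ^ 2 := (dvd_pow_self 2 (by omega)).trans (dvd_pow_self _ (by norm_num))
    have h3 : 0 < (2 ^ n) ^ 2 := by positivity
    omega
  have h5 : (2 ^ n) ^ 2 - 1 ≠ 0 := by
    intro h0; rw [h0] at hodd; exact hodd (dvd_zero _)
  rw [Nat.factorization_mul (by positivity) h5]
  simp only [Finsupp.coe_add, Pi.add_apply, Nat.factorization_eq_zero_of_not_dvd hodd, add_zero]
  rw [Nat.Prime.factorization_pow Nat.prime_two]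
  simp

/-- the nontrivial elements of a Sylow 2-subgroup are involutions -/
theorem sq_one (hF : Even (Fintype.card F)) (Q : Sylow 2 (P2 F))
    {x : P2 F} (hx : x ∈ Q) : x * x = 1 := by
  have := charTwo hF
  obtain ⟨k, hk⟩ := Q.isPGroup' ⟨x, hx⟩
  exact WeakTI.PslTwo.mul_self (MulEquiv.refl _) (k := k) (by simpa using congrArg Subtype.val hk)

theorem comm_of (hF : Even (Fintype.card F)) (Q : Sylow 2 (P2 F))
    {x y : P2 F} (hx : x ∈ Q) (hy : y ∈ Q) : x * y = y * x := by
  have h1 := sq_one hF Q hx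
  have h2 := sq_one hF Q hy
  have h3 := sq_one hF Q (mul_mem hx hy)
  have e1 : x⁻¹ = x := inv_eq_of_mul_eq_one_left h1
  have e2 : y⁻¹ = y := inv_eq_of_mul_eq_one_left h2
  have e3 : (x * y)⁻¹ = x * y := inv_eq_of_mul_eq_one_left h3
  rw [mul_inv_rev, e1, e2] at e3
  exact e3.symm

/-- A subgroup of order divisible by `q - 1` normalising a Sylow 2-subgroup `Q` is transitive on the
involutions of `Q`. -/
theorem trans_of_dvd (hF : Even (Fintype.card F)) (h4 : 4 < Fintype.card F)
    (Q : Sylow 2 (P2 F))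
    (J : Subgroup (P2 F))
    (hJ : J ≤ Subgroup.normalizer ((Q : Subgroup (P2 F)) :
      Set (P2 F)))
    (hd : Fintype.card F - 1 ∣ Nat.card J)
    {x y : P2 F} (hx : x ∈ Q) (hx1 : x ≠ 1) (hy : y ∈ Q) (hy1 : y ≠ 1) :
    ∃ g ∈ J, g * x * g⁻¹ = y := by
  classical
  have := charTwo hF
  let _ : MulAction J (P2 F) :=
    MulAction.compHom _ ((MulAut.conj (G := P2 F)).comp J.subtype)
  have hact : ∀ (g : J) (z : P2 F), g • z = (g : P2 F) * z * (g : P2 F)⁻¹ := fun _ _ => rfl
  have hstab : IsPGroup 2 (MulAction.stabilizer J x) := by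
    intro g
    refine ⟨1, ?_⟩
    have h1 : (g : J) • x = x := g.2
    rw [hact] at h1
    have h2 : x * ((g : J) : P2 F) = (g : J) * x := by
      rw [mul_inv_eq_iff_eq_mul] at h1
      exact h1.symm
    have h3 := WeakTI.PslTwo.cent (MulEquiv.refl _) (sq_one hF Q hx) hx1 h2
    apply Subtype.ext
    apply Subtype.ext
    simpa [pow_succ] using h3
  obtain ⟨k, hk⟩ := (IsPGroup.iff_card).1 hstab
  have h1 := Subgroup.card_mul_index (MulAction.stabilizer J x)
  rw [MulAction.index_stabilizer, hk] at h1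
  obtain ⟨n, hn3, hn⟩ := card_two_pow hF h4
  have hcop : Nat.Coprime (Fintype.card F - 1) (2 ^ k) := by
    apply Nat.Coprime.pow_right
    rw [Nat.coprime_comm, Nat.prime_two.coprime_iff_not_dvd]
    have : 2 ∣ Fintype.card F := hF.two_dvd
    omega
  rw [← h1] at hd
  have h2 := hcop.dvd_of_dvd_mul_left hd
  have hsub : MulAction.orbit J x ⊆ (Q : Set (P2 F)) \ {1} := by
    rintro z ⟨g, rfl⟩
    show g • x ∈ _
    rw [hact]
    refine ⟨(Subgroup.mem_normalizer_iff.1 (hJ g.2) x).1 hx, ?_⟩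
    intro h
    rw [Set.mem_singleton_iff] at h
    apply hx1
    simpa using h
  have hcard : ((Q : Set (P2 F)) \ {1}).ncard = Fintype.card F - 1 := by
    rw [Set.ncard_sdiff_singleton_of_mem (one_mem Q)]
    rw [← card_sylow hF h4 Q]
    rfl
  have hpos : 0 < (MulAction.orbit J x).ncard := by
    rw [Set.ncard_pos]
    exact ⟨x, MulAction.mem_orbit_self x⟩
  have heq : MulAction.orbit J x = (Q : Set (P2 F)) \ {1} := by
    apply Set.eq_of_subset_of_ncard_le hsub
    rw [hcard]
    exact Nat.le_of_dvd hpos h2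
  have hyo : y ∈ MulAction.orbit J x := by
    rw [heq]
    exact ⟨hy, hy1⟩
  obtain ⟨g, hg⟩ := hyo
  exact ⟨g, g.2, hg⟩

theorem arith_alt {n N : ℕ} (hn : 3 ≤ n) (hN : N = 12 ∨ N = 24 ∨ N = 60) (h1 : 2 ^ (n - 1) ∣ N)
    (h2 : 2 ^ n - 1 ∣ N ∨ 2 ^ n + 1 ∣ N) : False := by
  have hle : n ≤ 6 := by
    by_contra hcon
    push Not at hcon
    have h3 : 2 ^ 6 ≤ 2 ^ (n - 1) := Nat.pow_le_pow_right (by norm_num) (by omega)
    have h4 := Nat.le_of_dvd (by omega) h1
    omega
  rcases hN with rfl | rfl | rfl <;> interval_cases n <;> revert h1 h2 <;> decide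

/-- **Subgroups of `PSL(2, q)`, `q ≥ 8` even, containing at least half of a Sylow 2-subgroup.** -/
theorem le_normalizer_of_large (hF : Even (Fintype.card F)) (h4 : 4 < Fintype.card F)
    (Q : Sylow 2 (P2 F)) (J : Subgroup (P2 F)) (hJ : J ≠ ⊤)
    (hQ : Fintype.card F ≤ 2 * Nat.card (J ⊓ (Q : Subgroup (P2 F)) : Subgroup (P2 F)))
    (hd : Fintype.card F - 1 ∣ Nat.card J ∨ Fintype.card F + 1 ∣ Nat.card J) :
    J ≤ Subgroup.normalizer ((Q : Subgroup (P2 F)) : Set (P2 F)) := by
  classical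
  have := charTwo hF
  obtain ⟨n, hn3, hn⟩ := card_two_pow hF h4
  have hpg : IsPGroup 2 (J ⊓ (Q : Subgroup (P2 F)) : Subgroup (P2 F)) := Q.isPGroup'.to_le inf_le_right
  obtain ⟨a, ha⟩ := (IsPGroup.iff_card).1 hpg
  have han : n ≤ a + 1 := by
    rw [ha, hn, ← pow_succ'] at hQ
    exact (Nat.pow_le_pow_iff_right (by norm_num)).1 hQ
  have hdJ : 2 ^ (n - 1) ∣ Nat.card J := by
    have h1 : 2 ^ (n - 1) ∣ 2 ^ a := pow_dvd_pow 2 (by omega)
    rw [← ha] at h1
    exact h1.trans (Subgroup.card_dvd_of_le inf_le_left)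
  have h4J : 4 ∣ Nat.card J := by
    have h1 : 2 ^ 2 ∣ 2 ^ (n - 1) := pow_dvd_pow 2 (by omega)
    exact (by norm_num : (4 : ℕ) = 2 ^ 2) ▸ h1.trans hdJ
  -- it suffices to find a nontrivial normal 2-subgroup
  have key : ∀ R : Subgroup J, R.Normal → IsPGroup 2 R → R ≠ ⊥ →
      J ≤ Subgroup.normalizer ((Q : Subgroup (P2 F)) : Set (P2 F)) := by
    intro R hR hRp hR1
    obtain ⟨P, hRP, hJP⟩ := PSL2ElemOrder.le_normalizer_of_normal 2 J (R.map J.subtype)
      (hRp.map _) (by
        intro h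
        apply hR1
        rw [Subgroup.map_eq_bot_iff_of_injective _ J.subtype_injective] at h
        exact h)
      (by
        intro g hg
        rw [Subgroup.mem_normalizer_iff]
        intro h
        constructor
        · rintro ⟨r, hr, rfl⟩
          exact ⟨⟨g, hg⟩ * r * ⟨g, hg⟩⁻¹, hR.conj_mem r hr _, rfl⟩
        · rintro ⟨r, hr, hr2⟩
          refine ⟨⟨g, hg⟩⁻¹ * r * ⟨g, hg⟩, ?_, ?_⟩
          · have := hR.conj_mem r hr (⟨g, hg⟩ : J)⁻¹
            simpa using this
          · have h3 : (r : P2 F) = g * h * g⁻¹ := hr2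
            show g⁻¹ * (r : P2 F) * g = h
            rw [h3]
            group)
    have h5 : J ⊓ (Q : Subgroup (P2 F)) ≤ (P : Subgroup (P2 F)) := by
      have h6 : J ⊓ (Q : Subgroup (P2 F)) ⊓
          Subgroup.normalizer ((P : Subgroup (P2 F)) : Set (P2 F)) = J ⊓ (Q : Subgroup (P2 F)) ⊓ (P : Subgroup (P2 F)) :=
        hpg.inf_normalizer_sylow P
      have h7 : J ⊓ (Q : Subgroup (P2 F)) ≤ J ⊓ (Q : Subgroup (P2 F)) ⊓
          Subgroup.normalizer ((P : Subgroup (P2 F)) : Set (P2 F)) :=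
        le_inf le_rfl (inf_le_left.trans hJP)
      rw [h6] at h7
      exact h7.trans inf_le_right
    have hne : (J ⊓ (Q : Subgroup (P2 F)) : Subgroup (P2 F)) ≠ ⊥ := by
      intro h0
      rw [h0] at hQ
      simp at hQ
      omega
    obtain ⟨x, hx, hx1⟩ := (Subgroup.bot_or_exists_ne_one _).resolve_left hne
    have h8 : P = Q := PSL2ElemOrder.sylow_eq_of_mem 2 P Q x hx1 (h5 hx) (hx.2)
    rw [← h8]
    exact hJP
  have hgcd : Nat.gcd 2 (Fintype.card F - 1) = 1 := by
    have h2 : 2 ∣ Fintype.card F := hF.two_dvd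
    rw [← Nat.coprime_iff_gcd_eq_one, Nat.prime_two.coprime_iff_not_dvd]
    omega
  rcases S0799.result (F := F) rfl 2 J with h | h | h | h | h | h
  · exfalso
    obtain ⟨k, hk, hk2⟩ := h
    rw [hgcd, Nat.div_one, Nat.div_one] at hk
    have hodd : ¬ 2 ∣ k := by
      intro h2
      have h3 : 2 ∣ Fintype.card F := hF.two_dvd
      rcases hk with hk | hk
      · have := h2.trans hk
        omega
      · have := h2.trans hk
        omega
    rcases hk2 with ⟨-, hk2⟩ | ⟨⟨e⟩⟩
    · rw [hk2] at h4J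
      omega
    · rw [Nat.card_congr e.toEquiv, DihedralGroup.nat_card] at h4J
      omega
  · obtain ⟨P, K, hKP, ⟨e⟩⟩ := h
    -- `P ∩ K` pulled back
    let R : Subgroup J := ((P : Subgroup (P2 F)).subgroupOf K).comap e.toMonoidHom
    have hRn : R.Normal := by
      have h1 : ((P : Subgroup (P2 F)).subgroupOf K).Normal := Subgroup.normal_subgroupOf_of_le_normalizer hKP
      exact Subgroup.Normal.comap h1 _
    have hRp : IsPGroup 2 R := by
      apply IsPGroup.comap_of_injective _ _ e.injective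
      exact (P.isPGroup'.comap_subtype)
    refine key R hRn hRp ?_
    intro h0
    have h1 : (P : Subgroup (P2 F)).subgroupOf K = ⊥ := by
      have h2 : R.map e.toMonoidHom = (P : Subgroup (P2 F)).subgroupOf K :=
        Subgroup.map_comap_eq_self_of_surjective e.surjective _
      rw [← h2, h0, Subgroup.map_bot]
    -- `K` has even order, so an involution
    have h2 : 2 ∣ Nat.card K := by
      rw [← Nat.card_congr e.toEquiv]
      exact (by norm_num : (2 : ℕ) ∣ 4).trans h4J
    obtain ⟨x, hx⟩ := exists_prime_orderOf_dvd_card' 2 h2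
    have h3 : IsPGroup 2 (Subgroup.zpowers (x : P2 F)) := by
      apply IsPGroup.of_card (n := 1)
      rw [Nat.card_zpowers, pow_one]
      simpa using hx
    have h4 : Subgroup.zpowers (x : P2 F) ⊓ Subgroup.normalizer ((P : Subgroup (P2 F)) : Set (P2 F)) =
        Subgroup.zpowers (x : P2 F) ⊓ (P : Subgroup (P2 F)) := h3.inf_normalizer_sylow P
    have h5 : (x : P2 F) ∈ (P : Subgroup (P2 F)) := by
      have h6 : (x : P2 F) ∈ Subgroup.zpowers (x : P2 F) ⊓ Subgroup.normalizer ((P : Subgroup (P2 F)) : Set (P2 F)) :=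
        ⟨Subgroup.mem_zpowers _, hKP x.2⟩
      rw [h4] at h6
      exact h6.2
    have h6 : x ∈ (P : Subgroup (P2 F)).subgroupOf K := h5
    rw [h1, Subgroup.mem_bot] at h6
    rw [h6, orderOf_one] at hx
    omega
  · exfalso
    obtain ⟨e⟩ := h
    have hc : Nat.card J = 12 := by
      rw [Nat.card_congr e.toEquiv, nat_card_alternatingGroup]
      simp; decide
    rw [hc, hn] at hd
    rw [hc] at hdJ
    exact arith_alt hn3 (Or.inl rfl) hdJ hd
  · exfalso
    obtain ⟨e⟩ := h
    have hc : Nat.card J = 24 := by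
      rw [Nat.card_congr e.toEquiv, Nat.card_perm]
      simp; decide
    rw [hc, hn] at hd
    rw [hc] at hdJ
    exact arith_alt hn3 (Or.inr (Or.inl rfl)) hdJ hd
  · exfalso
    obtain ⟨e⟩ := h
    have hc : Nat.card J = 60 := by
      rw [Nat.card_congr e.toEquiv, nat_card_alternatingGroup]
      simp; decide
    rw [hc, hn] at hd
    rw [hc] at hdJ
    exact arith_alt hn3 (Or.inr (Or.inr rfl)) hdJ hd
  · exfalso
    obtain ⟨K, iK, iK2, m, hm, h⟩ := h
    have hm0 : m ≠ 0 := by
      rintro rfl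
      rw [pow_zero] at hm
      omega
    have hKe : Even (Fintype.card K) := by
      rw [even_iff_two_dvd]
      have h2 : 2 ∣ Fintype.card F := hF.two_dvd
      rw [← hm] at h2
      exact Nat.prime_two.dvd_of_dvd_pow h2
    have hc : Nat.card J = Fintype.card K * (Fintype.card K ^ 2 - 1) := by
      have := charTwo hKe
      rcases h with ⟨⟨e⟩⟩ | ⟨⟨e⟩⟩
      · rw [Nat.card_congr e.toEquiv]
        exact Classification.PSLTwoEvenSylow.card_psl
      · rw [Nat.card_congr e.toEquiv]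
        exact PSL2Basic.card_PGL2 K
    rcases (show m = 1 ∨ 2 ≤ m by omega) with rfl | hm2
    · rw [pow_one] at hm
      apply hJ
      apply Subgroup.eq_top_of_card_eq
      rw [hc, hm]
      exact Classification.PSLTwoEvenSylow.card_psl.symm
    · have hK2 : 2 ≤ Fintype.card K := Fintype.one_lt_card
      have h6 : Fintype.card K ^ 2 ≤ Fintype.card F := by
        rw [← hm]
        exact Nat.pow_le_pow_right (by omega) hm2
      have hodd : ¬ 2 ∣ Fintype.card K ^ 2 - 1 := by
        have h2 : 2 ∣ Fintype.card K ^ 2 := (hKe.two_dvd).trans (dvd_pow_self _ (by norm_num))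
        have h3 : 0 < Fintype.card K ^ 2 := by positivity
        omega
      rw [hc] at hdJ
      have h7 : 2 ^ (n - 1) ∣ Fintype.card K :=
        (Nat.Coprime.pow_left _ ((Nat.prime_two.coprime_iff_not_dvd).2 hodd)).dvd_of_dvd_mul_right hdJ
      have h8 := Nat.le_of_dvd (by omega) h7
      have h9 : 2 ^ n = 2 * 2 ^ (n - 1) := by rw [← pow_succ']; congr 1; omega
      rw [hn, h9] at h6
      have h10 : Fintype.card K ≤ 2 := by nlinarith
      have h11 : 2 ^ 2 ≤ 2 ^ (n - 1) := Nat.pow_le_pow_right (by norm_num) (by omega)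
      omega

end

end Cfsg.Agent.H191.Cross
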