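import Cfsg.Agent.H191.CrossAct
import Cfsg.Agent.H191.CrossPsl
import Cfsg.Agent.H191.CrossClif

/-!
# CROSS: a minimal normal abelian noncentral subgroup with quotient `PSL(2, q)`, `q ≥ 8` even

Some character degree is divisible by a prime divisor of `q - 1` times a prime divisor of `q + 1`.
-/

set_option autoImplicit false
set_option linter.unusedSectionVars false
open Cfsg

namespace Cfsg.Agent.H191.Cross

open Cfsg.Agent.Characters.Core
open Cfsg.Agent.H672

universe u

section act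
variable {X : Type u} [Group X] [Finite X] (V : Subgroup X) [hVn : V.Normal]

/-- The action on the linear characters of a normal subgroup. -/
@[reducible] def act : MulDistribMulAction X (V →* ℂˣ) where
  smul x l := l.comp (MulAut.conjNormal x⁻¹ : MulAut V).toMonoidHom
  one_smul l := by
    ext v
    show ((l ((MulAut.conjNormal (1 : X)⁻¹ : MulAut V) v) : ℂˣ) : ℂ) = l v
    rw [inv_one, map_one]
    rfl
  mul_smul x y l := by
    ext v
    show ((l ((MulAut.conjNormal (x * y)⁻¹ : MulAut V) v) : ℂˣ) : ℂ) =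
      l ((MulAut.conjNormal y⁻¹ : MulAut V) ((MulAut.conjNormal x⁻¹ : MulAut V) v))
    rw [mul_inv_rev, map_mul]
    rfl
  smul_mul x l m := rfl
  smul_one x := rfl

theorem act_apply (x : X) (l : V →* ℂˣ) (v : V) :
    letI := act V
    (x • l) v = l ((MulAut.conjNormal x⁻¹ : MulAut V) v) := rfl

theorem act_eq_iff (x : X) (l : V →* ℂˣ) :
    letI := act V
    x • l = l ↔ x ∈ inertia V (lf l) := by
  let _ := act V
  rw [← inv_mem_iff, mem_inertia_lf]
  constructor
  · intro h v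
    exact DFunLike.congr_fun h v
  · intro h
    ext v
    exact congrArg _ (h v)

end act

section main
variable {X : Type u} [Group X] [Finite X] (V : Subgroup X) [hVn : V.Normal]
  {F : Type} [Field F] [Fintype F] (π : X →* P2 F)

theorem le_inertia' (hVc : ∀ x ∈ V, ∀ y ∈ V, x * y = y * x) (l : V →* ℂˣ) : V ≤ inertia V (lf l) := by
  intro x hx
  rw [mem_inertia_lf]
  intro n
  congr 1
  apply Subtype.ext
  show x * n * x⁻¹ = n
  rw [hVc x hx n n.2, mul_inv_cancel_right]

theorem index_map (hVc : ∀ x ∈ V, ∀ y ∈ V, x * y = y * x) (hπ : Function.Surjective π) (hker : π.ker = V)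
    (l : V →* ℂˣ) : ((inertia V (lf l)).map π).index = (inertia V (lf l)).index :=
  Subgroup.index_map_eq _ hπ (hker ▸ le_inertia' V hVc l)

theorem mem_map_iff (hVc : ∀ x ∈ V, ∀ y ∈ V, x * y = y * x) (hker : π.ker = V)
    (l : V →* ℂˣ) (x : X) : π x ∈ (inertia V (lf l)).map π ↔ x ∈ inertia V (lf l) := by
  constructor
  · rintro ⟨y, hy, hxy⟩
    have h1 : y⁻¹ * x ∈ V := by
      rw [← hker, MonoidHom.mem_ker, map_mul, map_inv, hxy, inv_mul_cancel]
    have h2 := mul_mem hy (le_inertia' V hVc l h1)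
    simpa using h2
  · intro h
    exact ⟨x, h, rfl⟩

theorem coprime_pm (hF : Even (Fintype.card F)) : Nat.Coprime (Fintype.card F - 1) (Fintype.card F + 1) := by
  have h2 : 2 ∣ Fintype.card F := hF.two_dvd
  have h1 : 1 < Fintype.card F := Fintype.one_lt_card
  have h3 : Fintype.card F + 1 = (Fintype.card F - 1) + 2 := by omega
  rw [h3, Nat.coprime_self_add_right, Nat.coprime_comm, Nat.prime_two.coprime_iff_not_dvd]
  omega

/-- no degree is divisible by a prime of `q - 1` times a prime of `q + 1` -/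
def No (X : Type u) [Group X] (q : ℕ) : Prop :=
  ∀ r s : ℕ, r.Prime → s.Prime → r ∣ q - 1 → s ∣ q + 1 → ∀ d ∈ charDegrees X, ¬ r * s ∣ d

theorem dichotomy (hF : Even (Fintype.card F)) (hno : No X (Fintype.card F))
    (hVc : ∀ x ∈ V, ∀ y ∈ V, x * y = y * x) (hπ : Function.Surjective π) (hker : π.ker = V)
    (l : V →* ℂˣ) :
    (Nat.Coprime (Fintype.card F - 1) ((inertia V (lf l)).map π).index ∧
      Fintype.card F - 1 ∣ Nat.card ((inertia V (lf l)).map π)) ∨
    (Nat.Coprime (Fintype.card F + 1) ((inertia V (lf l)).map π).index ∧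
      Fintype.card F + 1 ∣ Nat.card ((inertia V (lf l)).map π)) := by
  have := charTwo hF
  have h1 : 1 < Fintype.card F := Fintype.one_lt_card
  have hcard : Nat.card (P2 F) = Fintype.card F * (Fintype.card F ^ 2 - 1) :=
    Classification.PSLTwoEvenSylow.card_psl
  have hfac : Fintype.card F ^ 2 - 1 = (Fintype.card F - 1) * (Fintype.card F + 1) := by
    obtain ⟨m, hm⟩ : ∃ m, Fintype.card F = m + 1 := ⟨Fintype.card F - 1, by omega⟩
    rw [hm]
    simp only [Nat.add_sub_cancel]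
    have : (m + 1) ^ 2 = m * (m + 1 + 1) + 1 := by ring
    omega
  have hmul := Subgroup.card_mul_index ((inertia V (lf l)).map π)
  by_cases ha : Nat.Coprime (Fintype.card F - 1) ((inertia V (lf l)).map π).index
  · left
    refine ⟨ha, ha.dvd_of_dvd_mul_right ?_⟩
    rw [hmul, hcard, hfac]
    exact (Dvd.intro _ rfl).mul_left _
  by_cases hb : Nat.Coprime (Fintype.card F + 1) ((inertia V (lf l)).map π).index
  · right
    refine ⟨hb, hb.dvd_of_dvd_mul_right ?_⟩
    rw [hmul, hcard, hfac]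
    exact (Dvd.intro_left _ rfl).mul_left _
  exfalso
  obtain ⟨r, hr, hr1, hr2⟩ := Nat.Prime.not_coprime_iff_dvd.1 ha
  obtain ⟨s, hs, hs1, hs2⟩ := Nat.Prime.not_coprime_iff_dvd.1 hb
  obtain ⟨d, hd, hdd⟩ := exists_degree_one V l
  refine hno r s hr hs hr1 hs1 d hd ?_
  rw [← index_map V π hVc hπ hker l] at hdd
  have hrs : Nat.Coprime r s := Nat.Coprime.coprime_dvd_left hr1
    (Nat.Coprime.coprime_dvd_right hs1 (coprime_pm hF))
  exact (hrs.mul_dvd_of_dvd_of_dvd hr2 hs2).trans hdd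

theorem key (hF : Even (Fintype.card F)) (h4 : 4 < Fintype.card F) (hno : No X (Fintype.card F))
    (hVc : ∀ x ∈ V, ∀ y ∈ V, x * y = y * x) (hπ : Function.Surjective π) (hker : π.ker = V)
    (Q : Sylow 2 (P2 F)) (l : V →* ℂˣ) (hJ : (inertia V (lf l)).map π ≠ ⊤)
    (hQ : Fintype.card F ≤ 2 * Nat.card ((inertia V (lf l)).map π ⊓ (Q : Subgroup (P2 F)) : Subgroup (P2 F))) :
    (inertia V (lf l)).map π ≤ Subgroup.normalizer ((Q : Subgroup (P2 F)) : Set (P2 F)) ∧
    Fintype.card F + 1 ∣ ((inertia V (lf l)).map π).index ∧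
    Fintype.card F - 1 ∣ Nat.card ((inertia V (lf l)).map π) ∧
    (Q : Subgroup (P2 F)) ≤ (inertia V (lf l)).map π := by
  have := charTwo hF
  have hdi := dichotomy V π hF hno hVc hπ hker l
  have hle := le_normalizer_of_large hF h4 Q _ hJ hQ (hdi.imp (fun h => h.2) (fun h => h.2))
  have hidx : Fintype.card F + 1 ∣ ((inertia V (lf l)).map π).index := by
    rw [← H436.TT.index_normalizer 2 Q]
    exact Subgroup.index_dvd_of_le hle
  have hq1 : Fintype.card F - 1 ∣ Nat.card ((inertia V (lf l)).map π) := by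
    rcases hdi with h | h
    · exact h.2
    · exfalso
      have h1 := Nat.eq_one_of_dvd_coprimes h.1 dvd_rfl hidx
      omega
  refine ⟨hle, hidx, hq1, ?_⟩
  -- a nontrivial element of the intersection
  have hne : ((inertia V (lf l)).map π ⊓ (Q : Subgroup (P2 F)) : Subgroup (P2 F)) ≠ ⊥ := by
    intro h0
    rw [h0] at hQ
    simp at hQ
    omega
  obtain ⟨x, hx, hx1⟩ := (Subgroup.bot_or_exists_ne_one _).resolve_left hne
  intro y hy
  by_cases hy1 : y = 1
  · rw [hy1]; exact one_mem _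
  obtain ⟨g, hg, hgy⟩ := trans_of_dvd hF h4 Q _ hle hq1 hx.2 hx1 hy hy1
  rw [← hgy]
  exact mul_mem (mul_mem hg hx.1) (inv_mem hg)

/-- elements of `Q.comap π` have square in `V` -/
theorem sq_mem (hF : Even (Fintype.card F)) (hker : π.ker = V) (Q : Sylow 2 (P2 F)) {x : X}
    (hx : π x ∈ Q) : x * x ∈ V := by
  rw [← hker, MonoidHom.mem_ker, map_mul]
  exact sq_one hF Q hx

theorem comm_mem (hF : Even (Fintype.card F)) (hker : π.ker = V) (Q : Sylow 2 (P2 F)) {x y : X}
    (hx : π x ∈ Q) (hy : π y ∈ Q) : (y * x)⁻¹ * (x * y) ∈ V := by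
  rw [← hker, MonoidHom.mem_ker, map_mul, map_inv, map_mul, map_mul, comm_of hF Q hx hy, inv_mul_cancel]

/-- the odd case -/
theorem odd_case (hF : Even (Fintype.card F)) (h4 : 4 < Fintype.card F) (hno : No X (Fintype.card F))
    (hVc : ∀ x ∈ V, ∀ y ∈ V, x * y = y * x) (hπ : Function.Surjective π) (hker : π.ker = V)
    (Q : Sylow 2 (P2 F)) (hfin : Finite (V →* ℂˣ)) (hodd : Odd (Nat.card (V →* ℂˣ)))
    (hne : ∃ x : X, π x ∈ Q ∧ ∃ l : V →* ℂˣ, x ∉ inertia V (lf l)) : False := by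
  classical
  let _ := act V
  let D : Subgroup X := (Q : Subgroup (P2 F)).comap π
  have hVfix : ∀ v ∈ V, ∀ l : V →* ℂˣ, v • l = l := fun v hv l =>
    (act_eq_iff V v l).2 (le_inertia' V hVc l hv)
  obtain ⟨l, ⟨d, hd⟩, hl⟩ := exists_sign (D := D) (M := V →* ℂˣ) hodd
    (by
      intro d m
      rw [← mul_smul]
      exact hVfix _ (sq_mem V π hF hker Q d.2) m)
    (by
      intro d e m
      rw [← mul_smul, ← mul_smul]
      have h1 : ((d * e : D) : X) = (e * d : X) * ((e * d : X)⁻¹ * (d * e : X)) := by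
        rw [mul_inv_cancel_left]; rfl
      show ((d * e : D) : X) • m = ((e * d : D) : X) • m
      rw [h1, mul_smul, hVfix _ (comm_mem V π hF hker Q d.2 e.2) m]
      rfl)
    (by
      obtain ⟨x, hx, l, hl⟩ := hne
      refine ⟨⟨x, hx⟩, l, ?_⟩
      intro h
      exact hl ((act_eq_iff V x l).1 h))
  have hdn : π d ∉ (inertia V (lf l)).map π := by
    rw [mem_map_iff V π hVc hker l, ← act_eq_iff]
    exact hd
  have hJ : (inertia V (lf l)).map π ≠ ⊤ := by
    intro h
    rw [h] at hdn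
    exact hdn (Subgroup.mem_top _)
  have hl1 : l⁻¹ ≠ l := by
    intro h
    apply hd
    rcases hl d with h1 | h1
    · exact h1
    · rw [h1, h]
  have hidx : (((inertia V (lf l)).map π).subgroupOf (Q : Subgroup (P2 F))).index = 2 := by
    rw [Subgroup.index_eq_two_iff]
    refine ⟨⟨π d, d.2⟩, ?_⟩
    rintro ⟨b, hb⟩
    obtain ⟨x, rfl⟩ := hπ b
    rw [Subgroup.mem_subgroupOf, Subgroup.mem_subgroupOf]
    show Xor (π x * π (d : X) ∈ _) (π x ∈ _)
    rw [← map_mul, mem_map_iff V π hVc hker l, mem_map_iff V π hVc hker l, ← act_eq_iff, ← act_eq_iff, mul_smul]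
    have hd1 : (d : X) • l = l⁻¹ := (hl d).resolve_left hd
    have e1 : x • l⁻¹ = (x • l)⁻¹ := rfl
    rw [hd1, e1]
    rcases hl ⟨x, hb⟩ with h1 | h1
    · have h2 : x • l = l := h1
      right
      rw [h2]
      exact ⟨rfl, hl1⟩
    · have h2 : x • l = l⁻¹ := h1
      left
      rw [h2]
      exact ⟨inv_inv l, hl1⟩
  have hcard : Fintype.card F ≤ 2 * Nat.card ((inertia V (lf l)).map π ⊓ (Q : Subgroup (P2 F)) : Subgroup (P2 F)) := by
    have h1 := Subgroup.card_mul_index (((inertia V (lf l)).map π).subgroupOf (Q : Subgroup (P2 F)))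
    rw [hidx] at h1
    have h2 : Nat.card (((inertia V (lf l)).map π).subgroupOf (Q : Subgroup (P2 F))) =
        Nat.card ((inertia V (lf l)).map π ⊓ (Q : Subgroup (P2 F)) : Subgroup (P2 F)) := by
      rw [← Subgroup.subgroupOf_map_subtype]
      exact (Nat.card_congr (Subgroup.equivMapOfInjective _ _ (Subgroup.subtype_injective _)).toEquiv)
    have h3 := card_sylow hF h4 Q
    have h5 : Nat.card (Q : Subgroup (P2 F)) = Fintype.card F := h3
    rw [← h2]
    omega
  obtain ⟨-, -, -, h5⟩ := key V π hF h4 hno hVc hπ hker Q l hJ hcard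
  exact hdn (h5 d.2)

theorem exists_lin {A : Type*} [Group A] [Finite A] (hc : ∀ a b : A, a * b = b * a) {a : A} (ha : a ≠ 1) :
    ∃ l : A →* ℂˣ, l a ≠ 1 := by
  let _ : CommGroup A := { (inferInstance : Group A) with mul_comm := hc }
  exact CommGroup.exists_apply_ne_one_of_hasEnoughRootsOfUnity A ℂ ha

theorem card_lin {A : Type*} [Group A] [Finite A] (hc : ∀ a b : A, a * b = b * a) :
    Nat.card (A →* ℂˣ) = Nat.card A := by
  let _ : CommGroup A := { (inferInstance : Group A) with mul_comm := hc }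
  exact CommGroup.card_monoidHom_of_hasEnoughRootsOfUnity A ℂ

/-- **The even case.** -/
theorem even_case (hF : Even (Fintype.card F)) (h4 : 4 < Fintype.card F) (hno : No X (Fintype.card F))
    (hVc : ∀ x ∈ V, ∀ y ∈ V, x * y = y * x) (hπ : Function.Surjective π) (hker : π.ker = V)
    (Q : Sylow 2 (P2 F)) (hV2 : ∀ v ∈ V, v * v = 1) (l : V →* ℂˣ)
    (hfix : ∀ x : X, π x ∈ Q → x ∈ inertia V (lf l))
    (hJ : (inertia V (lf l)).map π ≠ ⊤) : False := by
  classical
  have := charTwo hF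
  have hVI : V ≤ inertia V (lf l) := le_inertia' V hVc l
  have hQJ : (Q : Subgroup (P2 F)) ≤ (inertia V (lf l)).map π := by
    intro b hb
    obtain ⟨x, rfl⟩ := hπ b
    exact ⟨x, hfix x hb, rfl⟩
  have hcQ : Nat.card (Q : Subgroup (P2 F)) = Fintype.card F := card_sylow hF h4 Q
  have hcard : Fintype.card F ≤ 2 * Nat.card ((inertia V (lf l)).map π ⊓ (Q : Subgroup (P2 F)) : Subgroup (P2 F)) := by
    rw [inf_eq_right.2 hQJ, hcQ]
    omega
  obtain ⟨hle, hidx, hq1, -⟩ := key V π hF h4 hno hVc hπ hker Q l hJ hcard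
  -- the extended function
  let L : X → ℂˣ := fun x => if h : x ∈ V then l ⟨x, h⟩ else 1
  have hLdef : ∀ x (h : x ∈ V), L x = l ⟨x, h⟩ := fun x h => dif_pos h
  have hLmul : ∀ a ∈ V, ∀ b ∈ V, L (a * b) = L a * L b := by
    intro a ha b hb
    rw [hLdef _ (mul_mem ha hb), hLdef a ha, hLdef b hb, ← map_mul]
    rfl
  have hL1 : L 1 = 1 := by
    rw [hLdef 1 (one_mem V)]
    exact map_one l
  have hLconj : ∀ g ∈ inertia V (lf l), ∀ a ∈ V, L (g * a * g⁻¹) = L a := by
    intro g hg a ha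
    rw [hLdef _ (hVn.conj_mem a ha g), hLdef a ha]
    exact (mem_inertia_lf V).1 hg ⟨a, ha⟩
  have hLconj' : ∀ g ∈ inertia V (lf l), ∀ a ∈ V, L (g⁻¹ * a * g) = L a := by
    intro g hg a ha
    have := hLconj g⁻¹ (inv_mem hg) a ha
    rwa [inv_inv] at this
  have hsqV : ∀ x, π x ∈ Q → x * x ∈ V := fun x hx => sq_mem V π hF hker Q hx
  have hA : ∀ y, π y ∈ Q → ∀ v ∈ V, L ((y * v) * (y * v)) = L (y * y) := by
    intro y hy v hv
    have h1 : (y * v) * (y * v) = (y * y) * ((y⁻¹ * v * y) * v) := by group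
    have h2 : y⁻¹ * v * y ∈ V := by
      have := hVn.conj_mem v hv y⁻¹
      rwa [inv_inv] at this
    rw [h1, hLmul _ (hsqV y hy) _ (mul_mem h2 hv), hLmul _ h2 _ hv, hLconj' y (hfix y hy) v hv,
      ← hLmul v hv v hv, hV2 v hv, hL1, mul_one]
  have hB : ∀ x y, π x ∈ Q → π x ≠ 1 → π y ∈ Q → π y ≠ 1 → L (x * x) = L (y * y) := by
    intro x y hx hx1 hy hy1
    obtain ⟨g0, ⟨g, hg, rfl⟩, hgxy⟩ := trans_of_dvd hF h4 Q _ hle hq1 hx hx1 hy hy1
    have hv : (g * x * g⁻¹)⁻¹ * y ∈ V := by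
      rw [← hker, MonoidHom.mem_ker, map_mul, map_inv, map_mul, map_mul, map_inv, hgxy, inv_mul_cancel]
    have h1 : y = (g * x * g⁻¹) * ((g * x * g⁻¹)⁻¹ * y) := by group
    have h2 : π (g * x * g⁻¹) ∈ Q := by
      rw [map_mul, map_mul, map_inv, hgxy]
      exact hy
    rw [h1, hA _ h2 _ hv]
    have h3 : (g * x * g⁻¹) * (g * x * g⁻¹) = g * (x * x) * g⁻¹ := by group
    rw [h3, hLconj g hg _ (hsqV x hx)]
  -- the commutator form
  have hcm : ∀ a b, π a ∈ Q → π b ∈ Q → a⁻¹ * b * a * b⁻¹ ∈ V := by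
    intro a b ha hb
    rw [← hker, MonoidHom.mem_ker]
    have h1 := comm_of hF Q ha hb
    simp only [map_mul, map_inv]
    rw [mul_assoc, mul_assoc, ← mul_assoc (π b), ← h1, mul_assoc, mul_inv_cancel, mul_one, inv_mul_cancel]
  have hC : ∀ a b, π a ∈ Q → π b ∈ Q → L ((a * b) * (a * b)) = L (a * a) * L (b * b) * L (a⁻¹ * b * a * b⁻¹) := by
    intro a b ha hb
    have h1 : (a * b) * (a * b) = (a * a) * ((a⁻¹ * b * a * b⁻¹) * (b * b)) := by group
    rw [h1, hLmul _ (hsqV a ha) _ (mul_mem (hcm a b ha hb) (hsqV b hb)), hLmul _ (hcm a b ha hb) _ (hsqV b hb),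
      mul_comm (L (a⁻¹ * b * a * b⁻¹)) (L (b * b)), ← mul_assoc]
  have hD : ∀ a b c, π a ∈ Q → π b ∈ Q → π c ∈ Q →
      L (a⁻¹ * (b * c) * a * (b * c)⁻¹) = L (a⁻¹ * b * a * b⁻¹) * L (a⁻¹ * c * a * c⁻¹) := by
    intro a b c ha hb hc
    have h1 : a⁻¹ * (b * c) * a * (b * c)⁻¹ = (a⁻¹ * b * a * b⁻¹) * (b * (a⁻¹ * c * a * c⁻¹) * b⁻¹) := by group
    rw [h1, hLmul _ (hcm a b ha hb) _ (hVn.conj_mem _ (hcm a c ha hc) b), hLconj b (hfix b hb) _ (hcm a c ha hc)]
  -- three independent elements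
  have hpick : ∀ S : Finset (P2 F), S.card ≤ 4 → ∃ x : X, π x ∈ Q ∧ π x ∉ S := by
    intro S hS
    by_contra hcon
    push Not at hcon
    have h1 : ((Q : Subgroup (P2 F)) : Set (P2 F)) ⊆ S := by
      intro b hb
      obtain ⟨x, rfl⟩ := hπ b
      exact hcon x hb
    have h2 := Set.ncard_le_ncard h1 S.finite_toSet
    rw [Set.ncard_coe_finset] at h2
    have h3 : ((Q : Subgroup (P2 F)) : Set (P2 F)).ncard = Fintype.card F := hcQ
    omega
  obtain ⟨a, haQ, ha⟩ := hpick {1} (by simp)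
  obtain ⟨b, hbQ, hb⟩ := hpick {1, π a} (Finset.card_le_two.trans (by norm_num))
  obtain ⟨c, hcQ', hc⟩ := hpick {1, π a, π b, π a * π b} Finset.card_le_four
  simp only [Finset.mem_singleton, Finset.mem_insert, not_or] at ha hb hc
  have hinv : ∀ x, π x ∈ Q → (π x)⁻¹ = π x := fun x hx => inv_eq_of_mul_eq_one_left (sq_one hF Q hx)
  have hab : π (a * b) ≠ 1 := by
    rw [map_mul]
    intro h
    apply hb.2
    rw [← hinv a haQ]
    exact (inv_eq_of_mul_eq_one_right h).symm
  have hac : π (a * c) ≠ 1 := by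
    rw [map_mul]
    intro h
    apply hc.2.1
    rw [← hinv a haQ]
    exact (inv_eq_of_mul_eq_one_right h).symm
  have hbc : π (b * c) ≠ 1 := by
    rw [map_mul]
    intro h
    apply hc.2.2.1
    rw [← hinv b hbQ]
    exact (inv_eq_of_mul_eq_one_right h).symm
  have habQ : π (a * b) ∈ Q := by rw [map_mul]; exact mul_mem haQ hbQ
  have hacQ : π (a * c) ∈ Q := by rw [map_mul]; exact mul_mem haQ hcQ'
  have hbcQ : π (b * c) ∈ Q := by rw [map_mul]; exact mul_mem hbQ hcQ'
  have habc : π (a * (b * c)) ≠ 1 := by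
    rw [← mul_assoc, map_mul]
    intro h
    apply hc.2.2.2
    rw [← map_mul, ← hinv _ habQ]
    exact (inv_eq_of_mul_eq_one_right h).symm
  have habcQ : π (a * (b * c)) ∈ Q := by rw [map_mul]; exact mul_mem haQ hbcQ
  have hc0 : L (a * a) = 1 := by
    have e1 := hC a b haQ hbQ
    rw [← hB a _ haQ ha habQ hab, ← hB a b haQ ha hbQ hb.1] at e1
    have e2 := hC a c haQ hcQ'
    rw [← hB a _ haQ ha hacQ hac, ← hB a c haQ ha hcQ' hc.1] at e2
    have e3 := hC a (b * c) haQ hbcQ
    rw [← hB a _ haQ ha habcQ habc, ← hB a _ haQ ha hbcQ hbc, hD a b c haQ hbQ hcQ'] at e3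
    set s := L (a * a)
    set w1 := L (a⁻¹ * b * a * b⁻¹)
    set w2 := L (a⁻¹ * c * a * c⁻¹)
    have f1 : s * w1 = 1 := by
      have : s * 1 = s * (s * w1) := by rw [mul_one, ← mul_assoc]; exact e1
      exact (mul_left_cancel this).symm
    have f2 : s * w2 = 1 := by
      have : s * 1 = s * (s * w2) := by rw [mul_one, ← mul_assoc]; exact e2
      exact (mul_left_cancel this).symm
    have f3 : s * (w1 * w2) = 1 := by
      have : s * 1 = s * (s * (w1 * w2)) := by rw [mul_one, ← mul_assoc]; exact e3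
      exact (mul_left_cancel this).symm
    rw [← mul_assoc, f1, one_mul] at f3
    rw [f3, mul_one] at f2
    exact f2
  have hE : ∀ x, π x ∈ Q → L (x * x) = 1 := by
    intro x hx
    by_cases hx1 : π x = 1
    · have hxV : x ∈ V := by rw [← hker]; exact hx1
      rw [hV2 x hxV, hL1]
    · rw [← hB a x haQ ha hx hx1, hc0]
  -- the normal subgroup of the inertia group
  let P : Subgroup (inertia V (lf l)) := ((Q : Subgroup (P2 F)).comap π).subgroupOf (inertia V (lf l))
  have hPn : P.Normal := by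
    constructor
    rintro ⟨x, hxI⟩ hx ⟨g, hg⟩
    have h1 : π x ∈ (Q : Subgroup (P2 F)) := hx
    show π (g * x * g⁻¹) ∈ (Q : Subgroup (P2 F))
    rw [map_mul, map_mul, map_inv]
    exact (Subgroup.mem_normalizer_iff.1 (hle ⟨g, hg, rfl⟩) _).1 h1
  have hVP : ∀ v : V, (⟨v, hVI v.2⟩ : inertia V (lf l)) ∈ P := by
    intro v
    show π (v : X) ∈ (Q : Subgroup (P2 F))
    have : (v : X) ∈ π.ker := by rw [hker]; exact v.2
    rw [(MonoidHom.mem_ker).1 this]
    exact one_mem _
  let f : V →* P := (Subgroup.inclusion hVI).codRestrict P hVP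
  have hf : Function.Injective f := by
    intro v w h
    have h1 : ((f v : inertia V (lf l)) : X) = ((f w : inertia V (lf l)) : X) := by rw [h]
    exact Subtype.ext h1
  obtain ⟨φ, hφ⟩ := exists_ext f hf l
    (by
      intro x v
      refine ⟨⟨(x : X) * v * (x : X)⁻¹, hVn.conj_mem _ v.2 _⟩, rfl, ?_⟩
      have h1 := hLconj (x : X) (x : inertia V (lf l)).2 v v.2
      rw [hLdef _ (hVn.conj_mem _ v.2 _), hLdef _ v.2] at h1
      exact h1)
    (by
      intro x
      have hx : π (x : X) ∈ Q := x.2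
      refine ⟨⟨(x : X) * x, hsqV _ hx⟩, rfl, ?_⟩
      have h1 := hE (x : X) hx
      rw [hLdef _ (hsqV _ hx)] at h1
      exact h1)
  -- the projection of `P` to `Q`
  let ρ : P →* (Q : Subgroup (P2 F)) :=
    (π.comp ((inertia V (lf l)).subtype.comp P.subtype)).codRestrict _ (fun x => x.2)
  have hρ : ∀ x : P, (ρ x : P2 F) = π (x : X) := fun _ => rfl
  -- every extension is invariant
  have hinvt : ∀ ν : (Q : Subgroup (P2 F)) →* ℂˣ, H672.inertia P (lf (φ * ν.comp ρ)) = ⊤ := by
    intro ν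
    by_contra hne
    have hext : ∀ v : V, (φ * ν.comp ρ) ⟨⟨v, hVI v.2⟩, hVP v⟩ = l v := by
      intro v
      have h1 : ρ ⟨⟨v, hVI v.2⟩, hVP v⟩ = 1 := by
        apply Subtype.ext
        rw [hρ]
        have : (v : X) ∈ π.ker := by rw [hker]; exact v.2
        exact this
      show φ (f v) * ν (ρ ⟨⟨v, hVI v.2⟩, hVP v⟩) = l v
      rw [h1, map_one, mul_one, hφ]
    obtain ⟨d, hd, hdd⟩ := exists_degree V (inertia V (lf l)) l rfl P hVI hVP (φ * ν.comp ρ) hext
    have hm1 : (H672.inertia P (lf (φ * ν.comp ρ))).index ≠ 1 := by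
      rw [Ne, Subgroup.index_eq_one]
      exact hne
    obtain ⟨r, hr, hrm⟩ := Nat.exists_prime_and_dvd hm1
    obtain ⟨s, hs, hsq⟩ := Nat.exists_prime_and_dvd (show Fintype.card F + 1 ≠ 1 by omega)
    have hPle : P ≤ H672.inertia P (lf (φ * ν.comp ρ)) :=
      le_inertia (isCharacter_isClassFunction (isCharacter_lf _))
    have h1 : (H672.inertia P (lf (φ * ν.comp ρ))).index ∣ P.index := Subgroup.index_dvd_of_le hPle
    have h2 : P.index = (Q : Subgroup (P2 F)).relIndex ((inertia V (lf l)).map π) :=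
      Subgroup.relIndex_comap _ _ _
    have h3 : P.index * Fintype.card F ∣ (Fintype.card F - 1) * Fintype.card F := by
      have h5 := Subgroup.card_mul_index ((Q : Subgroup (P2 F)).subgroupOf ((inertia V (lf l)).map π))
      have h6 : Nat.card ((Q : Subgroup (P2 F)).subgroupOf ((inertia V (lf l)).map π)) = Fintype.card F := by
        rw [Nat.card_congr (Subgroup.subgroupOfEquivOfLe hQJ).toEquiv, hcQ]
      have h7 := Subgroup.card_dvd_of_le hle
      have h8 := Subgroup.card_mul_index (Subgroup.normalizer ((Q : Subgroup (P2 F)) : Set (P2 F)))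
      rw [H436.TT.index_normalizer 2 Q, Classification.PSLTwoEvenSylow.card_psl] at h8
      have h9 : 1 < Fintype.card F := Fintype.one_lt_card
      have hfac : Fintype.card F ^ 2 - 1 = (Fintype.card F - 1) * (Fintype.card F + 1) := by
        obtain ⟨m, hm⟩ : ∃ m, Fintype.card F = m + 1 := ⟨Fintype.card F - 1, by omega⟩
        rw [hm]
        simp only [Nat.add_sub_cancel]
        have : (m + 1) ^ 2 = m * (m + 1 + 1) + 1 := by ring
        omega
      rw [hfac, ← mul_assoc] at h8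
      have h10 := Nat.eq_of_mul_eq_mul_right (by omega) h8
      rw [h2, Subgroup.relIndex, mul_comm, mul_comm (Fintype.card F - 1), ← h10]
      refine dvd_trans ?_ h7
      rw [← h5, h6]
    have h4' : P.index ∣ Fintype.card F - 1 := Nat.dvd_of_mul_dvd_mul_right (by omega) h3
    refine hno r s hr hs (hrm.trans (h1.trans h4')) hsq d hd ?_
    rw [← index_map V π hVc hπ hker l, mul_comm] at hdd
    exact (Nat.mul_dvd_mul hrm (hsq.trans hidx)).trans hdd
  -- hence every linear character of `Q` is constant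
  have hcomQ : ∀ x y : (Q : Subgroup (P2 F)), x * y = y * x := fun x y => Subtype.ext (comm_of hF Q x.2 y.2)
  obtain ⟨ν, hν⟩ := exists_lin hcomQ (a := ⟨π a, haQ⟩) (fun h => ha (congrArg Subtype.val h))
  have hcst : ∀ x y : (Q : Subgroup (P2 F)), x ≠ 1 → y ≠ 1 → ν x = ν y := by
    rintro ⟨x0, hx⟩ ⟨y0, hy⟩ hx1 hy1
    obtain ⟨x, rfl⟩ := hπ x0
    obtain ⟨g0, ⟨g, hg, rfl⟩, hgxy⟩ := trans_of_dvd hF h4 Q _ hle hq1 hx (fun h => hx1 (Subtype.ext h)) hy
      (fun h => hy1 (Subtype.ext h))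
    let xP : P := ⟨⟨x, hfix x hx⟩, hx⟩
    let gI : inertia V (lf l) := ⟨g, hg⟩
    have h1 : gI ∈ H672.inertia P (lf (φ * ν.comp ρ)) := by rw [hinvt ν]; trivial
    have h2 : gI ∈ H672.inertia P (lf (φ * (1 : (Q : Subgroup (P2 F)) →* ℂˣ).comp ρ)) := by
      rw [hinvt 1]; trivial
    rw [mem_inertia_lf] at h1 h2
    have h3 := h1 xP
    have h5 := h2 xP
    simp only [MonoidHom.mul_apply, MonoidHom.comp_apply, MonoidHom.one_apply, mul_one] at h3 h5
    rw [h5] at h3
    have h6 := mul_left_cancel h3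
    have h7 : ρ (MulAut.conjNormal gI xP) = ⟨y0, hy⟩ := by
      apply Subtype.ext
      rw [hρ]
      show π (g * x * g⁻¹) = y0
      rw [map_mul, map_mul, map_inv, hgxy]
    rw [h7] at h6
    exact h6.symm
  apply hν
  have h1 := hcst ⟨π a, haQ⟩ ⟨π b, hbQ⟩ (fun h => ha (congrArg Subtype.val h)) (fun h => hb.1 (congrArg Subtype.val h))
  have h2 := hcst ⟨π a, haQ⟩ (⟨π a, haQ⟩ * ⟨π b, hbQ⟩) (fun h => ha (congrArg Subtype.val h))
    (fun h => hab (by rw [map_mul]; exact congrArg Subtype.val h))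
  rw [map_mul, ← h1] at h2
  have h3 : ν ⟨π a, haQ⟩ * 1 = ν ⟨π a, haQ⟩ * ν ⟨π a, haQ⟩ := by rw [mul_one]; exact h2
  exact (mul_left_cancel h3).symm

/-- an abelian minimal normal subgroup has prime exponent -/
theorem exists_exponent (hmin : ∀ N : Subgroup X, N.Normal → N ≤ V → N = ⊥ ∨ N = V)
    (hVc : ∀ x ∈ V, ∀ y ∈ V, x * y = y * x) (hV : V ≠ ⊥) : ∃ p : ℕ, p.Prime ∧ ∀ v ∈ V, v ^ p = 1 := by
  have h1 : Nat.card V ≠ 1 := by
    rw [Ne, Subgroup.card_eq_one]
    exact hV
  obtain ⟨p, hp, hpd⟩ := Nat.exists_prime_and_dvd h1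
  have := Fact.mk hp
  refine ⟨p, hp, ?_⟩
  let N : Subgroup X :=
    { carrier := {v | v ∈ V ∧ v ^ p = 1}
      one_mem' := ⟨one_mem V, one_pow p⟩
      mul_mem' := by
        rintro a b ⟨ha, ha'⟩ ⟨hb, hb'⟩
        refine ⟨mul_mem ha hb, ?_⟩
        have h : Commute a b := hVc a ha b hb
        rw [h.mul_pow, ha', hb', one_mul]
      inv_mem' := by
        rintro a ⟨ha, ha'⟩
        refine ⟨inv_mem ha, ?_⟩
        rw [inv_pow, ha', inv_one] }
  have hN : N.Normal := by
    constructor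
    rintro n ⟨hn, hn'⟩ g
    refine ⟨hVn.conj_mem n hn g, ?_⟩
    rw [conj_pow, hn', mul_one, mul_inv_cancel]
  have hNV : N ≤ V := fun x hx => hx.1
  rcases hmin N hN hNV with h | h
  · exfalso
    obtain ⟨x, hx⟩ := exists_prime_orderOf_dvd_card' p hpd
    have h2 : (x : X) ∈ N := by
      refine ⟨x.2, ?_⟩
      have h3 := pow_orderOf_eq_one x
      rw [hx] at h3
      exact congrArg Subtype.val h3
    rw [h, Subgroup.mem_bot] at h2
    have h3 : x = 1 := Subtype.ext h2
    rw [h3, orderOf_one] at hx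
    exact hp.one_lt.ne hx
  · intro v hv
    rw [← h] at hv
    exact hv.2

end main

/-- **CROSS.** -/
theorem cross {X : Type u} [Group X] [Finite X] (V : Subgroup X) [V.Normal]
    (hVc : ∀ x ∈ V, ∀ y ∈ V, x * y = y * x)
    (hmin : ∀ N : Subgroup X, N.Normal → N ≤ V → N = ⊥ ∨ N = V)
    (hVz : ¬ V ≤ Subgroup.center X) (F : Type) [Field F] [Fintype F]
    (hF : Even (Fintype.card F)) (h4 : 4 < Fintype.card F)
    (e : X ⧸ V ≃* Matrix.ProjectiveSpecialLinearGroup (Fin 2) F) :
    ∃ r s : ℕ, r.Prime ∧ s.Prime ∧ r ∣ Fintype.card F - 1 ∧ s ∣ Fintype.card F + 1 ∧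
      ∃ d ∈ Cfsg.charDegrees X, r * s ∣ d := by
  classical
  by_contra hcon
  have hno : No X (Fintype.card F) := by
    intro r s hr hs hr1 hs1 d hd hdd
    exact hcon ⟨r, s, hr, hs, hr1, hs1, d, hd, hdd⟩
  let π : X →* P2 F := e.toMonoidHom.comp (QuotientGroup.mk' V)
  have hπ : Function.Surjective π := e.surjective.comp (QuotientGroup.mk'_surjective V)
  have hker : π.ker = V := by
    ext x
    rw [MonoidHom.mem_ker]
    show e (QuotientGroup.mk x) = 1 ↔ x ∈ V
    rw [map_eq_one_iff e e.injective, QuotientGroup.eq_one_iff]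
  have hVcom : ∀ v w : V, v * w = w * v := fun v w => Subtype.ext (hVc v v.2 w w.2)
  have hVbot : V ≠ ⊥ := by
    rintro rfl
    exact hVz bot_le
  obtain ⟨p, hp, hpV⟩ := exists_exponent V hmin hVc hVbot
  have hcard := card_lin hVcom
  have hfin : Finite (V →* ℂˣ) := by
    apply Nat.finite_of_card_ne_zero
    rw [hcard]
    exact Nat.card_pos.ne'
  have Q : Sylow 2 (P2 F) := default
  -- a nontrivial linear character is not invariant
  have hninv : ∀ l : V →* ℂˣ, l ≠ 1 → (inertia V (lf l)).map π ≠ ⊤ := by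
    intro l hl h
    have hall : ∀ x : X, x ∈ inertia V (lf l) := by
      intro x
      rw [← mem_map_iff V π hVc hker l, h]
      trivial
    let K : Subgroup X := l.ker.map V.subtype
    have hK : K.Normal := by
      constructor
      rintro _ ⟨v, hv, rfl⟩ g
      refine ⟨MulAut.conjNormal g v, ?_, rfl⟩
      show l _ = 1
      rw [(mem_inertia_lf V).1 (hall g) v]
      exact hv
    rcases hmin K hK (Subgroup.map_subtype_le _) with h1 | h1
    · apply hVz
      intro v hv
      rw [Subgroup.mem_center_iff]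
      intro g
      have h2 : (⟨v, hv⟩ : V)⁻¹ * MulAut.conjNormal g ⟨v, hv⟩ ∈ l.ker := by
        rw [MonoidHom.mem_ker, map_mul, map_inv, (mem_inertia_lf V).1 (hall g), inv_mul_cancel]
      have h3 : V.subtype ((⟨v, hv⟩ : V)⁻¹ * MulAut.conjNormal g ⟨v, hv⟩) ∈ K := ⟨_, h2, rfl⟩
      rw [h1, Subgroup.mem_bot] at h3
      have h4 : v⁻¹ * (g * v * g⁻¹) = 1 := h3
      rw [inv_mul_eq_one] at h4
      exact (mul_inv_eq_iff_eq_mul.1 h4.symm)
    · apply hl
      ext v
      have h2 : (v : X) ∈ K := by rw [h1]; exact v.2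
      obtain ⟨w, hw, hwv⟩ := h2
      have h3 : w = v := Subtype.ext hwv
      rw [← h3]
      exact congrArg _ hw
  by_cases hp2 : p = 2
  · subst hp2
    let _ := act V
    have hV2 : ∀ v ∈ V, v * v = 1 := fun v hv => by rw [← pow_two]; exact hpV v hv
    let D : Subgroup X := (Q : Subgroup (P2 F)).comap π
    have hD : IsPGroup 2 D := by
      intro x
      refine ⟨2, ?_⟩
      apply Subtype.ext
      have h1 := hV2 _ (sq_mem V π hF hker Q x.2)
      show (x : X) ^ (2 ^ 2) = 1
      rw [show (x : X) ^ (2 ^ 2) = (x : X) * x * ((x : X) * x) by simp [pow_succ, mul_assoc]]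
      exact h1
    have hVp : IsPGroup 2 V := by
      intro v
      refine ⟨1, ?_⟩
      apply Subtype.ext
      show (v : X) ^ (2 ^ 1) = 1
      rw [pow_one]
      exact hpV v v.2
    have hdvd : 2 ∣ Nat.card (V →* ℂˣ) := by
      rw [hcard]
      obtain ⟨n, hn⟩ := IsPGroup.iff_card.1 hVp
      rw [hn]
      apply dvd_pow_self
      rintro rfl
      rw [pow_zero, Subgroup.card_eq_one] at hn
      exact hVbot hn
    obtain ⟨l, hl, hl1⟩ := hD.exists_fixed_point_of_prime_dvd_card_of_fixed_point (V →* ℂˣ) hdvd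
      (a := 1) (fun d => by
        show (d : X) • (1 : V →* ℂˣ) = 1
        exact (act V).smul_one (d : X))
    refine even_case V π hF h4 hno hVc hπ hker Q hV2 l ?_ (hninv l (Ne.symm hl1))
    intro x hx
    exact (act_eq_iff V x l).1 (hl ⟨x, hx⟩)
  · have hodd : Odd (Nat.card (V →* ℂˣ)) := by
      rw [hcard]
      have hVp : IsPGroup p V := by
        intro v
        refine ⟨1, ?_⟩
        apply Subtype.ext
        show (v : X) ^ (p ^ 1) = 1
        rw [pow_one]
        exact hpV v v.2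
      have := Fact.mk hp
      obtain ⟨n, hn⟩ := IsPGroup.iff_card.1 hVp
      rw [hn]
      exact (hp.odd_of_ne_two hp2).pow
    refine odd_case V π hF h4 hno hVc hπ hker Q hfin hodd ?_
    -- faithfulness
    have hsimp : IsSimpleGroup (P2 F) := TwoFusion.SLTwoFacts.isSimpleGroup_psl (by omega)
    let C : Subgroup X := Subgroup.centralizer (V : Set X)
    have hCn : C.Normal := inferInstance
    have hVC : V ≤ C := by
      intro v hv
      rw [Subgroup.mem_centralizer_iff]
      intro w hw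
      exact hVc w hw v hv
    have hCV : C ≤ V := by
      rcases (hCn.map π hπ).eq_bot_or_eq_top with h | h
      · intro c hc
        rw [← hker, MonoidHom.mem_ker]
        have : π c ∈ C.map π := ⟨c, hc, rfl⟩
        rw [h] at this
        exact this
      · exfalso
        apply hVz
        intro v hv
        rw [Subgroup.mem_center_iff]
        intro g
        have h1 : π g ∈ C.map π := by rw [h]; trivial
        obtain ⟨c, hc, hcg⟩ := h1
        have h2 : c⁻¹ * g ∈ V := by
          rw [← hker, MonoidHom.mem_ker, map_mul, map_inv, hcg, inv_mul_cancel]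
        have h3 : g ∈ C := by
          have := mul_mem hc (hVC h2)
          simpa using this
        exact ((Subgroup.mem_centralizer_iff.1 h3) v hv).symm
    have hQ1 : (Q : Subgroup (P2 F)) ≠ ⊥ := by
      intro h
      have h1 : Nat.card (Q : Subgroup (P2 F)) = Fintype.card F := card_sylow hF h4 Q
      rw [h] at h1
      simp at h1
      omega
    obtain ⟨a, haQ, ha1⟩ := (Subgroup.bot_or_exists_ne_one _).resolve_left hQ1
    obtain ⟨x, rfl⟩ := hπ a
    have hxV : x ∉ C := by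
      intro h
      apply ha1
      have := hCV h
      rw [← hker] at this
      exact this
    rw [Subgroup.mem_centralizer_iff] at hxV
    push Not at hxV
    obtain ⟨v, hv, hvx⟩ := hxV
    have hne : (⟨v, hv⟩ : V)⁻¹ * MulAut.conjNormal x ⟨v, hv⟩ ≠ 1 := by
      intro h
      apply hvx
      rw [inv_mul_eq_one] at h
      have h1 : v = x * v * x⁻¹ := congrArg Subtype.val h
      exact (mul_inv_eq_iff_eq_mul.1 h1.symm).symm
    obtain ⟨l, hl⟩ := exists_lin hVcom hne
    refine ⟨x, haQ, l, ?_⟩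
    intro hx
    apply hl
    rw [map_mul, map_inv, (mem_inertia_lf V).1 hx, inv_mul_cancel]

end Cfsg.Agent.H191.Cross
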