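import Cfsg.Agent.H191.E8Weights

/-!
# Fixed spaces of the elements of `3^6 ≤ A_18` and the linear system for the weight multiplicities (S2654, T3a (3))
-/

set_option autoImplicit false

namespace Cfsg.Agent.H191.E8Weights

open Equiv Module Cfsg.Agent.H224.E8 Cfsg.Agent.H191.Lin

variable {K V : Type*} [Field K] [AddCommGroup V] [Module K V] {w : K} {ρ : ↥P18 →* Module.End K V}

/-! ### The decomposition -/

theorem three_ne (hw : IsPrimitiveRoot w 3) : (3 : K) ≠ 0 := by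
  intro h
  have h1 : w ^ 3 = 1 := hw.pow_eq_one
  have h2 : (w - 1) ^ 3 = 0 := by linear_combination h1 + (w - w ^ 2) * h
  have h3 : w = 1 := sub_eq_zero.1 (pow_eq_zero_iff (by norm_num) |>.1 h2)
  exact hw.ne_one (by norm_num) h3

theorem wsp_eq (lam : Fin 6 → ZMod 3) : wsp w ρ lam = W3 (fun i => ρ (xP i)) w lam := by
  ext v
  exact (mem_W3 (f := fun i => ρ (xP i)) (ω := w) (v := lam) (x := v)).symm

theorem xP_cube (i : Fin 6) : xP i ^ 3 = 1 := Subtype.ext (x_cube i)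
theorem xP_comm (i j : Fin 6) : xP i * xP j = xP j * xP i := Subtype.ext (x_comm i j)

theorem rho_cube (i : Fin 6) : ρ (xP i) ^ 3 = 1 := by rw [← map_pow, xP_cube, map_one]
theorem rho_comm (i j : Fin 6) : Commute (ρ (xP i)) (ρ (xP j)) := by
  show _ * _ = _ * _
  rw [← map_mul, xP_comm, map_mul]

theorem iSup_eigen (hw : IsPrimitiveRoot w 3) {f : End K V} (hf : f ^ 3 = 1) : ⨆ μ, End.eigenspace f μ = ⊤ := by
  have h3 := three_ne hw
  have hw3 : w ^ 3 = 1 := hw.pow_eq_one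
  have hs : 1 + w + w ^ 2 = 0 := by
    have : (w - 1) * (1 + w + w ^ 2) = 0 := by linear_combination hw3
    exact (mul_eq_zero.1 this).resolve_left (sub_ne_zero.2 (hw.ne_one (by norm_num)))
  rw [eq_top_iff]
  intro v _
  have hfff : f (f (f v)) = v := by
    have := LinearMap.congr_fun hf v
    simpa [pow_succ, End.mul_apply] using this
  have key : ∀ μ : K, μ ^ 3 = 1 → v + μ ^ 2 • f v + μ • f (f v) ∈ ⨆ μ, End.eigenspace f μ := by
    intro μ hμ
    refine Submodule.mem_iSup_of_mem μ ?_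
    rw [End.mem_eigenspace_iff, map_add, map_add, map_smul, map_smul, hfff, smul_add, smul_add, smul_smul, smul_smul,
      show μ * μ ^ 2 = 1 by rw [← hμ]; ring, one_smul, ← sq]
    abel
  have h1 := key 1 (one_pow 3)
  have h2 := key w hw3
  have h4 := key (w ^ 2) (by rw [← pow_mul, mul_comm, pow_mul, hw3, one_pow])
  have h5 : (3 : K) • v = (v + (1 : K) ^ 2 • f v + (1 : K) • f (f v)) + (v + w ^ 2 • f v + w • f (f v)) +
      (v + (w ^ 2) ^ 2 • f v + w ^ 2 • f (f v)) := by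
    have e1 : (w ^ 2) ^ 2 = w := by rw [← pow_mul]; linear_combination w * hw3
    rw [e1]
    have e2 : (3 : K) • v = (3 : K) • v + (1 + w + w ^ 2) • f v + (1 + w + w ^ 2) • f (f v) := by
      rw [hs, zero_smul, zero_smul, add_zero, add_zero]
    rw [e2]
    module
  have h6 := Submodule.smul_mem _ (3 : K)⁻¹ (h5 ▸ Submodule.add_mem _ (Submodule.add_mem _ h1 h2) h4 :
    (3 : K) • v ∈ ⨆ μ, End.eigenspace f μ)
  rwa [smul_smul, inv_mul_cancel₀ h3, one_smul] at h6

theorem indep_wsp (hw : IsPrimitiveRoot w 3) : iSupIndep (wsp w ρ) := by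
  have h := W3_indep (f := fun i => ρ (xP i)) rho_comm rho_cube (three_ne hw) (hw.ne_one (by norm_num)) hw.pow_eq_one
  have e : wsp w ρ = W3 (fun i => ρ (xP i)) w := funext fun lam => wsp_eq lam
  rw [e]
  exact h

theorem iSup_wsp [FiniteDimensional K V] (hw : IsPrimitiveRoot w 3) : ⨆ lam, wsp w ρ lam = ⊤ := by
  have hss : ∀ i, (ρ (xP i)).IsFinitelySemisimple := ss3 (f := fun i => ρ (xP i)) rho_cube (three_ne hw)
  have h1 : ∀ i, ⨆ μ, (ρ (xP i)).maxGenEigenspace μ = ⊤ := by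
    intro i
    rw [← iSup_eigen hw (rho_cube (ρ := ρ) i)]
    congr 1
    funext μ
    exact (hss i).maxGenEigenspace_eq_eigenspace μ
  have h2 := Module.End.iSup_iInf_maxGenEigenspace_eq_top_of_iSup_maxGenEigenspace_eq_top_of_commute
    (fun i => ρ (xP i)) (fun i j _ => rho_comm i j) h1
  rw [eq_top_iff, ← h2]
  refine iSup_le fun χ => ?_
  rw [← sim_eq hss χ]
  by_cases h : sim (fun i => ρ (xP i)) χ = ⊥
  · rw [h]; exact bot_le
  · obtain ⟨y, hy, hy0⟩ := Submodule.exists_mem_ne_zero_of_ne_bot h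
    have h4 : ∀ i, ∃ j : Fin 3, χ i = w ^ (j : ℕ) := fun i =>
      cube_root (hw.ne_one (by norm_num)) hw.pow_eq_one (pow_eq_one_of_eigen (mem_sim.1 hy i) hy0 (rho_cube i))
    choose v hv using h4
    refine le_trans (fun z hz => ?_) (le_iSup (wsp w ρ) v)
    intro i
    have h6 := mem_sim.1 hz i
    rw [hv i] at h6
    exact h6

theorem pow_val_add (hw : IsPrimitiveRoot w 3) (a b : ZMod 3) : w ^ a.val * w ^ b.val = w ^ (a + b).val := by
  rw [← pow_add]
  have h : ∀ a b : ZMod 3, a.val + b.val = (a + b).val ∨ a.val + b.val = (a + b).val + 3 := by decide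
  rcases h a b with h | h <;> rw [h]
  rw [pow_add, hw.pow_eq_one, mul_one]

theorem pow_val_inj (hw : IsPrimitiveRoot w 3) {a b : ZMod 3} (h : w ^ a.val = w ^ b.val) : a = b :=
  omega_pow_inj (hw.ne_one (by norm_num)) hw.pow_eq_one (i := a) (j := b) h

/-- dimension of the eigenspaces of an operator that is scalar on the weight spaces -/
theorem finrank_eigen [FiniteDimensional K V] (hw : IsPrimitiveRoot w 3) (T : End K V)
    (φ : (Fin 6 → ZMod 3) → ZMod 3) (hT : ∀ lam, ∀ v ∈ wsp w ρ lam, T v = w ^ (φ lam).val • v) (a : ZMod 3) :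
    finrank K (End.eigenspace T (w ^ a.val)) = ∑ lam ∈ Finset.univ.filter fun lam => φ lam = a, finrank K (wsp w ρ lam) := by
  have hind := indep_wsp (ρ := ρ) hw
  have h1 : ∀ a : ZMod 3, ∑ lam ∈ Finset.univ.filter (fun lam => φ lam = a), finrank K (wsp w ρ lam) ≤
      finrank K (End.eigenspace T (w ^ a.val)) := by
    intro a
    refine sum_finrank_le (wsp w ρ) hind _ _ fun lam hlam v hv => ?_
    rw [End.mem_eigenspace_iff, hT lam v hv, (Finset.mem_filter.1 hlam).2]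
  have h2 : ∑ a : ZMod 3, ∑ lam ∈ Finset.univ.filter (fun lam => φ lam = a), finrank K (wsp w ρ lam) = finrank K V := by
    rw [Finset.sum_fiberwise Finset.univ φ fun lam => finrank K (wsp w ρ lam)]
    exact sum_finrank_eq (wsp w ρ) hind (iSup_wsp hw) Finset.univ (fun i hi => absurd (Finset.mem_univ i) hi)
  have h3 : ∑ a : ZMod 3, finrank K (End.eigenspace T (w ^ a.val)) ≤ finrank K V := by
    have h4 : iSupIndep fun a : ZMod 3 => End.eigenspace T (w ^ a.val) :=
      (End.eigenspaces_iSupIndep T).comp fun a b h => pow_val_inj hw h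
    have := sum_finrank_le (fun a : ZMod 3 => End.eigenspace T (w ^ a.val)) h4 Finset.univ ⊤ (fun _ _ => le_top)
    rwa [finrank_top] at this
  refine le_antisymm ?_ (h1 a)
  by_contra hlt
  push Not at hlt
  have h5 : ∑ a : ZMod 3, ∑ lam ∈ Finset.univ.filter (fun lam => φ lam = a), finrank K (wsp w ρ lam) <
      ∑ a : ZMod 3, finrank K (End.eigenspace T (w ^ a.val)) :=
    Finset.sum_lt_sum (fun b _ => h1 b) ⟨a, Finset.mem_univ a, hlt⟩
  omega

/-! ### Counting weights -/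

theorem nz_le (lam : Fin 6 → ZMod 3) : nz lam < 7 := by
  unfold nz
  have := Finset.card_filter_le (Finset.univ : Finset (Fin 6)) fun i => lam i ≠ 0
  rw [Finset.card_univ, Fintype.card_fin] at this
  omega

theorem sum_D (D : ℕ → ℕ) (p : (Fin 6 → ZMod 3) → Prop) [DecidablePred p] :
    ∑ lam ∈ Finset.univ.filter p, D (nz lam) =
      ∑ k : Fin 7, (Finset.univ.filter fun lam => p lam ∧ nz lam = k).card * D k := by
  rw [← Finset.sum_fiberwise (Finset.univ.filter p) (fun lam => (⟨nz lam, nz_le lam⟩ : Fin 7)) fun lam => D (nz lam)]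
  refine Finset.sum_congr rfl fun k _ => ?_
  rw [Finset.card_eq_sum_ones, Finset.sum_mul, Finset.filter_filter]
  have h : ∀ lam, (⟨nz lam, nz_le lam⟩ : Fin 7) = k ↔ nz lam = k := fun lam => Fin.ext_iff
  refine Finset.sum_congr ?_ ?_
  · ext lam
    simp only [Finset.mem_filter, h]
  · intro lam hlam
    rw [Finset.mem_filter] at hlam
    rw [one_mul, hlam.2.2]

theorem cnt0 : ∀ k : Fin 7, (Finset.univ.filter fun lam : Fin 6 → ZMod 3 => True ∧ nz lam = k).card =
    (![1, 12, 60, 160, 240, 192, 64] : Fin 7 → ℕ) k := by decide +kernel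

theorem cnt2 : ∀ k : Fin 7, (Finset.univ.filter fun lam : Fin 6 → ZMod 3 => lam 0 + lam 1 = 0 ∧ nz lam = k).card =
    (![1, 8, 26, 48, 64, 64, 32] : Fin 7 → ℕ) k := by decide +kernel

theorem cnt3 : ∀ k : Fin 7, (Finset.univ.filter fun lam : Fin 6 → ZMod 3 => lam 0 + lam 1 + lam 2 = 0 ∧ nz lam = k).card =
    (![1, 6, 18, 46, 84, 72, 16] : Fin 7 → ℕ) k := by decide +kernel

theorem sum_fin7 (f : Fin 7 → ℕ) : ∑ k, f k = f 0 + f 1 + f 2 + f 3 + f 4 + f 5 + f 6 := Fin.sum_univ_seven f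

/-- **the linear system** -/
theorem solve {d0 d1 d2 d3 d4 d5 d6 f2 f3 : ℕ}
    (h0 : d0 + 12 * d1 + 60 * d2 + 160 * d3 + 240 * d4 + 192 * d5 + 64 * d6 = 248)
    (h2 : d0 + 8 * d1 + 26 * d2 + 48 * d3 + 64 * d4 + 64 * d5 + 32 * d6 = f2)
    (h3 : d0 + 6 * d1 + 18 * d2 + 46 * d3 + 84 * d4 + 72 * d5 + 16 * d6 = f3)
    (hf2 : f2 = 80 ∨ f2 = 86 ∨ f2 = 92 ∨ f2 = 134) (hf3 : f3 = 80 ∨ f3 = 86 ∨ f3 = 92 ∨ f3 = 134) :
    d3 = 0 ∧ d4 = 0 ∧ d5 = 0 ∧ d6 = 2 := by
  have b3 : d3 ≤ 1 := by omega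
  have b4 : d4 ≤ 1 := by omega
  have b5 : d5 ≤ 1 := by omega
  have b6 : d6 ≤ 3 := by omega
  have b2 : d2 ≤ 4 := by omega
  interval_cases d3 <;> interval_cases d4 <;> interval_cases d5 <;> interval_cases d6 <;> interval_cases d2 <;> omega

end Cfsg.Agent.H191.E8Weights
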