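import Mathlib

/-!
# Simultaneous eigenspaces of finite commuting families

`sim f χ` is the simultaneous eigenspace of the family `f` of endomorphisms for the eigenvalues `χ`.
-/

set_option autoImplicit false

namespace Cfsg.Agent.H191.Lin

open Module

variable {k V : Type*} [Field k] [AddCommGroup V] [Module k V]

theorem finrank_sup_eq {ι : Type*} [FiniteDimensional k V] (W : ι → Submodule k V) (h : iSupIndep W) (S : Finset ι) :
    finrank k (S.sup W : Submodule k V) = ∑ i ∈ S, finrank k (W i) := by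
  classical
  induction S using Finset.induction_on with
  | empty => simp
  | insert a S ha ih =>
    rw [Finset.sup_insert, Finset.sum_insert ha]
    have h1 : Disjoint (W a) (S.sup W) := (h.supIndep' (insert a S)) (Finset.subset_insert a S)
      (Finset.mem_insert_self a S) ha
    have h2 := Submodule.finrank_sup_add_finrank_inf_eq (W a) (S.sup W)
    rw [h1.eq_bot, finrank_bot, add_zero] at h2
    rw [h2, ih]

theorem sum_finrank_le {ι : Type*} [FiniteDimensional k V] (W : ι → Submodule k V) (h : iSupIndep W) (S : Finset ι)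
    (U : Submodule k V) (hU : ∀ i ∈ S, W i ≤ U) : ∑ i ∈ S, finrank k (W i) ≤ finrank k U := by
  rw [← finrank_sup_eq W h S]
  exact Submodule.finrank_mono (Finset.sup_le hU)

theorem sum_finrank_eq {ι : Type*} [FiniteDimensional k V] (W : ι → Submodule k V) (h : iSupIndep W)
    (ht : ⨆ i, W i = ⊤) (S : Finset ι) (hS : ∀ i, i ∉ S → W i = ⊥) : ∑ i ∈ S, finrank k (W i) = finrank k V := by
  rw [← finrank_sup_eq W h S]
  have h1 : (S.sup W : Submodule k V) = ⊤ := by
    rw [eq_top_iff, ← ht]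
    refine iSup_le fun i => ?_
    by_cases hi : i ∈ S
    · exact Finset.le_sup hi
    · rw [hS i hi]; exact bot_le
  rw [h1, finrank_top]

theorem isSemisimple_of_pow (f : End k V) {n : ℕ} (hn : (n : k) ≠ 0) (hf : f ^ n = 1) : f.IsSemisimple := by
  have hsq : Squarefree (Polynomial.X ^ n - 1 : Polynomial k) := by
    apply Polynomial.Separable.squarefree
    have := Polynomial.separable_X_pow_sub_C (1 : k) hn one_ne_zero
    simpa using this
  apply Module.End.isSemisimple_of_squarefree_aeval_eq_zero hsq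
  simp [hf]

/-- simultaneous eigenspace -/
def sim {ι : Type*} (f : ι → End k V) (χ : ι → k) : Submodule k V := ⨅ i, End.eigenspace (f i) (χ i)

theorem mem_sim {ι : Type*} {f : ι → End k V} {χ : ι → k} {v : V} : v ∈ sim f χ ↔ ∀ i, f i v = χ i • v := by
  unfold sim
  rw [Submodule.mem_iInf]
  exact forall_congr' fun i => End.mem_eigenspace_iff

theorem sim_eq {ι : Type*} {f : ι → End k V} (hs : ∀ i, (f i).IsFinitelySemisimple) (χ : ι → k) :
    sim f χ = ⨅ i, End.maxGenEigenspace (f i) (χ i) := by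
  unfold sim
  congr 1
  funext i
  exact ((hs i).maxGenEigenspace_eq_eigenspace _).symm

theorem sim_indep {ι : Type*} {f : ι → End k V} (hc : ∀ i j, Commute (f i) (f j))
    (hs : ∀ i, (f i).IsFinitelySemisimple) : iSupIndep (sim f) := by
  have h1 := Module.End.independent_iInf_maxGenEigenspace_of_forall_mapsTo f
    (fun i j φ => Module.End.mapsTo_maxGenEigenspace_of_comm (hc j i) φ)
  have h2 : sim f = fun χ : ι → k => ⨅ i, End.maxGenEigenspace (f i) (χ i) := by
    funext χ; exact sim_eq hs χ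
  rw [h2]; exact h1

theorem iSup_sim {ι : Type*} [IsAlgClosed k] [FiniteDimensional k V] {f : ι → End k V}
    (hc : ∀ i j, Commute (f i) (f j)) (hs : ∀ i, (f i).IsFinitelySemisimple) : ⨆ χ, sim f χ = ⊤ := by
  have h2 : ∀ χ : ι → k, sim f χ = ⨅ i, End.maxGenEigenspace (f i) (χ i) := fun χ => sim_eq hs χ
  simp only [h2]
  exact Module.End.iSup_iInf_maxGenEigenspace_eq_top_of_iSup_maxGenEigenspace_eq_top_of_commute f
    (fun i j _ => hc i j) (fun i => Module.End.iSup_maxGenEigenspace_eq_top _)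

/-! ### Operators of order three -/

theorem pow_apply_of_eigen {f : End k V} {v : V} {l : k} (h : f v = l • v) (n : ℕ) : (f ^ n) v = l ^ n • v := by
  induction n with
  | zero => simp
  | succ n ih => rw [pow_succ', End.mul_apply, ih, map_smul, h, smul_smul, pow_succ]

theorem pow_eq_one_of_eigen {f : End k V} {v : V} {l : k} (h : f v = l • v) (hv : v ≠ 0) {n : ℕ} (hf : f ^ n = 1) :
    l ^ n = 1 := by
  have h1 := pow_apply_of_eigen h n
  rw [hf, End.one_apply] at h1
  have h2 : (l ^ n - 1) • v = 0 := by rw [sub_smul, one_smul, ← h1, sub_self]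
  rcases smul_eq_zero.1 h2 with h3 | h3
  · exact sub_eq_zero.1 h3
  · exact absurd h3 hv

/-- cube roots of unity -/
theorem cube_root {ω : k} (h1 : ω ≠ 1) (h3 : ω ^ 3 = 1) {l : k} (hl : l ^ 3 = 1) : ∃ j : Fin 3, l = ω ^ (j : ℕ) := by
  have h4 : ω ^ 2 + ω + 1 = 0 := by
    have : (ω - 1) * (ω ^ 2 + ω + 1) = 0 := by ring_nf; rw [h3]; ring
    rcases mul_eq_zero.1 this with h | h
    · exact absurd (sub_eq_zero.1 h) h1
    · exact h
  have h5 : (l - 1) * ((l - ω) * (l - ω ^ 2)) = 0 := by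
    have : (l - 1) * ((l - ω) * (l - ω ^ 2)) = l ^ 3 - 1 - (l ^ 2 - l) * (ω ^ 2 + ω + 1) + (l - 1) * (ω ^ 3 - 1) +
      0 := by ring
    rw [this, h4, h3, hl]; ring
  rcases mul_eq_zero.1 h5 with h | h
  · exact ⟨0, by simpa using sub_eq_zero.1 h⟩
  · rcases mul_eq_zero.1 h with h | h
    · exact ⟨1, by simpa using sub_eq_zero.1 h⟩
    · exact ⟨2, by simpa using sub_eq_zero.1 h⟩

theorem omega_pow_inj {ω : k} (h1 : ω ≠ 1) (h3 : ω ^ 3 = 1) {i j : Fin 3} (h : ω ^ (i : ℕ) = ω ^ (j : ℕ)) : i = j := by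
  have h0 : ω ≠ 0 := by rintro rfl; simp at h3
  have h2 : ω ^ 2 ≠ 1 := by
    intro h2
    apply h1
    have : ω ^ 3 = ω ^ 2 * ω := by ring
    rw [h2, h3, one_mul] at this
    exact this.symm
  have h5 : ω ^ 1 ≠ ω ^ 2 := by
    intro h
    apply h1
    have h4 : ω * ω = ω * 1 := by rw [mul_one, ← sq, ← h, pow_one]
    exact mul_left_cancel₀ h0 h4
  have h6 : ω ^ 0 ≠ ω ^ 1 := by rw [pow_zero, pow_one]; exact h1.symm
  have h7 : ω ^ 0 ≠ ω ^ 2 := by rw [pow_zero]; exact h2.symm
  fin_cases i <;> fin_cases j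
  · rfl
  · exact absurd h h6
  · exact absurd h h7
  · exact absurd h.symm h6
  · rfl
  · exact absurd h h5
  · exact absurd h.symm h7
  · exact absurd h.symm h5
  · rfl

/-- the weight spaces of a commuting family of elements of order three -/
def W3 {ι : Type*} (f : ι → End k V) (ω : k) (v : ι → Fin 3) : Submodule k V := sim f fun i => ω ^ (v i : ℕ)

theorem mem_W3 {ι : Type*} {f : ι → End k V} {ω : k} {v : ι → Fin 3} {x : V} :
    x ∈ W3 f ω v ↔ ∀ i, f i x = ω ^ (v i : ℕ) • x := mem_sim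

section

variable {ι : Type*} [IsAlgClosed k] [FiniteDimensional k V] {f : ι → End k V}
  (hc : ∀ i j, Commute (f i) (f j)) (hf : ∀ i, f i ^ 3 = 1) (h3 : (3 : k) ≠ 0) {ω : k} (hω1 : ω ≠ 1) (hω : ω ^ 3 = 1)

omit [IsAlgClosed k] [FiniteDimensional k V] in
include hf h3 in
theorem ss3 (i : ι) : (f i).IsFinitelySemisimple :=
  (isSemisimple_of_pow _ (n := 3) (by exact_mod_cast h3) (hf i)).isFinitelySemisimple

omit [IsAlgClosed k] [FiniteDimensional k V] in
include hc hf h3 hω1 hω in
theorem W3_indep : iSupIndep (W3 f ω) := by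
  have h1 := sim_indep hc (ss3 hf h3)
  refine h1.comp (f := fun (v : ι → Fin 3) (i : ι) => ω ^ (v i : ℕ)) ?_
  intro v w h
  funext i
  exact omega_pow_inj hω1 hω (congrFun h i)

include hc hf h3 hω1 hω in
theorem iSup_W3 : ⨆ v, W3 f ω v = ⊤ := by
  rw [eq_top_iff, ← iSup_sim hc (ss3 hf h3)]
  refine iSup_le fun χ => ?_
  by_cases h : sim f χ = ⊥
  · rw [h]; exact bot_le
  · obtain ⟨x, hx, hx0⟩ := Submodule.exists_mem_ne_zero_of_ne_bot h
    have h4 : ∀ i, ∃ j : Fin 3, χ i = ω ^ (j : ℕ) := fun i =>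
      cube_root hω1 hω (pow_eq_one_of_eigen (mem_sim.1 hx i) hx0 (hf i))
    choose v hv using h4
    have h5 : sim f χ = W3 f ω v := by
      unfold W3
      congr 1
      funext i; exact hv i
    rw [h5]
    exact le_iSup (W3 f ω) v

include hc hf h3 hω1 hω in
theorem sum_W3 [Fintype ι] [DecidableEq ι] : ∑ v, finrank k (W3 f ω v) = finrank k V :=
  sum_finrank_eq (W3 f ω) (W3_indep hc hf h3 hω1 hω) (iSup_W3 hc hf h3 hω1 hω) Finset.univ
    (fun i hi => absurd (Finset.mem_univ i) hi)

end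

end Cfsg.Agent.H191.Lin
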