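import Cfsg.Agent.H224.E8Defs
import Cfsg.Agent.H191.Lin

/-!
# Weight multiplicities of `3^6 ≤ A_18` (S2654, part T3a (3))

The dimension of a weight space depends on the number of nonzero coordinates only (`exists_dim`); the dimension of the
fixed space of an element of `<x 0, ..., x 5>` is a sum of such dimensions (`finrank_fix`).
-/

set_option autoImplicit false

namespace Cfsg.Agent.H191.E8Weights

open Equiv Module Cfsg.Agent.H224.E8 Cfsg.Agent.H191.Lin

variable {K V : Type*} [Field K] [AddCommGroup V] [Module K V] {w : K} {ρ : ↥P18 →* Module.End K V}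

/-! ### Moves -/

theorem pow_val_neg (hw : IsPrimitiveRoot w 3) (a : ZMod 3) : w ^ (-a).val * w ^ a.val = 1 := by
  have h : ∀ a : ZMod 3, (-a).val + a.val = 0 ∨ (-a).val + a.val = 3 := by decide
  rw [← pow_add]
  rcases h a with h | h <;> rw [h]
  · rw [pow_zero]
  · exact hw.pow_eq_one

/-- the effect of a signed permutation on a weight -/
def mvw (σ : Perm (Fin 6)) (ε : Fin 6 → Bool) (lam : Fin 6 → ZMod 3) : Fin 6 → ZMod 3 := fun j =>
  if ε (σ⁻¹ j) then - lam (σ⁻¹ j) else lam (σ⁻¹ j)

theorem E18_le : E18 ≤ P18 := by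
  unfold E18
  rw [Subgroup.closure_le]
  rintro _ ⟨i, rfl⟩
  exact x_mem i

theorem x_mem_E18 (i : Fin 6) : x i ∈ E18 := Subgroup.subset_closure ⟨i, rfl⟩

theorem finrank_move (hw : IsPrimitiveRoot w 3) (hf : Fus ρ) (a : ↥(alternatingGroup (Fin 18))) (σ : Perm (Fin 6))
    (ε : Fin 6 → Bool) (ha : ∀ i, a * x i * a⁻¹ = if ε i then (x (σ i))⁻¹ else x (σ i)) (lam : Fin 6 → ZMod 3) :
    finrank K (wsp w ρ (mvw σ ε lam)) = finrank K (wsp w ρ lam) := by
  have hw0 : w ≠ 0 := hw.ne_zero (by norm_num)
  have hE : ∀ q ∈ E18, a * q * a⁻¹ ∈ P18 := by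
    intro q hq
    have h1 : E18 ≤ P18.comap (MulAut.conj a).toMonoidHom := by
      unfold E18
      rw [Subgroup.closure_le]
      rintro _ ⟨i, rfl⟩
      show a * x i * a⁻¹ ∈ P18
      rw [ha]
      split
      · exact inv_mem (x_mem _)
      · exact x_mem _
    exact h1 hq
  obtain ⟨h, hh⟩ := hf a E18 E18_le hE
  have key : (wsp w ρ lam).map (h : V →ₗ[K] V) = wsp w ρ (mvw σ ε lam) := by
    have h1 : ∀ v, v ∈ wsp w ρ lam ↔ h v ∈ wsp w ρ (mvw σ ε lam) := by
      intro v
      rw [mem_wsp, mem_wsp]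
      have h2 : ∀ i, (ρ (xP i) v = w ^ (lam i).val • v) ↔ (ρ (xP (σ i)) (h v) = w ^ (mvw σ ε lam (σ i)).val • h v) := by
        intro i
        rw [← h.injective.eq_iff, map_smul]
        have h3 := hh (x i) (x_mem_E18 i) v
        have h4 : (⟨x i, E18_le (x_mem_E18 i)⟩ : P18) = xP i := rfl
        rw [h4] at h3
        rw [h3]
        have h5 : mvw σ ε lam (σ i) = if ε i then - lam i else lam i := by
          unfold mvw
          rw [show σ⁻¹ (σ i) = i from σ.symm_apply_apply i]
        rw [h5]
        cases hε : ε i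
        · have h6 : (⟨a * x i * a⁻¹, hE _ (x_mem_E18 i)⟩ : P18) = xP (σ i) := by
            apply Subtype.ext
            show a * x i * a⁻¹ = x (σ i)
            rw [ha, hε]; rfl
          rw [h6]
          simp
        · have h6 : (⟨a * x i * a⁻¹, hE _ (x_mem_E18 i)⟩ : P18) = (xP (σ i))⁻¹ := by
            apply Subtype.ext
            show a * x i * a⁻¹ = (x (σ i))⁻¹
            rw [ha, hε]; rfl
          rw [h6]
          simp only [if_true]
          have hinv1 : ∀ y, ρ (xP (σ i)) (ρ (xP (σ i))⁻¹ y) = y := by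
            intro y
            rw [← End.mul_apply, ← map_mul, mul_inv_cancel, map_one, End.one_apply]
          have hinv2 : ∀ y, ρ (xP (σ i))⁻¹ (ρ (xP (σ i)) y) = y := by
            intro y
            rw [← End.mul_apply, ← map_mul, inv_mul_cancel, map_one, End.one_apply]
          constructor
          · intro h7
            have h8 := congrArg (fun y => w ^ (-lam i).val • ρ (xP (σ i)) y) h7
            simp only [map_smul, hinv1, smul_smul] at h8
            rw [pow_val_neg hw, one_smul] at h8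
            exact h8.symm
          · intro h7
            have h8 := congrArg (fun y => w ^ (lam i).val • ρ (xP (σ i))⁻¹ y) h7
            simp only [map_smul, hinv2, smul_smul] at h8
            rw [mul_comm, pow_val_neg hw, one_smul] at h8
            exact h8.symm
      constructor
      · intro h3 j
        have := (h2 (σ⁻¹ j)).1 (h3 _)
        rwa [show σ (σ⁻¹ j) = j from σ.apply_symm_apply j] at this
      · intro h3 i
        exact (h2 i).2 (h3 _)
    apply le_antisymm
    · rintro _ ⟨v, hv, rfl⟩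
      exact (h1 v).1 hv
    · intro v hv
      refine ⟨h.symm v, (h1 _).2 ?_, h.apply_symm_apply v⟩
      rw [h.apply_symm_apply]
      exact hv
  rw [← key]
  exact LinearEquiv.finrank_map_eq h _

/-- negation of one coordinate -/
def ng (k : Fin 6) (lam : Fin 6 → ZMod 3) : Fin 6 → ZMod 3 := fun j => if j = k then - lam j else lam j

/-- negation of the coordinates in a set -/
def ngS (S : Finset (Fin 6)) (lam : Fin 6 → ZMod 3) : Fin 6 → ZMod 3 := fun j => if j ∈ S then - lam j else lam j

theorem ng_ng (k : Fin 6) (lam : Fin 6 → ZMod 3) : ng k (ng k lam) = lam := by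
  funext j
  unfold ng
  split <;> simp

theorem ng_of_zero {k : Fin 6} {lam : Fin 6 → ZMod 3} (h : lam k = 0) : ng k lam = lam := by
  funext j
  unfold ng
  split
  · next hj => rw [hj, h, neg_zero]
  · rfl

/-- inversion of `x 0` and `x j` -/
def ap (j : Fin 6) : Perm (Fin 18) := sw [(1, 2), (⟨3 * j + 1, by omega⟩, ⟨3 * j + 2, by omega⟩)]

/-- exchange of the blocks `i` and `j` after inversion of `x 0` -/
def bp (i j : Fin 6) : Perm (Fin 18) :=
  sw [(⟨3 * i, by omega⟩, ⟨3 * j, by omega⟩), (⟨3 * i + 1, by omega⟩, ⟨3 * j + 1, by omega⟩),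
    (⟨3 * i + 2, by omega⟩, ⟨3 * j + 2, by omega⟩), (1, 2)]

theorem ap_mem (j : Fin 6) : ap j ∈ alternatingGroup (Fin 18) := by
  refine sw_mem _ ?_ (by simp)
  intro p hp
  fin_cases hp
  · simp
  · simp

theorem bp_mem {i j : Fin 6} (hij : i ≠ j) : bp i j ∈ alternatingGroup (Fin 18) := by
  refine sw_mem _ ?_ (by simp; decide)
  have h : (i : ℕ) ≠ j := fun h => hij (Fin.ext h)
  intro p hp
  fin_cases hp
  · simp only [ne_eq, Fin.mk.injEq]; omega
  · simp only [ne_eq, Fin.mk.injEq]; omega
  · simp only [ne_eq, Fin.mk.injEq]; omega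
  · simp

theorem ap_x : ∀ j : Fin 6, j ≠ 0 → ∀ i, ap j * xp i * (ap j)⁻¹ = if (decide (i = 0 ∨ i = j)) = true then (xp i)⁻¹ else xp i := by
  decide +kernel

theorem bp_x : ∀ i j : Fin 6, i ≠ j → ∀ l, bp i j * xp l * (bp i j)⁻¹ =
    if (decide (l = 0)) = true then (xp (swap i j l))⁻¹ else xp (swap i j l) := by
  decide +kernel

section

variable (hw : IsPrimitiveRoot w 3) (hf : Fus ρ)
include hw hf

theorem d_m1 {j : Fin 6} (hj : j ≠ 0) (lam : Fin 6 → ZMod 3) :
    finrank K (wsp w ρ (ng 0 (ng j lam))) = finrank K (wsp w ρ lam) := by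
  have h := finrank_move hw hf ⟨ap j, ap_mem j⟩ 1 (fun i => decide (i = 0 ∨ i = j)) (by
    intro i
    apply Subtype.ext
    have h1 := ap_x j hj i
    show ap j * xp i * (ap j)⁻¹ = _
    rw [h1]
    rw [apply_ite (Subtype.val : ↥(alternatingGroup (Fin 18)) → Perm (Fin 18))]
    rfl) lam
  have e : ng 0 (ng j lam) = mvw 1 (fun i => decide (i = 0 ∨ i = j)) lam := by
   funext l
   unfold ng mvw
   show (if l = 0 then - (if l = j then - lam l else lam l) else (if l = j then - lam l else lam l)) =
     if decide (l = 0 ∨ l = j) = true then - lam l else lam l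
   by_cases h0 : l = 0
   · simp [h0, hj.symm]
   · by_cases h1 : l = j <;> simp [h0, h1, hj]
  rw [e]
  exact h

theorem d_m2 {i j : Fin 6} (hij : i ≠ j) (lam : Fin 6 → ZMod 3) :
    finrank K (wsp w ρ (ng 0 lam ∘ swap i j)) = finrank K (wsp w ρ lam) := by
  have h := finrank_move hw hf ⟨bp i j, bp_mem hij⟩ (swap i j) (fun l => decide (l = 0)) (by
    intro l
    apply Subtype.ext
    have h1 := bp_x i j hij l
    show bp i j * xp l * (bp i j)⁻¹ = _
    rw [h1]
    rw [apply_ite (Subtype.val : ↥(alternatingGroup (Fin 18)) → Perm (Fin 18))]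
    rfl) lam
  have e : ng 0 lam ∘ swap i j = mvw (swap i j) (fun l => decide (l = 0)) lam := by
    funext l
    unfold ng mvw
    rw [swap_inv]
    simp
  rw [e]
  exact h

theorem d_ng0 (lam : Fin 6 → ZMod 3) : finrank K (wsp w ρ (ng 0 lam)) = finrank K (wsp w ρ lam) := by
  by_cases h0 : ∃ j, lam j = 0
  · obtain ⟨j, hj⟩ := h0
    by_cases hj0 : j = 0
    · subst hj0
      rw [ng_of_zero hj]
    · have := d_m1 hw hf hj0 lam
      rwa [ng_of_zero hj] at this
  · push Not at h0
    have h1 : ∀ j, ng 0 lam j ≠ 0 := by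
      intro j
      unfold ng
      split
      · exact neg_ne_zero.2 (h0 j)
      · exact h0 j
    obtain ⟨i, j, hij, he⟩ : ∃ i j, i ≠ j ∧ ng 0 lam i = ng 0 lam j := by
      have h2 : ∀ i, ng 0 lam i ∈ ({1, 2} : Finset (ZMod 3)) := by
        intro i
        have : ∀ a : ZMod 3, a ≠ 0 → a ∈ ({1, 2} : Finset (ZMod 3)) := by decide
        exact this _ (h1 i)
      obtain ⟨i, -, j, -, hij, he⟩ := Finset.exists_ne_map_eq_of_card_lt_of_maps_to (s := (Finset.univ : Finset (Fin 6)))
        (t := ({1, 2} : Finset (ZMod 3))) (f := ng 0 lam) (by decide) (fun i _ => h2 i)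
      exact ⟨i, j, hij, he⟩
    have h2 := d_m2 hw hf hij lam
    have h3 : ng 0 lam ∘ swap i j = ng 0 lam := by
      funext l
      show ng 0 lam (swap i j l) = ng 0 lam l
      rcases swap_apply_eq_iff.1 (rfl : swap i j l = swap i j l) with h
      by_cases hli : l = i
      · rw [hli, swap_apply_left, he]
      · by_cases hlj : l = j
        · rw [hlj, swap_apply_right, he]
        · rw [swap_apply_of_ne_of_ne hli hlj]
    rwa [h3] at h2

theorem d_ng (j : Fin 6) (lam : Fin 6 → ZMod 3) : finrank K (wsp w ρ (ng j lam)) = finrank K (wsp w ρ lam) := by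
  by_cases hj : j = 0
  · rw [hj]; exact d_ng0 hw hf lam
  · rw [← d_m1 hw hf hj lam, d_ng0 hw hf]

theorem d_swap (i j : Fin 6) (lam : Fin 6 → ZMod 3) :
    finrank K (wsp w ρ (lam ∘ swap i j)) = finrank K (wsp w ρ lam) := by
  by_cases hij : i = j
  · rw [hij, swap_self]; rfl
  · have := d_m2 hw hf hij (ng 0 lam)
    rwa [ng_ng, d_ng0 hw hf] at this

theorem d_perm (π : Perm (Fin 6)) : ∀ lam : Fin 6 → ZMod 3,
    finrank K (wsp w ρ (lam ∘ π)) = finrank K (wsp w ρ lam) := by
  induction π using Perm.swap_induction_on with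
  | one => intro lam; rfl
  | swap_mul g i j _ ih =>
    intro lam
    have h1 : lam ∘ (swap i j * g : Perm (Fin 6)) = (lam ∘ swap i j) ∘ g := rfl
    rw [h1, ih, d_swap hw hf]

theorem d_ngS (S : Finset (Fin 6)) (lam : Fin 6 → ZMod 3) :
    finrank K (wsp w ρ (ngS S lam)) = finrank K (wsp w ρ lam) := by
  induction S using Finset.induction_on with
  | empty =>
    have : ngS ∅ lam = lam := by funext j; simp [ngS]
    rw [this]
  | insert a S ha ih =>
    have : ngS (insert a S) lam = ng a (ngS S lam) := by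
      funext j
      unfold ng ngS
      by_cases hj : j = a
      · simp [hj, ha]
      · simp [hj]
    rw [this, d_ng hw hf, ih]

theorem d_abs (lam : Fin 6 → ZMod 3) :
    finrank K (wsp w ρ (fun j => if lam j = 0 then 0 else 1)) = finrank K (wsp w ρ lam) := by
  have h : (fun j => if lam j = 0 then (0 : ZMod 3) else 1) = ngS (Finset.univ.filter fun j => lam j = 2) lam := by
    funext j
    unfold ngS
    have h1 : ∀ a : ZMod 3, (if a = 0 then (0 : ZMod 3) else 1) = if a = 2 then -a else a := by decide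
    simp [h1]
  rw [h, d_ngS hw hf]

theorem d_eq {lam lam' : Fin 6 → ZMod 3} (h : nz lam = nz lam') :
    finrank K (wsp w ρ lam) = finrank K (wsp w ρ lam') := by
  have h1 : Fintype.card {j // lam' j ≠ 0} = Fintype.card {j // lam j ≠ 0} := by
    rw [Fintype.card_subtype, Fintype.card_subtype]
    exact h.symm
  let e := Fintype.equivOfCardEq h1
  let π : Perm (Fin 6) := e.extendSubtype
  have h2 : ∀ j, lam (π j) = 0 ↔ lam' j = 0 := by
    intro j
    constructor
    · intro h3
      by_contra h4
      exact e.extendSubtype_mem j h4 h3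
    · intro h3
      by_contra h4
      exact e.extendSubtype_not_mem j (fun h5 => h5 h3) h4
  have e1 : (fun j => if lam j = 0 then (0 : ZMod 3) else 1) ∘ π = fun j => if lam' j = 0 then (0 : ZMod 3) else 1 := by
    funext j
    show (if lam (π j) = 0 then (0 : ZMod 3) else 1) = _
    simp only [h2]
  rw [← d_abs hw hf lam, ← d_abs hw hf lam', ← d_perm hw hf π, e1]

/-- the dimension of a weight space depends on the number of nonzero coordinates only -/
theorem exists_dim : ∃ D : ℕ → ℕ, ∀ lam, finrank K (wsp w ρ lam) = D (nz lam) := by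
  classical
  refine ⟨fun k => if h : ∃ lam, nz lam = k then finrank K (wsp w ρ h.choose) else 0, fun lam => ?_⟩
  have h : ∃ lam', nz lam' = nz lam := ⟨lam, rfl⟩
  simp only [dif_pos h]
  exact d_eq hw hf h.choose_spec.symm

end

end Cfsg.Agent.H191.E8Weights
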