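import Cfsg.Agent.H672.Four.Interface
import Cfsg.Agent.H988.DG.Diam
import Cfsg.Agent.H714.Tri.Out
import Cfsg.Agent.ClassicalGeometry.PSL2ElemOrder

/-!
# S4773: `FactInd4`, `FactL2A`, `FactL2B` from `FactInd` and `FactIM` (helper191)
-/

set_option autoImplicit false

namespace Cfsg.Agent.H191.FourL2

open Cfsg Cfsg.Agent.H671.H5 Cfsg.Agent.H672.Four

universe u

/-- The degree graph of `PSL(2,F)`: `p` is the characteristic. -/
theorem l2_data {S : Type u} [Group S] [Finite S] [IsSimpleGroup S] (h : IsL2 S) :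
    ∃ (F : Type) (_ : Field F) (_ : Fintype F) (p : ℕ) (_ : Fact p.Prime) (_ : CharP F p), 4 ≤ Fintype.card F ∧
      Nonempty (S ≃* Matrix.ProjectiveSpecialLinearGroup (Fin 2) F) ∧ p ∣ Fintype.card F ∧
      (∀ r : ℕ, r.Prime → r ∣ Nat.card S → r = p ∨ r ∣ Fintype.card F - 1 ∨ r ∣ Fintype.card F + 1) ∧
      ∀ r s : ℕ, r ≠ s → r.Prime → s.Prime → ((r ∣ Fintype.card F + 1 ∧ s ∣ Fintype.card F + 1) ∨
        (r ∣ Fintype.card F - 1 ∧ s ∣ Fintype.card F - 1)) → Adj r s S := by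
  classical
  obtain ⟨F, iF, iF', hF, h5, ⟨e⟩⟩ := H988.DG.l2_good h
  have hpr : (ringChar F).Prime := CharP.char_is_prime F _
  have : Fact (ringChar F).Prime := ⟨hpr⟩
  have hch : CharP F (ringChar F) := ringChar.charP F
  obtain ⟨n, -, hq⟩ := FiniteField.card F (ringChar F)
  have hd : ringChar F ∣ Fintype.card F := by
    rw [hq]
    exact dvd_pow_self _ n.2.ne'
  have hdeg : ∀ r : ℕ, r.Prime → r ∣ Nat.card S →
      r = ringChar F ∨ r ∣ Fintype.card F - 1 ∨ r ∣ Fintype.card F + 1 := by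
    intro r hr hrS
    have h1 : r ∣ (Fintype.card F + 1) * (Fintype.card F * (Fintype.card F - 1)) := by
      rcases Nat.even_or_odd (Fintype.card F) with h | h
      · rwa [← (H525.L2.frame e).card_even h]
      · rw [← (H525.L2.frame e).card_odd h]
        exact Dvd.dvd.mul_left hrS _
    rcases (Nat.Prime.dvd_mul hr).1 h1 with h1 | h1
    · exact Or.inr (Or.inr h1)
    · rcases (Nat.Prime.dvd_mul hr).1 h1 with h1 | h1
      · rw [hq] at h1
        exact Or.inl ((Nat.prime_dvd_prime_iff_eq hr hpr).1 (hr.dvd_of_dvd_pow h1))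
      · exact Or.inr (Or.inl h1)
  refine ⟨F, iF, iF', ringChar F, this, hch, hF, ⟨e⟩, hd, hdeg, ?_⟩
  intro r s hrs hr hs hor
  rcases Nat.even_or_odd (Fintype.card F) with h | h
  · have hchar : CharP F 2 := by
      have h6 : ringChar F = 2 := FiniteField.even_card_iff_char_two.2 (Nat.even_iff.1 h)
      rw [← h6]
      exact ringChar.charP F
    obtain ⟨-, hadj⟩ := S4812.result F (Fintype.card F) rfl hF (Or.inl ⟨e⟩)
    exact (hadj r s).2 ⟨hrs, hr, hs, hor⟩
  · have h6 : 5 < Fintype.card F := by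
      rcases h with ⟨k, hk⟩
      omega
    have hodd : ringChar F ≠ 2 := by
      intro h7
      have := FiniteField.even_card_iff_char_two.1 h7
      rw [Nat.odd_iff] at h
      omega
    obtain ⟨-, hadj⟩ := S4774.result F (ringChar F) hodd (Fintype.card F) rfl h6 (Or.inl ⟨e⟩)
    refine (hadj r s).2 ⟨hrs, hr, hs, ?_, ?_, Or.inr (Or.inr hor)⟩
    · have h7 : Fintype.card F ^ 2 - 1 = (Fintype.card F + 1) * (Fintype.card F - 1) := by
        have := Nat.sq_sub_sq (Fintype.card F) 1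
        simpa using this
      rw [h7]
      rcases hor with ⟨h8, -⟩ | ⟨h8, -⟩
      · exact Dvd.dvd.mul_right h8 _
      · exact Dvd.dvd.mul_left h8 _
    · have h7 : Fintype.card F ^ 2 - 1 = (Fintype.card F + 1) * (Fintype.card F - 1) := by
        have := Nat.sq_sub_sq (Fintype.card F) 1
        simpa using this
      rw [h7]
      rcases hor with ⟨-, h8⟩ | ⟨-, h8⟩
      · exact Dvd.dvd.mul_right h8 _
      · exact Dvd.dvd.mul_left h8 _

/-- Three pairwise nonadjacent primes of a nonabelian simple group: the group is `PSL(2,F)`. -/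
theorem isL2_of_three (hInd : FactInd.{u}) (hIM : FactIM.{u}) {S : Type u} [Group S] [Finite S] [IsSimpleGroup S]
    (hS : ¬ IsMulCommutative S) {a b c : ℕ} (hab : a ≠ b) (hbc : b ≠ c) (hac : a ≠ c) (ha : a.Prime ∧ a ∣ Nat.card S)
    (hb : b.Prime ∧ b ∣ Nat.card S) (hc : c.Prime ∧ c ∣ Nat.card S) (h1 : ¬ Adj a b S) (h2 : ¬ Adj b c S)
    (h3 : ¬ Adj a c S) : IsL2 S := by
  by_contra hL
  have hm : ∀ r : ℕ, r.Prime ∧ r ∣ Nat.card S → r ∈ degreePrimes S := fun r hr =>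
    mem_degreePrimes.2 ⟨hr.1, hIM S hS r hr.1 hr.2⟩
  rcases hInd S hS hL a (hm a ha) b (hm b hb) c (hm c hc) hab hbc hac with h | h | h
  · exact h1 h
  · exact h2 h
  · exact h3 h

/-- Three pairwise nonadjacent primes: the characteristic, a divisor of `q - 1` and one of `q + 1`. -/
theorem split {S : Type u} [Group S] {p q : ℕ}
    (hdeg : ∀ r : ℕ, r.Prime → r ∣ Nat.card S → r = p ∨ r ∣ q - 1 ∨ r ∣ q + 1)
    (hadj : ∀ r s : ℕ, r ≠ s → r.Prime → s.Prime → ((r ∣ q + 1 ∧ s ∣ q + 1) ∨ (r ∣ q - 1 ∧ s ∣ q - 1)) → Adj r s S)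
    (s : Finset ℕ) (h3 : s.card = 3) (hs : ∀ r ∈ s, r.Prime ∧ r ∣ Nat.card S)
    (hn : ∀ a ∈ s, ∀ b ∈ s, ¬ Adj a b S) :
    p ∈ s ∧ (∃ r ∈ s, r ≠ p) ∧ (∃ r ∈ s, r ∣ q - 1) ∧ ∃ r ∈ s, r ∣ q + 1 := by
  obtain ⟨a, b, c, hab, hac, hbc, rfl⟩ := Finset.card_eq_three.1 h3
  have ma : a ∈ ({a, b, c} : Finset ℕ) := by simp
  have mb : b ∈ ({a, b, c} : Finset ℕ) := by simp
  have mc : c ∈ ({a, b, c} : Finset ℕ) := by simp
  obtain ⟨pa, da⟩ := hs a ma
  obtain ⟨pb, db⟩ := hs b mb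
  obtain ⟨pc, dc⟩ := hs c mc
  have nab := fun h => hn a ma b mb (hadj a b hab pa pb h)
  have nac := fun h => hn a ma c mc (hadj a c hac pa pc h)
  have nbc := fun h => hn b mb c mc (hadj b c hbc pb pc h)
  have ea := hdeg a pa da
  have eb := hdeg b pb db
  have ec := hdeg c pc dc
  have hp : p ∈ ({a, b, c} : Finset ℕ) := by
    simp only [Finset.mem_insert, Finset.mem_singleton]
    by_contra hcon
    rw [not_or, not_or] at hcon
    obtain ⟨n1, n2, n3⟩ := hcon
    have ea' := ea.resolve_left fun h => n1 h.symm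
    have eb' := eb.resolve_left fun h => n2 h.symm
    have ec' := ec.resolve_left fun h => n3 h.symm
    rcases ea' with h1 | h1 <;> rcases eb' with h2 | h2 <;> rcases ec' with h4 | h4
    · exact nab (Or.inr ⟨h1, h2⟩)
    · exact nab (Or.inr ⟨h1, h2⟩)
    · exact nac (Or.inr ⟨h1, h4⟩)
    · exact nbc (Or.inl ⟨h2, h4⟩)
    · exact nbc (Or.inr ⟨h2, h4⟩)
    · exact nac (Or.inl ⟨h1, h4⟩)
    · exact nab (Or.inl ⟨h1, h2⟩)
    · exact nab (Or.inl ⟨h1, h2⟩)
  have hne : ∃ r ∈ ({a, b, c} : Finset ℕ), r ≠ p := by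
    by_cases h : a = p
    · exact ⟨b, mb, fun h' => hab (h.trans h'.symm)⟩
    · exact ⟨a, ma, h⟩
  -- two of the three are not `p`
  obtain ⟨x, hx, y, hy, hxy, hxp, hyp⟩ : ∃ x ∈ ({a, b, c} : Finset ℕ), ∃ y ∈ ({a, b, c} : Finset ℕ), x ≠ y ∧ x ≠ p ∧ y ≠ p := by
    by_cases h : a = p
    · exact ⟨b, mb, c, mc, hbc, fun h' => hab (h.trans h'.symm), fun h' => hac (h.trans h'.symm)⟩
    · by_cases h' : b = p
      · exact ⟨a, ma, c, mc, hac, h, fun h'' => hbc (h'.trans h''.symm)⟩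
      · exact ⟨a, ma, b, mb, hab, h, h'⟩
  obtain ⟨px, dx⟩ := hs x hx
  obtain ⟨py, dy⟩ := hs y hy
  have nxy := fun h => hn x hx y hy (hadj x y hxy px py h)
  refine ⟨hp, hne, ?_⟩
  rcases (hdeg x px dx).resolve_left hxp with h1 | h1 <;> rcases (hdeg y py dy).resolve_left hyp with h2 | h2
  · exact absurd (Or.inr ⟨h1, h2⟩) nxy
  · exact ⟨⟨x, hx, h1⟩, ⟨y, hy, h2⟩⟩
  · exact ⟨⟨y, hy, h2⟩, ⟨x, hx, h1⟩⟩
  · exact absurd (Or.inl ⟨h1, h2⟩) nxy

/-- **Among four prime divisors two are adjacent.** -/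
theorem factInd4 (hInd : FactInd.{u}) (hIM : FactIM.{u}) : FactInd4.{u} := by
  classical
  intro S _ _ _ hS s h4 hs
  by_contra hcon
  push Not at hcon
  obtain ⟨t, hts, ht⟩ := Finset.exists_subset_card_eq (s := s) (n := 3) (by omega)
  obtain ⟨a, b, c, hab, hac, hbc, rfl⟩ := Finset.card_eq_three.1 ht
  have ma : a ∈ s := hts (by simp)
  have mb : b ∈ s := hts (by simp)
  have mc : c ∈ s := hts (by simp)
  have hL := isL2_of_three hInd hIM hS hab hbc hac (hs a ma) (hs b mb) (hs c mc) (hcon a ma b mb) (hcon b mb c mc)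
    (hcon a ma c mc)
  obtain ⟨F, iF, iF', p, hpf, hch, hF, -, hd, hdeg, hadj⟩ := l2_data hL
  -- three primes other than the characteristic
  obtain ⟨t', ht's, ht'⟩ := Finset.exists_subset_card_eq (s := s.erase p) (n := 3) (by
    have := Finset.pred_card_le_card_erase (s := s) (a := p)
    omega)
  have h1 := split (S := S) hdeg hadj t' ht' (fun r hr => hs r (Finset.mem_of_mem_erase (ht's hr)))
    (fun x hx y hy => hcon x (Finset.mem_of_mem_erase (ht's hx)) y (Finset.mem_of_mem_erase (ht's hy)))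
  exact Finset.notMem_erase p s (ht's h1.1)

/-- No element of `PSL(2,F)` of order `p r`. -/
theorem not_order {F : Type} [Field F] [Fintype F] (p : ℕ) [Fact p.Prime] [CharP F p] {r : ℕ} (hr : r.Prime)
    (hrp : r ≠ p) (g : Matrix.ProjectiveSpecialLinearGroup (Fin 2) F) : orderOf g ≠ p * r := by
  intro hg
  have hp : p.Prime := Fact.out
  obtain ⟨A, rfl⟩ := ClassicalGeometry.PSLTorus.pr_surjective F g
  obtain ⟨n, -, hq⟩ := FiniteField.card F p
  have hd : p ∣ Fintype.card F := by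
    rw [hq]
    exact dvd_pow_self _ n.2.ne'
  have h1 : 1 ≤ Fintype.card F := Fintype.card_pos
  rcases Cfsg.Agent.ClassicalGeometry.SL2Order.pow_cases rfl p A with h | h | h
  · have h2 : orderOf (ClassicalGeometry.PSLTorus.pr F A) ∣ Fintype.card F - 1 := by
      apply orderOf_dvd_of_pow_eq_one
      rw [← map_pow, h, map_one]
    rw [hg] at h2
    have h3 : p ∣ Fintype.card F - 1 := (Dvd.intro _ rfl).trans h2
    have h4 := (Nat.dvd_sub hd h3)
    rw [Nat.sub_sub_self h1] at h4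
    exact hp.one_lt.ne' (Nat.dvd_one.1 h4)
  · have h2 : orderOf (ClassicalGeometry.PSLTorus.pr F A) ∣ Fintype.card F + 1 := by
      apply orderOf_dvd_of_pow_eq_one
      rw [← map_pow, h, map_one]
    rw [hg] at h2
    have h3 : p ∣ Fintype.card F + 1 := (Dvd.intro _ rfl).trans h2
    exact hp.one_lt.ne' (Nat.dvd_one.1 ((Nat.dvd_add_right hd).1 h3))
  · by_cases h2 : (2 : F) = 0
    · have hp2 : p = 2 := by
        have h5 : ((2 : ℕ) : F) = 0 := by exact_mod_cast h2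
        have h3 := (CharP.cast_eq_zero_iff F p 2).mp h5
        exact (Nat.prime_dvd_prime_iff_eq hp Nat.prime_two).mp h3
      have h3 : orderOf (ClassicalGeometry.PSLTorus.pr F A) ∣ 2 * p := by
        apply orderOf_dvd_of_pow_eq_one
        rw [← map_pow, h, map_one]
      rw [hg, mul_comm 2 p] at h3
      have h4 := Nat.dvd_of_mul_dvd_mul_left hp.pos h3
      exact hrp (((Nat.prime_dvd_prime_iff_eq hr Nat.prime_two).1 h4).trans hp2.symm)
    · have h3 : orderOf (ClassicalGeometry.PSLTorus.pr F A) ∣ p := by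
        apply orderOf_dvd_of_pow_eq_one
        rw [← map_pow, ClassicalGeometry.PSLTorus.pr_eq_one_iff]
        apply ClassicalGeometry.PSL2ElemOrder.eq_one_or_of_sq h2
        rw [← pow_add, ← h]
        congr 1
        omega
      rw [hg] at h3
      have h4 := Nat.le_of_dvd hp.pos h3
      have h5 := hr.two_le
      have h6 := hp.pos
      nlinarith

/-- **No abelian Hall subgroup.** -/
theorem factL2B (hInd : FactInd.{u}) (hIM : FactIM.{u}) : FactL2B.{u} := by
  classical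
  intro S _ _ _ hS s h3 hs hn A hA hidx
  have hL : IsL2 S := by
    obtain ⟨a, b, c, hab, hac, hbc, rfl⟩ := Finset.card_eq_three.1 h3
    have ma : a ∈ ({a, b, c} : Finset ℕ) := by simp
    have mb : b ∈ ({a, b, c} : Finset ℕ) := by simp
    have mc : c ∈ ({a, b, c} : Finset ℕ) := by simp
    exact isL2_of_three hInd hIM hS hab hbc hac (hs a ma) (hs b mb) (hs c mc) (hn a ma b mb) (hn b mb c mc)
      (hn a ma c mc)
  obtain ⟨F, iF, iF', p, hpf, hch, hF, ⟨e⟩, hd, hdeg, hadj⟩ := l2_data hL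
  obtain ⟨hps, ⟨r, hrs, hrp⟩, -, -⟩ := split (S := S) hdeg hadj s h3 hs hn
  have hcard := Subgroup.card_mul_index A
  have key : ∀ l ∈ s, ∃ x ∈ A, orderOf x = l := by
    intro l hl
    obtain ⟨hlp, hld⟩ := hs l hl
    have hlA : l ∣ Nat.card A := by
      rw [← hcard] at hld
      exact ((Nat.Prime.dvd_mul hlp).1 hld).resolve_right (hidx l hl)
    have : Fact l.Prime := ⟨hlp⟩
    obtain ⟨x, hx⟩ := exists_prime_orderOf_dvd_card' l hlA
    exact ⟨x, x.2, by rwa [Subgroup.orderOf_coe]⟩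
  obtain ⟨x, hxA, hx⟩ := key p hps
  obtain ⟨y, hyA, hy⟩ := key r hrs
  have hr : r.Prime := (hs r hrs).1
  have hp : p.Prime := Fact.out
  have hxy : Commute x y := hA x hxA y hyA
  have ho : orderOf (x * y) = p * r := by
    rw [hxy.orderOf_mul_eq_mul_orderOf_of_coprime, hx, hy]
    rw [hx, hy]
    exact (Nat.coprime_primes hp hr).2 hrp.symm
  refine not_order p hr hrp (e (x * y)) ?_
  rw [MulEquiv.orderOf_eq, ho]

/-- The outer coprime prime: `t (q + 1)` or `t (q - 1)` divides a degree (from `H714.Tri.out`). -/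
theorem outer_deg {Γ : Type u} [Group Γ] [Finite Γ] (S : Subgroup Γ) [S.Normal] {F : Type} [Field F] [Fintype F]
    (e : S ≃* Matrix.ProjectiveSpecialLinearGroup (Fin 2) F) (hF : 4 ≤ Fintype.card F)
    (hC : Subgroup.centralizer (S : Set Γ) = ⊥) {t : ℕ} (ht : t.Prime) (hdvd : t ∣ S.index) (htS : ¬ t ∣ Nat.card S) :
    ∃ d ∈ charDegrees Γ, t * (Fintype.card F + 1) ∣ d ∨ t * (Fintype.card F - 1) ∣ d := by
  classical
  rcases Nat.even_or_odd (Fintype.card F) with heven | hodd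
  · obtain ⟨d, hd, hdd⟩ := ((H714.Tri.out S e hF hC ht hdvd).2 heven).1
    exact ⟨d, hd, Or.inr hdd⟩
  obtain ⟨g, hgS, hgt⟩ := H714.Tri.exists_outer S ht hdvd
  obtain ⟨σ, hσ, hσ2, hσ1⟩ := H714.Tri.exists_fa (H714.Tri.Al S e g)
  have hσt : σ ^ t = 1 := by
    have h1 : ∀ n : ℕ, ∀ x, H714.Tri.tsq ((H714.Tri.Al S e g ^ n) x) = (σ ^ n) (H714.Tri.tsq x) := by
      intro n
      induction n with
      | zero => intro x; rfl
      | succ k ih =>
        intro x
        rw [pow_succ, pow_succ]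
        change H714.Tri.tsq ((H714.Tri.Al S e g ^ k) (H714.Tri.Al S e g x)) = (σ ^ k) (σ (H714.Tri.tsq x))
        rw [ih, hσ]
    refine H714.Tri.fa_eq_one (α := H714.Tri.Al S e g ^ t) (h1 t) (g := e ⟨g ^ t, hgt⟩) ?_
    rw [← map_pow]
    exact H714.Tri.al_mem S e ⟨g ^ t, hgt⟩
  have hcard : 2 * Nat.card S = (Fintype.card F + 1) * (Fintype.card F * (Fintype.card F - 1)) :=
    (H525.L2.frame e).card_odd hodd
  have h2S : 2 ∣ Nat.card S := by
    rw [Nat.card_congr e.toEquiv]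
    exact H988.DG.two_dvd_card_psl hF
  have ht2 : t ≠ 2 := by
    rintro rfl
    exact htS h2S
  have htodd : Odd t := ht.odd_of_ne_two ht2
  have hσn : σ ≠ 1 := by
    intro h1
    obtain ⟨y, hy⟩ := hσ2 h1
    apply hgS
    have hgg : g * g ∈ S := H714.Tri.mem_of_inner S e hC (y := y) (by rw [map_mul]; exact hy)
    obtain ⟨k, hk⟩ := htodd
    have h2 : g ^ t = (g * g) ^ k * g := by rw [hk, pow_succ, pow_mul, pow_two]
    have h3 := S.mul_mem (S.inv_mem (S.pow_mem hgg k)) hgt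
    rwa [h2, inv_mul_cancel_left] at h3
  have hord : orderOf σ = t := by
    have h1 := orderOf_dvd_of_pow_eq_one hσt
    rcases (Nat.dvd_prime ht).1 h1 with h | h
    · exact absurd (orderOf_eq_one_iff.1 h) hσn
    · exact h
  have ht3 : 3 ≤ t := by
    have := ht.two_le
    omega
  obtain ⟨χ, hχ1, hχ⟩ := H714.Tri.exists_nonfixed_odd hodd hσ (by rw [hord]; exact ht3)
  obtain ⟨d, hd, hdd⟩ := H714.Tri.exists_degree S e hC ht hgt χ hχ
  refine ⟨d, hd, ?_⟩
  rcases hχ1 with hχ1 | hχ1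
  · rw [H714.Tri.charDegree_eq_of (n := Fintype.card F + 1) (by rw [hχ1, Nat.cast_add, Nat.cast_one])] at hdd
    exact Or.inl hdd
  · rw [H714.Tri.charDegree_eq_of (n := Fintype.card F - 1) (by
      rw [hχ1, Nat.cast_sub (by omega), Nat.cast_one])] at hdd
    exact Or.inr hdd

/-- **An outer coprime prime is adjacent to one of three pairwise nonadjacent primes.** -/
theorem factL2A (hInd : FactInd.{u}) (hIM : FactIM.{u}) : FactL2A.{u} := by
  classical
  intro Γ _ _ S _ hSs hS hC t ht htd htS s h3 hs hn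
  have hL : IsL2 S := by
    obtain ⟨a, b, c, hab, hac, hbc, rfl⟩ := Finset.card_eq_three.1 h3
    have ma : a ∈ ({a, b, c} : Finset ℕ) := by simp
    have mb : b ∈ ({a, b, c} : Finset ℕ) := by simp
    have mc : c ∈ ({a, b, c} : Finset ℕ) := by simp
    exact isL2_of_three hInd hIM hS hab hbc hac (hs a ma) (hs b mb) (hs c mc) (hn a ma b mb) (hn b mb c mc)
      (hn a ma c mc)
  obtain ⟨F, iF, iF', p, hpf, hch, hF, ⟨e⟩, hd, hdeg, hadj⟩ := l2_data hL
  obtain ⟨-, -, ⟨r, hrs, hr1⟩, r', hrs', hr2⟩ := split (S := S) hdeg hadj s h3 hs hn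
  have hidx : t ∣ S.index := by
    have h1 := Subgroup.card_mul_index S
    rw [← h1] at htd
    exact ((Nat.Prime.dvd_mul ht).1 htd).resolve_left htS
  obtain ⟨d, hdd, h⟩ := outer_deg S e hF hC ht hidx htS
  rcases h with h | h
  · refine ⟨r', hrs', ?_⟩
    obtain ⟨hr', hrd'⟩ := hs r' hrs'
    refine ⟨?_, ht, hr', d, hdd, (Nat.mul_dvd_mul_left t hr2).trans h⟩
    rintro rfl
    exact htS hrd'
  · refine ⟨r, hrs, ?_⟩
    obtain ⟨hr', hrd'⟩ := hs r hrs
    refine ⟨?_, ht, hr', d, hdd, (Nat.mul_dvd_mul_left t hr1).trans h⟩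
    rintro rfl
    exact htS hrd'

end Cfsg.Agent.H191.FourL2
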