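import Cfsg.Agent.H191.Lin
import Cfsg.Agent.H191.ConjFam
import Cfsg.Agent.H190.Frattini

/-!
# Elements of order three without fixed vectors normalising a four-group modulo the kernel
-/

set_option autoImplicit false

namespace Cfsg.Agent.H191.Kill

open Module Cfsg.Agent.H191.Lin Cfsg.Agent.H191.ConjFam

section

variable {k V : Type*} [Field k] [IsAlgClosed k] [AddCommGroup V] [Module k V] [FiniteDimensional k V]

/-- If `c ^ 3 = 1` has no fixed vectors, `f` has finite order prime to the characteristic and commutes with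
`c f c⁻¹` then `f` commutes with `c`. -/
theorem commute_of_fixed {c f : End k V} (hc : c ^ 3 = 1) (hfix : ∀ v, c v = v → v = 0) {m : ℕ} (hm : (m : k) ≠ 0)
    (hf : f ^ m = 1) (hcomm : f * (c * f * c ^ 2) = (c * f * c ^ 2) * f) : c * f * c ^ 2 = f := by
  set f1 := c * f * c ^ 2 with h1
  set f2 := c ^ 2 * f * c with h2
  have hc' : c * c ^ 2 = 1 := by rw [← pow_succ', hc]
  have hc'' : c ^ 2 * c = 1 := by rw [← pow_succ, hc]
  have e1 : f1 * c = c * f := by rw [h1, mul_assoc, hc'', mul_one]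
  have e2 : f2 * c = c * f1 := by
    have h5 : c * f1 = c ^ 2 * f * c ^ 2 := by rw [h1, sq]; noncomm_ring
    rw [h5, h2, mul_assoc, ← sq]
  have e0 : f * c = c * f2 := by
    have h5 : c * f2 = (c * c ^ 2) * f * c := by rw [h2]; noncomm_ring
    rw [h5, hc', one_mul]
  -- conjugation by `c` as a ring endomorphism
  have hcj : ∀ a b : End k V, c * (a * b) * c ^ 2 = (c * a * c ^ 2) * (c * b * c ^ 2) := by
    intro a b
    calc c * (a * b) * c ^ 2 = c * a * 1 * b * c ^ 2 := by noncomm_ring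
      _ = c * a * (c ^ 2 * c) * b * c ^ 2 := by rw [hc'']
      _ = _ := by noncomm_ring
  have hcf1 : c * f1 * c ^ 2 = f2 := by
    rw [← e2, mul_assoc, hc', mul_one]
  have hcf2 : c * f2 * c ^ 2 = f := by
    rw [← e0, mul_assoc, hc', mul_one]
  have hcomm12 : f1 * f2 = f2 * f1 := by
    have := congrArg (fun a => c * a * c ^ 2) hcomm
    simp only [hcj] at this
    rw [hcf1, ← h1] at this
    exact this
  have hcomm20 : f2 * f = f * f2 := by
    have := congrArg (fun a => c * a * c ^ 2) hcomm12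
    simp only [hcj] at this
    rw [hcf1, hcf2] at this
    exact this
  have hf1 : f1 ^ m = 1 := by
    have : ∀ n : ℕ, f1 ^ n = c * f ^ n * c ^ 2 := by
      intro n
      induction n with
      | zero => rw [pow_zero, pow_zero, mul_one, hc']
      | succ n ih => rw [pow_succ f1 n, ih, pow_succ f n, hcj]
    rw [this, hf, mul_one, hc']
  have hf2 : f2 ^ m = 1 := by
    have : ∀ n : ℕ, f2 ^ n = c * f1 ^ n * c ^ 2 := by
      intro n
      induction n with
      | zero => rw [pow_zero, pow_zero, mul_one, hc']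
      | succ n ih => rw [pow_succ f2 n, ih, pow_succ f1 n, hcj, hcf1]
    rw [this, hf1, mul_one, hc']
  let F : Fin 3 → End k V := ![f, f1, f2]
  have hFc : ∀ i j, Commute (F i) (F j) := by
    intro i j
    fin_cases i <;> fin_cases j
    · exact Commute.refl _
    · exact hcomm
    · exact hcomm20.symm
    · exact hcomm.symm
    · exact Commute.refl _
    · exact hcomm12
    · exact hcomm20
    · exact hcomm12.symm
    · exact Commute.refl _
  have hFs : ∀ i, (F i).IsFinitelySemisimple := by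
    intro i
    fin_cases i
    · exact (isSemisimple_of_pow _ hm hf).isFinitelySemisimple
    · exact (isSemisimple_of_pow _ hm hf1).isFinitelySemisimple
    · exact (isSemisimple_of_pow _ hm hf2).isFinitelySemisimple
  have htop := iSup_sim hFc hFs
  refine LinearMap.ext fun v => ?_
  have hv : v ∈ ⨆ χ, sim F χ := htop ▸ Submodule.mem_top
  induction hv using Submodule.iSup_induction' with
  | mem χ y hy =>
    rw [mem_sim] at hy
    have y0 : f y = χ 0 • y := hy 0
    have y1 : f1 y = χ 1 • y := hy 1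
    have y2 : f2 y = χ 2 • y := hy 2
    rw [y0, y1]
    by_cases h01 : χ 0 = χ 1
    · rw [h01]
    -- the sum over the orbit of `c`
    have c0 : f (c y) = χ 2 • c y := by
      rw [← End.mul_apply, e0, End.mul_apply, y2, map_smul]
    have c1 : f1 (c y) = χ 0 • c y := by
      rw [← End.mul_apply, e1, End.mul_apply, y0, map_smul]
    have c2 : f2 (c y) = χ 1 • c y := by
      rw [← End.mul_apply, e2, End.mul_apply, y1, map_smul]
    have d0 : f (c (c y)) = χ 1 • c (c y) := by
      rw [← End.mul_apply f c, e0, End.mul_apply, c2, map_smul]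
    have hs : y + c y + c (c y) = 0 := by
      apply hfix
      rw [map_add, map_add]
      have : c (c (c y)) = y := by
        have := LinearMap.congr_fun hc y
        simpa [pow_succ, End.mul_apply] using this
      rw [this]
      abel
    have s1 : (χ 0 - χ 1) • y + (χ 2 - χ 1) • c y = 0 := by
      have h5 := congrArg f hs
      rw [map_add, map_add, map_zero, y0, c0, d0] at h5
      have h6 : (χ 0 - χ 1) • y + (χ 2 - χ 1) • c y =
        (χ 0 • y + χ 2 • c y + χ 1 • c (c y)) - χ 1 • (y + c y + c (c y)) := by module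
      rw [h6, h5, hs, smul_zero, sub_zero]
    have hy0 : y = 0 := by
      by_cases h02 : χ 0 = χ 2
      · have h5 := congrArg f1 s1
        rw [map_add, map_smul, map_smul, map_zero, y1, c1] at h5
        have h6 : ((χ 0 - χ 1) * (χ 1 - χ 0)) • y =
          ((χ 0 - χ 1) • χ 1 • y + (χ 2 - χ 1) • χ 0 • c y) - χ 0 • ((χ 0 - χ 1) • y + (χ 2 - χ 1) • c y) := by
          module
        rw [h5, s1, smul_zero, sub_zero] at h6
        rcases smul_eq_zero.1 h6 with h7 | h7
        · exact absurd h7 (mul_ne_zero (sub_ne_zero.2 h01) (sub_ne_zero.2 (Ne.symm h01)))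
        · exact h7
      · have h5 := congrArg f s1
        rw [map_add, map_smul, map_smul, map_zero, y0, c0] at h5
        have h6 : ((χ 0 - χ 1) * (χ 0 - χ 2)) • y =
          ((χ 0 - χ 1) • χ 0 • y + (χ 2 - χ 1) • χ 2 • c y) - χ 2 • ((χ 0 - χ 1) • y + (χ 2 - χ 1) • c y) := by
          module
        rw [h5, s1, smul_zero, sub_zero] at h6
        rcases smul_eq_zero.1 h6 with h7 | h7
        · exact absurd h7 (mul_ne_zero (sub_ne_zero.2 h01) (sub_ne_zero.2 h02))
        · exact h7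
    rw [hy0, smul_zero, smul_zero]
  | zero => rw [map_zero, map_zero]
  | add x y _ _ hx hy => rw [map_add, map_add, hx, hy]

end

section

variable {k Y : Type*} [Field k] [IsAlgClosed k] [AddCommGroup Y] [Module k Y] [FiniteDimensional k Y]
variable {L A : Type*} [Group L] [Finite L] [Group A]

theorem kill (ψ : L →* A) (hk : ¬ 3 ∣ Nat.card ψ.ker) (σ : Representation k L Y) (h2 : (2 : k) ≠ 0)
    (Q : Subgroup A) (hQ : IsPGroup 2 Q) (hQr : Q ≤ ψ.range) {d : A} (hd : ∀ q : A, q ∈ Q ↔ d * q * d⁻¹ ∈ Q)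
    {c : L} (hc3 : c ^ 3 = 1) (hcd : ψ c = d) (hfix : ∀ y, σ c y = y → y = 0) {q : A} (hq : q ∈ Q)
    (hcomm : ∀ s s' : L, IsPGroup 2 (Subgroup.closure {s, s'}) → ψ s = q → ψ s' = d * q * d⁻¹ →
      σ (s * s') = σ (s' * s)) : ∃ r, ψ r = d * q * d⁻¹ * q⁻¹ ∧ σ r = 1 := by
  have : Fact (Nat.Prime 3) := ⟨by norm_num⟩
  have : Fact (Nat.Prime 2) := ⟨by norm_num⟩
  have hQ' : IsPGroup 2 (Q.subgroupOf ψ.range) := hQ.comap_subtype
  obtain ⟨S, hS, hSm, hSn⟩ := Cfsg.Agent.H190.frattini_section ψ.rangeRestrict ψ.rangeRestrict_surjective 2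
    (Q.subgroupOf ψ.range) hQ'
  obtain ⟨h, hh, hhS⟩ := hSn ⟨d, ⟨c, hcd⟩⟩ (fun q => hd q)
  have hh' : ψ h = d := congrArg Subtype.val hh
  have hd3 : d ^ 3 = 1 := by rw [← hcd, ← map_pow, hc3, map_one]
  set n := Nat.card ψ.ker with hn
  have h3n : h ^ (3 * n) = 1 := by
    have h5 : (⟨h ^ 3, by rw [MonoidHom.mem_ker, map_pow, hh', hd3]⟩ : ψ.ker) ^ n = 1 := pow_card_eq_one'
    have := congrArg Subtype.val h5
    rw [pow_mul]
    exact this
  have hn1 : n * n % 3 = 1 := by
    have h5 : n % 3 ≠ 0 := fun h5 => hk (Nat.dvd_of_mod_eq_zero h5)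
    have h6 : n % 3 = 1 ∨ n % 3 = 2 := by omega
    rcases h6 with h6 | h6 <;> rw [Nat.mul_mod, h6]
  set c' := h ^ (n * n) with hc'
  have hc'3 : c' ^ 3 = 1 := by
    rw [hc', ← pow_mul]
    have : n * n * 3 = 3 * n * n := by ring
    rw [this, pow_mul, h3n, one_pow]
  have hψc' : ψ c' = d := by
    rw [hc', map_pow, hh', ← Nat.div_add_mod (n * n) 3, hn1, pow_add, pow_mul, hd3, one_pow, one_mul, pow_one]
  have hc'S : ∀ s ∈ S, c' * s * c'⁻¹ ∈ S := by
    have : ∀ m : ℕ, ∀ s ∈ S, h ^ m * s * (h ^ m)⁻¹ ∈ S := by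
      intro m
      induction m with
      | zero => intro s hs; simpa using hs
      | succ m ih =>
        intro s hs
        have e : h ^ (m + 1) * s * (h ^ (m + 1))⁻¹ = h * (h ^ m * s * (h ^ m)⁻¹) * h⁻¹ := by
          rw [pow_succ']; group
        rw [e]
        exact (hhS _).1 (ih s hs)
    exact this _
  obtain ⟨u, hu1, hu2⟩ := conj_family ψ hk (ι := Unit) (c := fun _ => c') (c' := fun _ => c)
    (fun _ _ => rfl) (fun _ => hc'3) (fun _ _ => rfl) (fun _ => hc3) (fun _ => by rw [hψc', hcd])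
  have hu2' : u * c' * u⁻¹ = c := hu2 ()
  -- an element over `q`
  have hqm : (⟨q, hQr hq⟩ : ψ.range) ∈ S.map ψ.rangeRestrict := by rw [hSm]; exact hq
  obtain ⟨s0, hs0, hs0q⟩ := hqm
  have hs0q' : ψ s0 = q := congrArg Subtype.val hs0q
  set s := u * s0 * u⁻¹ with hs
  have hψs : ψ s = q := by rw [hs, map_mul, map_mul, map_inv, hu1, hs0q']; simp
  have hcs : c * s * c⁻¹ = u * (c' * s0 * c'⁻¹) * u⁻¹ := by rw [← hu2', hs]; group
  let S' : Subgroup L := S.map (MulAut.conj u).toMonoidHom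
  have hS' : IsPGroup 2 S' := hS.map _
  have hsS' : s ∈ S' := ⟨s0, hs0, rfl⟩
  have hcsS' : c * s * c⁻¹ ∈ S' := by rw [hcs]; exact ⟨_, hc'S s0 hs0, rfl⟩
  have hcl : Subgroup.closure {s, c * s * c⁻¹} ≤ S' := by
    rw [Subgroup.closure_le]
    rintro x (rfl | rfl)
    · exact hsS'
    · exact hcsS'
  have hc2 := hcomm s (c * s * c⁻¹) (hS'.to_le hcl) hψs (by rw [map_mul, map_mul, map_inv, hψs, hcd])
  obtain ⟨m, hm⟩ := hS' ⟨s, hsS'⟩
  have hm' : s ^ 2 ^ m = 1 := congrArg Subtype.val hm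
  have hcinv : c⁻¹ = c ^ 2 := by
    rw [inv_eq_iff_mul_eq_one, ← pow_succ', hc3]
  have h7 := commute_of_fixed (c := σ c) (f := σ s) (by rw [← map_pow, hc3, map_one]) hfix (m := 2 ^ m)
    (by push_cast; exact pow_ne_zero _ h2) (by rw [← map_pow, hm', map_one]) (by
      rw [← map_pow, ← map_mul, ← map_mul, ← map_mul, ← map_mul, ← hcinv]
      exact hc2)
  rw [← map_pow, ← map_mul, ← map_mul, ← hcinv] at h7
  refine ⟨c * s * c⁻¹ * s⁻¹, by rw [map_mul, map_mul, map_mul, map_inv, map_inv, hψs, hcd], ?_⟩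
  rw [map_mul, h7, ← map_mul, mul_inv_cancel, map_one]

omit [IsAlgClosed k] [FiniteDimensional k Y] in
/-- if an element with image `t` acts trivially then so does every element of order three with image `t`. -/
theorem kill_three (ψ : L →* A) (hk : ¬ 3 ∣ Nat.card ψ.ker) (σ : Representation k L Y) {r c : L} (hr : σ r = 1)
    (hc : c ^ 3 = 1) (h : ψ r = ψ c) : σ c = 1 := by
  have h1 : ψ (r⁻¹ * c) = 1 := by rw [map_mul, map_inv, h, inv_mul_cancel]
  have h2 : (⟨r⁻¹ * c, h1⟩ : ψ.ker) ^ Nat.card ψ.ker = 1 := pow_card_eq_one'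
  have h3 : (r⁻¹ * c) ^ Nat.card ψ.ker = 1 := congrArg Subtype.val h2
  have h4 : σ (r⁻¹ * c) = σ c := by
    have h5 : σ (r * (r⁻¹ * c)) = σ r * σ (r⁻¹ * c) := map_mul _ _ _
    rw [hr, one_mul, mul_inv_cancel_left] at h5
    exact h5.symm
  have h5 : σ c ^ Nat.card ψ.ker = 1 := by rw [← h4, ← map_pow, h3, map_one]
  have h6 : σ c ^ 3 = 1 := by rw [← map_pow, hc, map_one]
  have h7 : Nat.gcd 3 (Nat.card ψ.ker) = 1 := (Nat.Prime.coprime_iff_not_dvd (by norm_num)).2 hk
  have h8 : orderOf (σ c) ∣ 1 := by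
    rw [← h7]
    exact Nat.dvd_gcd (orderOf_dvd_of_pow_eq_one h6) (orderOf_dvd_of_pow_eq_one h5)
  exact orderOf_eq_one_iff.1 (Nat.dvd_one.1 h8)

end

end Cfsg.Agent.H191.Kill
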