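import Cfsg.Agent.H191.PermLemma
import Cfsg.Agent.S0892

/-!
# Minimal covers of the alternating group of degree 12
-/

set_option autoImplicit false

namespace Cfsg.Agent.H191.MinCover

open Cfsg.Agent.H191.AltTab

/-- `φ` is onto, and no proper subgroup maps onto the target. -/
structure MinCov {H A : Type*} [Group H] [Group A] (φ : H →* A) : Prop where
  surj : Function.Surjective φ
  min : ∀ S : Subgroup H, S.map φ = ⊤ → S = ⊤

theorem exists_minCov {G A : Type*} [Group G] [Finite G] [Group A] (φ : G →* A) (hφ : Function.Surjective φ) :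
    ∃ S : Subgroup G, MinCov (φ.comp S.subtype) := by
  have hne : ({S : Subgroup G | S.map φ = ⊤} : Set (Subgroup G)).Nonempty :=
    ⟨⊤, by
      show Subgroup.map φ ⊤ = ⊤
      rw [← MonoidHom.range_eq_map]; exact MonoidHom.range_eq_top.2 hφ⟩
  obtain ⟨S, hS, hmin⟩ := (wellFounded_lt (α := Subgroup G)).has_min _ hne
  refine ⟨S, ?_, ?_⟩
  · intro a
    have : a ∈ S.map φ := by rw [hS]; trivial
    obtain ⟨s, hs, rfl⟩ := this
    exact ⟨⟨s, hs⟩, rfl⟩
  · intro T hT
    have h1 : (T.map S.subtype).map φ = ⊤ := by rw [Subgroup.map_map]; exact hT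
    have h2 : T.map S.subtype ≤ S := by
      rintro _ ⟨x, _, rfl⟩; exact x.2
    have h3 : T.map S.subtype = S := by
      by_contra h
      exact hmin _ h1 (lt_of_le_of_ne h2 h)
    rw [eq_top_iff]
    rintro ⟨x, hx⟩ -
    have : x ∈ T.map S.subtype := by rw [h3]; exact hx
    obtain ⟨y, hy, hyx⟩ := this
    have : y = ⟨x, hx⟩ := Subtype.ext hyx
    rwa [← this]

section

variable {H A : Type*} [Group H] [Group A] {φ : H →* A} (M : MinCov φ)

include M

theorem eq_top_of_sup {S : Subgroup H} (h : φ.ker ⊔ S = ⊤) : S = ⊤ := by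
  apply M.min
  rw [eq_top_iff]
  rintro a -
  obtain ⟨x, rfl⟩ := M.surj a
  have hx : x ∈ φ.ker ⊔ S := by rw [h]; trivial
  obtain ⟨k, hk, s, hs, rfl⟩ := Subgroup.mem_sup_of_normal_left.1 hx
  refine ⟨s, hs, ?_⟩
  rw [map_mul, (MonoidHom.mem_ker).1 hk, one_mul]

theorem ker_le_frattini : φ.ker ≤ frattini H := by
  unfold frattini Order.radical
  refine le_iInf₂ fun S hS => ?_
  by_contra h
  have h1 : φ.ker ⊔ S = ⊤ := by
    apply hS.2
    refine lt_of_le_of_ne le_sup_right ?_
    intro h2
    exact h (h2 ▸ le_sup_left)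
  exact hS.1 (eq_top_of_sup M h1)

theorem ker_nilpotent [Finite H] : Group.IsNilpotent φ.ker := by
  have h1 := frattini_nilpotent (G := H)
  have h2 : Group.IsNilpotent (φ.ker.subgroupOf (frattini H)) := inferInstance
  exact Group.nilpotent_of_mulEquiv (Subgroup.subgroupOfEquivOfLe (ker_le_frattini M))

theorem eq_top_or [IsSimpleGroup A] (N : Subgroup H) [hN : N.Normal] : N = ⊤ ∨ N ≤ φ.ker := by
  have h1 : (N.map φ).Normal := hN.map φ M.surj
  rcases h1.eq_bot_or_eq_top with h | h
  · right
    rw [Subgroup.map_eq_bot_iff] at h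
    exact h
  · left
    exact M.min _ h

theorem perfect (hA : commutator A = ⊤) : commutator H = ⊤ := by
  apply M.min
  rw [commutator_def, Subgroup.map_commutator, ← MonoidHom.range_eq_map, MonoidHom.range_eq_top.2 M.surj,
    ← commutator_def, hA]

end

instance : IsSimpleGroup A12 := alternatingGroup.isSimpleGroup (by simp)

theorem commutator_A12 : commutator A12 = ⊤ :=
  commutator_alternatingGroup_eq_top (by simp)

theorem card_A12 : Nat.card A12 = 239500800 := by
  have : Nontrivial (Fin 12) := inferInstance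
  rw [nat_card_alternatingGroup]
  simp
  rfl

end Cfsg.Agent.H191.MinCover
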