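import Cfsg.Agent.H191.AltT

/-!
# Subgroups of `A_12` of index at most 27 and 3-cycles
-/

set_option autoImplicit false

namespace Cfsg.Agent.H191.PermLemma

open Module Cfsg.Agent.H191.Lin Cfsg.Agent.H191.ConjFam Cfsg.Agent.H191.AltTab Cfsg.Agent.H191.AltT

/-- lifting the four 3-cycles to commuting elements of order three -/
theorem exists_c {H : Type*} [Group H] [Finite H] {φ : H →* A12} (hφ : Function.Surjective φ)
    (hk : ¬ 3 ∣ Nat.card φ.ker) :
    ∃ c : Fin 4 → H, (∀ i j, c i * c j = c j * c i) ∧ (∀ i, c i ^ 3 = 1) ∧ ∀ i, φ (c i) = t i := by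
  have : Fact (Nat.Prime 3) := hfact3
  have hQ : IsPGroup 3 (Subgroup.closure (Set.range t)) := isPGroup_closure t_comm t_cube
  obtain ⟨S, hS, hSm, -⟩ := Cfsg.Agent.H190.frattini_section φ hφ 3 (Subgroup.closure (Set.range t)) hQ
  have h1 : ∀ i, ∃ s ∈ S, φ s = t i := by
    intro i
    have : t i ∈ S.map φ := by rw [hSm]; exact Subgroup.subset_closure ⟨i, rfl⟩
    exact this
  choose c hcS hcφ using h1
  refine ⟨c, fun i j => ?_, fun i => ?_, hcφ⟩
  · apply inj_on φ hk hS (S.mul_mem (hcS _) (hcS _)) (S.mul_mem (hcS _) (hcS _))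
    rw [map_mul, map_mul, hcφ, hcφ, t_comm]
  · apply inj_on φ hk hS (S.pow_mem (hcS _) _) S.one_mem
    rw [map_pow, hcφ, t_cube, map_one]

/-- the trivial cover -/
theorem cov_id : Cov (MonoidHom.id A12) ⊥ ⊥ where
  surj := Function.surjective_id
  nor := inferInstance
  odd := by rintro x hx; exact ⟨1, odd_one, by rw [Subgroup.mem_bot.1 hx, one_pow]⟩
  kP := by rintro x hx; rw [Subgroup.mem_bot.1 hx]; rfl
  cZ := by rintro z hz g; rw [Subgroup.mem_bot.1 hz, one_mul, mul_one]
  eZ := by rintro z hz; rw [Subgroup.mem_bot.1 hz, one_mul]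
  kZ := by rintro x hx; rw [Subgroup.mem_bot.1 hx]; rfl
  dec := by
    intro x hx
    refine ⟨1, Subgroup.one_mem _, ?_⟩
    have : x = 1 := hx
    rw [this]; simp
  k3 := by
    have : (MonoidHom.id A12).ker = ⊥ := by
      ext x; simp [Subgroup.mem_bot]
    rw [this, Subgroup.card_bot]
    norm_num

/-- **If the subgroup `B` of `A_12` has index at most 27 then it contains all but one of four disjoint 3-cycles.** -/
theorem perm_lemma (B : Subgroup A12) (hB : B.index ≤ 27) {i j : Fin 4} (hij : i ≠ j) (hj : t j ∉ B) : t i ∈ B := by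
  classical
  have hp : Fact (Nat.Prime 5) := ⟨by norm_num⟩
  let k := AlgebraicClosure (ZMod 5)
  have : CharP k 5 := inferInstance
  have h3 : (3 : k) ≠ 0 := three_ne (p := 5) le_rfl
  have h2 : (2 : k) ≠ 0 := two_ne (p := 5) le_rfl
  obtain ⟨ω, hω⟩ : ∃ ω : k, ω ^ 2 + ω + 1 = 0 := by
    have h := IsAlgClosed.exists_root (Polynomial.X ^ 2 + Polynomial.X + 1 : Polynomial k) (by
      have : (Polynomial.X ^ 2 + Polynomial.X + 1 : Polynomial k).degree = 2 := by compute_degree!
      rw [this]; norm_num)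
    obtain ⟨ω, h⟩ := h
    refine ⟨ω, ?_⟩
    simpa [Polynomial.IsRoot] using h
  have hω1 : ω ≠ 1 := by
    rintro rfl
    apply h3
    linear_combination hω
  have hω3 : ω ^ 3 = 1 := by linear_combination (ω - 1) * hω
  let ρ : Representation k A12 ((A12 ⧸ B) → k) :=
    { toFun := fun g => LinearMap.funLeft k k (fun y => g⁻¹ • y)
      map_one' := by
        refine LinearMap.ext fun f => funext fun y => ?_
        show f ((1 : A12)⁻¹ • y) = f y
        rw [inv_one, one_smul]
      map_mul' := fun g h => by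
        refine LinearMap.ext fun f => funext fun y => ?_
        show f ((g * h)⁻¹ • y) = f (h⁻¹ • g⁻¹ • y)
        rw [mul_inv_rev, mul_smul] }
  have hfin : Fintype (A12 ⧸ B) := Fintype.ofFinite _
  have hd : finrank k ((A12 ⧸ B) → k) ≤ 27 := by
    rw [Module.finrank_fintype_fun_eq_card, ← Nat.card_eq_fintype_card]
    exact hB
  let y : A12 ⧸ B := ((1 : A12) : A12 ⧸ B)
  have hy : ∀ x : A12, x⁻¹ • y = y ↔ x ∈ B := by
    intro x
    show ((x⁻¹ * 1 : A12) : A12 ⧸ B) = ((1 : A12) : A12 ⧸ B) ↔ _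
    rw [QuotientGroup.eq]
    simp
  have h5 := AltT.main cov_id ρ t_comm t_cube (fun _ => rfl) hω1 hω3 le_rfl hd hij (Pi.single y 1)
  have h6 := congrFun h5 y
  have h7 : (Pi.single y 1 : (A12 ⧸ B) → k) ((t j)⁻¹ • (t i)⁻¹ • y) - (Pi.single y 1 : (A12 ⧸ B) → k) ((t i)⁻¹ • y) =
    (Pi.single y 1 : (A12 ⧸ B) → k) ((t j)⁻¹ • y) - (Pi.single y 1 : (A12 ⧸ B) → k) y := h6
  have e1 : (t j)⁻¹ • y ≠ y := fun h => hj ((hy _).1 h)
  rw [Pi.single_eq_of_ne e1, Pi.single_eq_same, zero_sub] at h7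
  by_contra hi
  have e2 : (t i)⁻¹ • y ≠ y := fun h => hi ((hy _).1 h)
  rw [Pi.single_eq_of_ne e2, sub_zero, Pi.single_apply] at h7
  split at h7
  · apply h2
    linear_combination h7
  · have : (1 : k) = 0 := by linear_combination h7
    exact one_ne_zero this

end Cfsg.Agent.H191.PermLemma
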