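import Cfsg.Agent.H191.CrossMain
import Cfsg.Agent.H658.Reg.SubA

/-!
# A linear character fixed by a torus of `PSL(2, F)` but not by `PSL(2, F)` (for helper658, S4920)
-/

set_option autoImplicit false
set_option linter.unusedSectionVars false
open Cfsg

namespace Cfsg.Agent.H191.TorFix

open Cfsg.Agent.Characters.Core
open Cfsg.Agent.H672
open Cfsg.Agent.H191.Cross
open scoped BigOperators

universe u v w

/-- If every element of `M` fixed by the torus `C` is fixed by `S`, then the root group acts trivially. -/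
theorem root_trivial {S : Type u} [Group S] {M : Type v} [CommGroup M] [Finite M] (ψ : S →* MulAut M)
    {F : Type w} [Field F] [Fintype F] (Xr : F → S) (hX : ∀ r s, Xr (r + s) = Xr r * Xr s)
    (C : Subgroup S) [Finite C] (hC : ∀ c ∈ C, c ≠ 1 → ∃ u : F, u ≠ 1 ∧ ∀ r, c * Xr r * c⁻¹ = Xr (u * r))
    (hM : Nat.Coprime (Fintype.card F) (Nat.card M))
    (hfix : ∀ m : M, (∀ c ∈ C, ψ c m = m) → ∀ s : S, ψ s m = m) (r : F) (m : M) : ψ (Xr r) m = m := by
  classical
  let _ := Fintype.ofFinite C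
  have hX0 : Xr 0 = 1 := by
    have h := hX 0 0
    rw [add_zero] at h
    exact left_eq_mul.1 h
  have hXn : ∀ s, Xr (-s) = (Xr s)⁻¹ := by
    intro s
    rw [eq_inv_iff_mul_eq_one, ← hX, neg_add_cancel, hX0]
  -- the two norms
  let N : M → M := fun m => ∏ c : C, ψ (c : S) m
  let U : M → M := fun m => ∏ s : F, ψ (Xr s) m
  have hNmul : ∀ a b, N (a * b) = N a * N b := by
    intro a b
    show ∏ c : C, ψ (c : S) (a * b) = (∏ c : C, ψ (c : S) a) * ∏ c : C, ψ (c : S) b
    rw [← Finset.prod_mul_distrib]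
    exact Finset.prod_congr rfl fun c _ => map_mul _ _ _
  have hN : ∀ m : M, ∀ s : S, ψ s (N m) = N m := by
    intro m
    apply hfix
    intro c hc
    show ψ c (∏ d : C, ψ (d : S) m) = ∏ d : C, ψ (d : S) m
    rw [map_prod]
    refine Fintype.prod_equiv (Equiv.mulLeft (⟨c, hc⟩ : C)) _ _ ?_
    intro d
    show ψ c (ψ (d : S) m) = ψ (c * (d : S)) m
    rw [map_mul]
    rfl
  have hU : ∀ m : M, ∀ r : F, ψ (Xr r) (U m) = U m := by
    intro m r
    show ψ (Xr r) (∏ s : F, ψ (Xr s) m) = ∏ s : F, ψ (Xr s) m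
    rw [map_prod]
    refine Fintype.prod_equiv (Equiv.addLeft r) _ _ ?_
    intro s
    show ψ (Xr r) (ψ (Xr s) m) = ψ (Xr (r + s)) m
    rw [hX, map_mul]
    rfl
  -- `X s c X(-s) = X (s (1 - u)) c`
  have hsum : ∀ c ∈ C, c ≠ 1 → ∏ s : F, ψ (Xr s) (ψ c (ψ (Xr (-s)) m)) = U (ψ c m) := by
    intro c hc hc1
    obtain ⟨u, hu, huX⟩ := hC c hc hc1
    have h1u : (1 - u) ≠ 0 := sub_ne_zero.2 (Ne.symm hu)
    refine Fintype.prod_equiv (Equiv.mulRight₀ (1 - u) h1u) _ _ ?_
    intro s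
    show ψ (Xr s) (ψ c (ψ (Xr (-s)) m)) = ψ (Xr (s * (1 - u))) (ψ c m)
    have h1 : c * Xr (-s) = Xr (u * -s) * c := mul_inv_eq_iff_eq_mul.1 (huX (-s))
    have h2 : Xr s * (c * Xr (-s)) = Xr (s * (1 - u)) * c := by
      rw [h1, ← mul_assoc, ← hX]
      congr 2
      ring
    calc ψ (Xr s) (ψ c (ψ (Xr (-s)) m)) = ψ (Xr s * (c * Xr (-s))) m := by rw [map_mul, map_mul]; rfl
      _ = ψ (Xr (s * (1 - u))) (ψ c m) := by rw [h2, map_mul]; rfl
  have hsum1 : ∏ s : F, ψ (Xr s) (ψ (1 : S) (ψ (Xr (-s)) m)) = m ^ Fintype.card F := by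
    have h1 : ∀ s : F, ψ (Xr s) (ψ (1 : S) (ψ (Xr (-s)) m)) = m := by
      intro s
      calc ψ (Xr s) (ψ (1 : S) (ψ (Xr (-s)) m)) = ψ (Xr s * (1 * Xr (-s))) m := by rw [map_mul, map_mul]; rfl
        _ = m := by rw [one_mul, hXn, mul_inv_cancel, map_one]; rfl
    rw [Finset.prod_congr rfl fun s _ => h1 s, Finset.prod_const, Finset.card_univ]
  have hUmul : ∀ a b, U (a * b) = U a * U b := by
    intro a b
    show ∏ s : F, ψ (Xr s) (a * b) = (∏ s : F, ψ (Xr s) a) * ∏ s : F, ψ (Xr s) b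
    rw [← Finset.prod_mul_distrib]
    exact Finset.prod_congr rfl fun c _ => map_mul _ _ _
  let Uh : M →* M := { toFun := U, map_one' := by show ∏ s : F, ψ (Xr s) 1 = 1; simp, map_mul' := hUmul }
  let Nh : M →* M := { toFun := N, map_one' := by show ∏ s : C, ψ (s : S) 1 = 1; simp, map_mul' := hNmul }
  have key : m ^ Fintype.card F * U (N m) = N (U m) * U m := by
    -- the double product
    have e1 : ∏ s : F, ψ (Xr s) (N (ψ (Xr (-s)) m)) = N (U m) := by
      have h1 : ∀ s : F, ψ (Xr s) (N (ψ (Xr (-s)) m)) = N (ψ (Xr (-s)) m) := fun s => hN _ _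
      rw [Finset.prod_congr rfl fun s _ => h1 s]
      show ∏ s : F, Nh (ψ (Xr (-s)) m) = Nh (∏ s : F, ψ (Xr s) m)
      rw [map_prod]
      exact Fintype.prod_equiv (Equiv.neg F) _ _ fun s => rfl
    have e2 : ∏ s : F, ψ (Xr s) (N (ψ (Xr (-s)) m)) =
        ∏ c : C, ∏ s : F, ψ (Xr s) (ψ (c : S) (ψ (Xr (-s)) m)) := by
      rw [Finset.prod_comm]
      refine Finset.prod_congr rfl fun s _ => ?_
      show ψ (Xr s) (∏ c : C, ψ (c : S) (ψ (Xr (-s)) m)) = _
      rw [map_prod]
    have e3 : ∏ c : C, ∏ s : F, ψ (Xr s) (ψ (c : S) (ψ (Xr (-s)) m)) =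
        m ^ Fintype.card F * ∏ c ∈ (Finset.univ : Finset C).erase 1, U (ψ (c : S) m) := by
      rw [← Finset.mul_prod_erase _ _ (Finset.mem_univ (1 : C))]
      congr 1
      refine Finset.prod_congr rfl fun c hc => ?_
      refine hsum c c.2 ?_
      intro h
      exact (Finset.mem_erase.1 hc).1 (Subtype.ext h)
    have e4 : (∏ c ∈ (Finset.univ : Finset C).erase 1, U (ψ (c : S) m)) * U m = U (N m) := by
      have h1 : U m = U (ψ ((1 : C) : S) m) := by
        rw [show ((1 : C) : S) = 1 from rfl, map_one]; rfl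
      rw [h1, Finset.prod_erase_mul _ _ (Finset.mem_univ (1 : C))]
      show ∏ c : C, Uh (ψ (c : S) m) = Uh (∏ c : C, ψ (c : S) m)
      rw [map_prod]
    rw [← e4, ← mul_assoc, ← e3, ← e2, e1]
  -- `m ^ q` is fixed by the root group
  have hq : ψ (Xr r) (m ^ Fintype.card F) = m ^ Fintype.card F := by
    have h1 : m ^ Fintype.card F = N (U m) * U m * (U (N m))⁻¹ := by
      rw [← key, mul_inv_cancel_right]
    rw [h1, map_mul, map_mul, map_inv, hN, hU, hU]
  -- `m` is a power of `m ^ q`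
  obtain ⟨k, hk⟩ := exists_pow_eq_self_of_coprime (x := m) (n := Fintype.card F)
    (hM.coprime_dvd_right (orderOf_dvd_natCard m))
  rw [← hk, map_pow, hq]

/-- **A linear character fixed by the torus and not by the group.** -/
theorem exists_torus_fixed {X : Type u} [Group X] [Finite X] (W : Subgroup X) [W.Normal]
    (hWc : ∀ x ∈ W, ∀ y ∈ W, x * y = y * x) {F : Type} [Field F] [Fintype F] (p : ℕ) [Fact p.Prime] [CharP F p]
    (h4 : 4 ≤ Fintype.card F) (π : X →* P2 F) (hπ : Function.Surjective π) (hker : π.ker = W)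
    (hpW : ¬ p ∣ Nat.card W) (hWz : ¬ W ≤ Subgroup.center X) (D : H525.L2.Fr (P2 F) F) :
    ∃ l : W →* ℂˣ, (inertia W (lf l)).map π ≠ ⊤ ∧ ∀ a : Fˣ, D.T a ∈ (inertia W (lf l)).map π := by
  classical
  by_contra hcon
  push Not at hcon
  have hWcom : ∀ v w : W, v * w = w * v := fun v w => Subtype.ext (hWc v v.2 w w.2)
  have hcard := card_lin hWcom
  have hfin : Finite (W →* ℂˣ) := by
    apply Nat.finite_of_card_ne_zero
    rw [hcard]
    exact Nat.card_pos.ne'
  let _ := act W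
  -- the action of the quotient
  let α : X →* MulAut (W →* ℂˣ) := MulDistribMulAction.toMulAut X (W →* ℂˣ)
  have hα : ∀ x l, α x l = x • l := fun _ _ => rfl
  have hkα : π.ker ≤ α.ker := by
    intro x hx
    rw [hker] at hx
    rw [MonoidHom.mem_ker]
    apply MulEquiv.ext
    intro l
    show x • l = l
    rw [act_eq_iff]
    exact le_inertia' W hWc l hx
  let ψ : P2 F →* MulAut (W →* ℂˣ) := π.liftOfSurjective hπ ⟨α, hkα⟩
  have hψ : ∀ x : X, ψ (π x) = α x := fun x =>
    MonoidHom.liftOfRightInverse_comp_apply π _ (Function.rightInverse_surjInv hπ) ⟨α, hkα⟩ x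
  have hmem : ∀ (x : X) (l : W →* ℂˣ), ψ (π x) l = l ↔ π x ∈ (inertia W (lf l)).map π := by
    intro x l
    rw [hψ, hα, act_eq_iff, mem_map_iff W π hWc hker l]
  let Tm : Fˣ →* P2 F :=
    { toFun := D.T
      map_one' := H658.Reg.T_one D
      map_mul' := H658.Reg.T_mul D }
  have hp : p.Prime := Fact.out
  obtain ⟨n, -, hq⟩ := FiniteField.card F p
  have key : ∀ (r : F) (m : W →* ℂˣ), ψ (D.X r) m = m := by
    refine root_trivial (M := W →* ℂˣ) ψ D.X D.X_add Tm.range ?_ ?_ ?_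
    · rintro _ ⟨a, rfl⟩ ha
      refine ⟨(a : F) ^ 2, ?_, fun r => D.T_X a r⟩
      intro h
      apply ha
      exact H658.Reg.T_eq_one D (Units.ext (by rw [Units.val_pow_eq_pow_val, h, Units.val_one]))
    · rw [hcard, hq]
      exact Nat.Coprime.pow_left _ ((Nat.Prime.coprime_iff_not_dvd hp).2 hpW)
    · intro l hl s
      obtain ⟨x, rfl⟩ := hπ s
      rw [hmem]
      by_cases htop : (inertia W (lf l)).map π = ⊤
      · rw [htop]; trivial
      · exfalso
        obtain ⟨a, ha⟩ := hcon l htop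
        obtain ⟨y, hy⟩ := hπ (D.T a)
        rw [← hy] at ha
        apply ha
        rw [← hmem, hy]
        exact hl _ ⟨a, rfl⟩
  -- the kernel of the action
  have hsimp : IsSimpleGroup (P2 F) :=
    Matrix.ProjectiveSpecialLinearGroup.rank_two_simple (by rw [Nat.card_eq_fintype_card]; exact h4)
  have hker1 : ψ.ker = ⊤ := by
    rcases (inferInstance : ψ.ker.Normal).eq_bot_or_eq_top with h | h
    · exfalso
      have h1 : D.X 1 ∈ ψ.ker := by
        rw [MonoidHom.mem_ker]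
        apply MulEquiv.ext
        intro l
        exact key 1 l
      rw [h, Subgroup.mem_bot] at h1
      exact one_ne_zero (D.X_eq_one h1)
    · exact h
  apply hWz
  intro w hw
  rw [Subgroup.mem_center_iff]
  intro g
  by_contra hne
  have hne1 : (⟨w, hw⟩ : W)⁻¹ * MulAut.conjNormal g ⟨w, hw⟩ ≠ 1 := by
    intro h
    apply hne
    rw [inv_mul_eq_one] at h
    have h1 : w = g * w * g⁻¹ := congrArg Subtype.val h
    exact (mul_inv_eq_iff_eq_mul.1 h1.symm)
  obtain ⟨l, hl⟩ := exists_lin hWcom hne1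
  apply hl
  have h2 : g ∈ inertia W (lf l) := by
    rw [← act_eq_iff, ← hα, ← hψ]
    have h3 : π g ∈ ψ.ker := by rw [hker1]; trivial
    rw [(MonoidHom.mem_ker).1 h3]
    rfl
  rw [map_mul, map_inv, (mem_inertia_lf W).1 h2, inv_mul_cancel]

end Cfsg.Agent.H191.TorFix
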