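import Cfsg.Agent.H509.WeakBlock
import Cfsg.Agent.H52.FourTool

/-!
# Classes of elements of order five that are not nilpotent modulo two (helper191, for S4095)

`exists_nn` : the element of `H52.FourTool.loc_of`: a subgroup `V` with `C(V)/V` a group with split (B,N)-pair;
`FactB.of_inner` : `FactB` from one such element when the automorphisms are inner.
-/

set_option autoImplicit false

namespace Cfsg.Agent.H191.WeakNN

open Cfsg Subgroup
open Cfsg.Agent.Characters.Core
open Cfsg.Agent.Blocks Cfsg.Agent.Blocks.LocalRing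
open Cfsg.Agent.H652.Four Cfsg.Agent.H52.FourTool

universe u v

theorem exists_nn {G : Type u} [Group G] [Finite G] {V : Subgroup G} (hV : IsPGroup 2 V)
    (hVC : V ≤ centralizer (V : Set G))
    {H : Type v} [Group H] [Finite H] (φ : centralizer (V : Set G) →* H)
    (hφ : Function.Surjective φ) (hker : ∀ g, φ g = 1 → (g : G) ∈ V)
    (hs : FixBN.HasSplit 2 H) (h5 : 5 ∣ Nat.card H) (h25 : ¬ 5 ^ 2 ∣ Nat.card H) {j : ℕ} (hj : ¬ 2 ∣ j)
    (hj5 : (64 * j) % 5 = 4)
    (hy : ∀ y : H, orderOf y = 5 → (centralizer ({y} : Set H)).index = 64 * j ∧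
      Nat.card (centralizer ({y} : Set H)) ≤ 16 ∧ ¬ 2 ∣ Nat.card (centralizer ({y} : Set H))) :
    ∃ x : G, orderOf x = 5 ∧ x ∈ centralizer (V : Set G) ∧ ∀ M : Ideal AlgInt, IsPModular 2 M → NN M (cl x) := by
  classical
  have hF5 : Fact (Nat.Prime 5) := ⟨by norm_num⟩
  have hkc : φ.ker ≤ center _ := by
    intro g hg
    have hgV := hker g (MonoidHom.mem_ker.1 hg)
    rw [Subgroup.mem_center_iff]
    intro h
    exact Subtype.ext (mem_centralizer_iff.1 h.2 g hgV).symm
  have hkp : IsPGroup 2 φ.ker := by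
    rintro ⟨g, hg⟩
    obtain ⟨k, hk⟩ := hV ⟨g, hker g (MonoidHom.mem_ker.1 hg)⟩
    refine ⟨k, ?_⟩
    apply Subtype.ext
    apply Subtype.ext
    simpa using congrArg Subtype.val hk
  obtain ⟨y, hyo⟩ := exists_prime_orderOf_dvd_card' 5 h5
  obtain ⟨x0, hx0⟩ := hφ y
  have h1 : x0 ^ 5 ∈ φ.ker := by
    rw [MonoidHom.mem_ker, map_pow, hx0, ← hyo, pow_orderOf_eq_one]
  obtain ⟨k, hk⟩ := hkp ⟨_, h1⟩
  have hk' : (x0 ^ 5) ^ 2 ^ k = 1 := by simpa using congrArg Subtype.val hk
  set x := x0 ^ 2 ^ k with hxdef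
  have hx5 : x ^ 5 = 1 := by
    rw [hxdef, ← pow_mul, mul_comm, pow_mul]
    exact hk'
  have hφx : orderOf (φ x) = 5 := by
    rw [hxdef, map_pow, hx0, Nat.Coprime.orderOf_pow]
    · exact hyo
    · rw [hyo]
      exact Nat.Coprime.pow_right k (by norm_num)
  have hxo : orderOf x = 5 := by
    refine orderOf_eq_prime hx5 ?_
    intro h
    rw [h, map_one, orderOf_one] at hφx
    omega
  obtain ⟨hi, hc, hc2⟩ := hy _ hφx
  have he := relIndex_eq_four hφx h25 (by rw [hi]; exact hj5)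
  have hP : Nat.card (zpowers (φ x)) = 5 := by rw [Nat.card_zpowers, hφx]
  have hφx1 : φ x ≠ 1 := by
    intro h
    rw [h, orderOf_one] at hφx
    omega
  refine ⟨(x : G), by rw [Subgroup.orderOf_coe]; exact hxo, x.2, fun M hM => ?_⟩
  exact nn_lift hV hVC φ hφ hkc hkp (by norm_num : Nat.Prime 5) (by norm_num) hxo
    (fun a b ha hb => isConj_of_orderOf (p := 5) hP h25 he ha hb) hM
    (nn_of_hasSplit hs hP he (mem_zpowers _) hφx1 hi hj hc hc2 hM)

end Cfsg.Agent.H191.WeakNN
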