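import Cfsg.Agent.H191.WeakTool
import Cfsg.Agent.H191.WeakNN
import Cfsg.Agent.H52.FourRu
import Cfsg.Agent.H296.Fr.RowRu
import Cfsg.Agent.H51.Rad3.Ru
import Cfsg.Agent.H805.NilRu
import Cfsg.Agent.H58.Cop.Full

/-!
# S4095 at the prime 2: the row of the Rudvalis group (helper191)

* `three`, `five` : `O_2(C(w)) = 1` for the elements `w` of order 3 or 5;
* `factA`, `factB`, `row`.
-/

set_option autoImplicit false
set_option maxRecDepth 100000
set_option exponentiation.threshold 5000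

namespace Cfsg.Agent.H191.WeakRu

open Subgroup Cfsg Cfsg.Agent.SporadicB Cfsg.Agent.SporadicB.RuOrder Cfsg.Agent.RuD.Letters
open Cfsg.Agent.SporRec.TCUpperCert
open Cfsg.Agent.H978.RadRu (rep wprod_rep chkEqW eq_of_chkEqW ne_one_of)
open Cfsg.Agent.H191.WeakTool Cfsg.Agent.H509.Weak Cfsg.Agent.H516
open Cfsg.Agent.Characters.Core Cfsg.Agent.Blocks Cfsg.Agent.Blocks.LocalRing
open Cfsg.Agent.H652.Four (NN cl)

universe u

theorem finite_H : Finite RuOrder.H := CpAutRuFive.finite_H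

theorem hinv (p : ℕ) (hp : p = 3 ∨ p = 5) (t : RuOrder.H) (ht : orderOf t = 2) :
    ¬ p ^ 2 ∣ Nat.card ↥(centralizer ({t} : Set RuOrder.H)) := by
  rcases H805.NilSp.cent_two_Ru ht with h | h <;> rw [h] <;> rcases hp with rfl | rfl <;> norm_num

/-- elements of order `p` commuting with the same involution -/
theorem core_of_comm {p : ℕ} (hp : p = 3 ∨ p = 5) {u x y : RuOrder.H} (hu : orderOf u = 2) (hx : orderOf x = p)
    (hy : orderOf y = p) (hxu : x * u = u * x) (hyu : y * u = u * y)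
    (hO : pCore 2 ↥(centralizer ({y} : Set RuOrder.H)) = ⊥) : pCore 2 ↥(centralizer ({x} : Set RuOrder.H)) = ⊥ := by
  have := finite_H
  have hpp : p.Prime := by
    rcases hp with rfl | rfl
    · norm_num
    · norm_num
  obtain ⟨g, hg⟩ := CpAutRuFive.exists_conj_zpowers hpp (hinv p hp u hu)
    (x := (⟨x, mem_centralizer_singleton_iff.2 hxu⟩ : ↥(centralizer ({u} : Set RuOrder.H))))
    (y := ⟨y, mem_centralizer_singleton_iff.2 hyu⟩) (by rw [← hx, ← Subgroup.orderOf_coe])
    (by rw [← hy, ← Subgroup.orderOf_coe])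
  have h1 := congrArg (Subgroup.map (centralizer ({u} : Set RuOrder.H)).subtype) hg
  rw [MonoidHom.map_zpowers, MonoidHom.map_zpowers] at h1
  have h2 : zpowers ((g : RuOrder.H) * x * (g : RuOrder.H)⁻¹) = zpowers y := h1
  exact core_of_zpowers h2 hO

/-- the involution in `O_2(C(x))` -/
theorem exists_u {x : RuOrder.H} (h : pCore 2 ↥(centralizer ({x} : Set RuOrder.H)) ≠ ⊥) :
    ∃ u : RuOrder.H, orderOf u = 2 ∧ x * u = u * x := by
  have := finite_H
  obtain ⟨u, ⟨u', -, hu'⟩, huo⟩ := exists_invol (isPGroup_core x) (fun h' => h ((core_bot_iff x).2 h'))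
  refine ⟨u, huo, ?_⟩
  rw [← hu']
  exact (mem_centralizer_singleton_iff.1 u'.2).symm

/-! ### order 5 -/

theorem core_A : pCore 2 ↥(centralizer ({wprod ml CpAutRuFive.Cert.wA} : Set RuOrder.H)) = ⊥ := by
  have := finite_H
  have hf5 : Fact (Nat.Prime 5) := ⟨by norm_num⟩
  have hr := rel_of_chk H978.RadRu.chk_rels
  have r1 := hr (rep 5 H978.RadRu.wa) (by simp)
  have r2 := hr (rep 5 H978.RadRu.wb) (by simp)
  have r3 := hr (rep 5 H978.RadRu.wc) (by simp)
  have e1 : wprod ml (H978.RadRu.wa ++ H978.RadRu.wc) = wprod ml (H978.RadRu.wc ++ H978.RadRu.wa) :=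
    eq_of_chkEqW (by decide +kernel)
  have e2 : wprod ml (H978.RadRu.wb ++ H978.RadRu.wc) = wprod ml (H978.RadRu.wc ++ H978.RadRu.wb) :=
    eq_of_chkEqW (by decide +kernel)
  have e3 : wprod ml (H978.RadRu.wa ++ H978.RadRu.wb) =
      wprod ml (H978.RadRu.wc ++ (H978.RadRu.wb ++ H978.RadRu.wa)) := eq_of_chkEqW (by decide +kernel)
  simp only [wprod_rep, wprod_append] at r1 r2 r3 e1 e2 e3
  exact core_of_cube (p := 5) (by norm_num) (hinv 5 (Or.inr rfl)) e1 e2 e3 r1 r2 r3
    (ne_one_of (b := 29) (by norm_num) (by decide +kernel))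

theorem core_B : pCore 2 ↥(centralizer ({wprod ml CpAutRuFive.Cert.wB} : Set RuOrder.H)) = ⊥ := by
  have := finite_H
  have hf5 : Fact (Nat.Prime 5) := ⟨by norm_num⟩
  refine core_of_small (p := 5) (hinv 5 (Or.inr rfl)) (by norm_num) ?_ ?_
  · refine H58.Cop.sq_dvd_cent ?_ CpAutRuFive.orderB
    rw [card_H]
    norm_num
  · intro k hk hd
    have h1 := (Nat.le_of_dvd Nat.card_pos hd).trans CpAutRuFive.cardB
    have h2 : 2 ^ k ≤ 12 := by omega
    have h3 : k < 4 := by
      by_contra hcon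
      have h4 : 2 ^ 4 ≤ 2 ^ k := Nat.pow_le_pow_right (by norm_num) (by omega)
      omega
    interval_cases k <;> decide

theorem five {x : RuOrder.H} (hx : orderOf x = 5) : pCore 2 ↥(centralizer ({x} : Set RuOrder.H)) = ⊥ := by
  by_contra hne
  obtain ⟨u, hu, hxu⟩ := exists_u hne
  apply hne
  obtain ⟨C, hz, hv⟩ := CpAutRuFive.exists_C
  have huu : u * u = 1 := by rw [← pow_two, ← hu, pow_orderOf_eq_one]
  have hu1 : u ≠ 1 := by
    rintro rfl
    rw [orderOf_one] at hu
    norm_num at hu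
  have key : ∀ g a y : RuOrder.H, g * a * g⁻¹ = u → orderOf y = 5 → y * a = a * y →
      pCore 2 ↥(centralizer ({y} : Set RuOrder.H)) = ⊥ → pCore 2 ↥(centralizer ({x} : Set RuOrder.H)) = ⊥ := by
    intro g a y hg hy hya hO
    have h1 : (g * y * g⁻¹) * u = u * (g * y * g⁻¹) := by
      rw [← hg]
      calc g * y * g⁻¹ * (g * a * g⁻¹) = g * (y * a) * g⁻¹ := by group
        _ = g * (a * y) * g⁻¹ := by rw [hya]
        _ = _ := by group
    have h2 : orderOf (g * y * g⁻¹) = 5 := by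
      rw [← hy]
      exact MulEquiv.orderOf_eq (MulAut.conj g) y
    exact core_of_comm (Or.inr rfl) hu hx h2 hxu h1 (pCore_equiv (centEquiv (MulAut.conj g) y) hO)
  rcases KFacts.Ru.InvC.invol_cases' C (a := (1, 0)) (by decide) huu hu1 with ⟨g, hg⟩ | ⟨g, hg⟩
  · exact key g _ _ hg CpAutRuFive.orderA (by rw [hz]; exact CpAutRuFive.commA) core_A
  · exact key g _ _ hg CpAutRuFive.orderB (by rw [hv]; exact CpAutRuFive.commB) core_B

/-! ### order 3 -/

theorem core_C : pCore 2 ↥(centralizer ({wprod ml H51.Rad3.Ru.wc} : Set RuOrder.H)) = ⊥ := by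
  have := finite_H
  have hf3 : Fact (Nat.Prime 3) := ⟨by norm_num⟩
  have hr := rel_of_chk H51.Rad3.Ru.chk_rels
  have r1 := hr (rep 3 H51.Rad3.Ru.wa) (by simp)
  have r2 := hr (rep 3 H51.Rad3.Ru.wb) (by simp)
  have r3 := hr (rep 3 H51.Rad3.Ru.wc) (by simp)
  have e1 : wprod ml (H51.Rad3.Ru.wa ++ H51.Rad3.Ru.wc) = wprod ml (H51.Rad3.Ru.wc ++ H51.Rad3.Ru.wa) :=
    eq_of_chkEqW (by decide +kernel)
  have e2 : wprod ml (H51.Rad3.Ru.wb ++ H51.Rad3.Ru.wc) = wprod ml (H51.Rad3.Ru.wc ++ H51.Rad3.Ru.wb) :=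
    eq_of_chkEqW (by decide +kernel)
  have e3 : wprod ml (H51.Rad3.Ru.wa ++ H51.Rad3.Ru.wb) =
      wprod ml (H51.Rad3.Ru.wc ++ (H51.Rad3.Ru.wb ++ H51.Rad3.Ru.wa)) := eq_of_chkEqW (by decide +kernel)
  simp only [wprod_rep, wprod_append] at r1 r2 r3 e1 e2 e3
  exact core_of_cube (p := 3) (by norm_num) (hinv 3 (Or.inl rfl)) e1 e2 e3 r1 r2 r3
    (ne_one_of (b := 29) (by norm_num) (by decide +kernel))

/-- the element `d` of order 3 commutes with `s²` and is conjugate to `t d` -/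
theorem core_d : pCore 2 ↥(centralizer ({wprod ml [4]} : Set RuOrder.H)) = ⊥ := by
  have h1 : wprod ml ([4, 0, 8] ++ [4]) = wprod ml (H51.Rad3.Ru.wc ++ [4, 0, 8]) := eq_of_chkEqW (by decide +kernel)
  rw [wprod_append, wprod_append] at h1
  have h2 : (wprod ml [4, 0, 8] : RuOrder.H) * wprod ml [4] * (wprod ml [4, 0, 8])⁻¹ = wprod ml H51.Rad3.Ru.wc := by
    rw [mul_inv_eq_iff_eq_mul]
    exact h1
  refine core_of_zpowers (g := wprod ml [4, 0, 8]) (y := wprod ml H51.Rad3.Ru.wc) ?_ core_C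
  rw [h2]

theorem order_d : orderOf (wprod ml [4] : RuOrder.H) = 3 := by
  have : Fact (Nat.Prime 3) := ⟨by norm_num⟩
  refine orderOf_eq_prime ?_ (ne_one_of (b := 1) (by norm_num) (by decide +kernel))
  have h : wprod ml (rep 3 [4]) = (wprod ml [] : RuOrder.H) := eq_of_chkEqW (by decide +kernel)
  rw [wprod_rep, wprod_nil] at h
  exact h

theorem comm_d : (wprod ml [4] : RuOrder.H) * wprod ml [1, 1] = wprod ml [1, 1] * wprod ml [4] := by
  have h : wprod ml ([4] ++ [1, 1]) = (wprod ml ([1, 1] ++ [4]) : RuOrder.H) := eq_of_chkEqW (by decide +kernel)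
  rwa [wprod_append, wprod_append] at h

theorem three {x : RuOrder.H} (hx : orderOf x = 3) : pCore 2 ↥(centralizer ({x} : Set RuOrder.H)) = ⊥ := by
  have := finite_H
  by_contra hne
  obtain ⟨u, hu, hxu⟩ := exists_u hne
  apply hne
  obtain ⟨C, hz, hv⟩ := CpAutRuFive.exists_C
  have huu : u * u = 1 := by rw [← pow_two, ← hu, pow_orderOf_eq_one]
  have hu1 : u ≠ 1 := by
    rintro rfl
    rw [orderOf_one] at hu
    norm_num at hu
  rcases KFacts.Ru.InvC.invol_cases' C (a := (1, 0)) (by decide) huu hu1 with ⟨g, hg⟩ | ⟨g, hg⟩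
  · have h1 : (g * wprod ml [4] * g⁻¹) * u = u * (g * wprod ml [4] * g⁻¹) := by
      rw [← hg, hz]
      calc g * wprod ml [4] * g⁻¹ * (g * wprod ml [1, 1] * g⁻¹) = g * (wprod ml [4] * wprod ml [1, 1]) * g⁻¹ := by
            group
        _ = g * (wprod ml [1, 1] * wprod ml [4]) * g⁻¹ := by rw [comm_d]
        _ = _ := by group
    have h2 : orderOf (g * wprod ml [4] * g⁻¹) = 3 := by
      rw [← order_d]
      exact MulEquiv.orderOf_eq (MulAut.conj g) (wprod ml [4])
    exact core_of_comm (Or.inl rfl) hu hx h2 hxu h1 (pCore_equiv (centEquiv (MulAut.conj g) (wprod ml [4])) core_d)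
  · exfalso
    have h3 : Nat.card ↥(centralizer ({C.v (1, 0)} : Set RuOrder.H)) = 4 * 29120 := RuB.Local.card_cent_v (by decide)
    have h4 : g⁻¹ * x * g ∈ centralizer ({C.v (1, 0)} : Set RuOrder.H) := by
      rw [mem_centralizer_singleton_iff]
      rw [← hg] at hxu
      calc g⁻¹ * x * g * C.v (1, 0) = g⁻¹ * (x * (g * C.v (1, 0) * g⁻¹)) * g := by group
        _ = g⁻¹ * ((g * C.v (1, 0) * g⁻¹) * x) * g := by rw [hxu]
        _ = _ := by group
    have h5 := Subgroup.orderOf_dvd_natCard _ h4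
    have h6 : orderOf (g⁻¹ * x * g) = 3 := by
      rw [← hx]
      have := MulEquiv.orderOf_eq (MulAut.conj g⁻¹) x
      rw [MulAut.conj_apply, inv_inv] at this
      exact this
    rw [h6, h3] at h5
    norm_num at h5

/-! ### the facts -/

theorem factA_H : FactA RuOrder.H := by
  have := finite_H
  have hf5 : Fact (Nat.Prime 5) := ⟨by norm_num⟩
  obtain ⟨Q⟩ : Nonempty (Sylow 5 RuOrder.H) := inferInstance
  have hQ : Nat.card (Q : Subgroup RuOrder.H) = 125 := by
    rw [Q.card_eq_multiplicity, card_H]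
    have h1 : (145926144000 : ℕ) = 5 ^ 3 * 1167409152 := by norm_num
    rw [h1, Nat.factorization_mul (by norm_num) (by norm_num), Finsupp.add_apply,
      Nat.Prime.factorization_pow (by norm_num), Finsupp.single_eq_same,
      Nat.factorization_eq_zero_of_not_dvd (by norm_num)]
    norm_num
  refine ⟨Q, by rw [hQ]; decide, fun w hw hw2 => ?_⟩
  rw [hQ]
  have hd : orderOf w ∣ 2 ^ 14 * (3 ^ 3 * (5 ^ 3 * (7 * (13 * 29)))) := by
    have h1 := orderOf_dvd_natCard w
    rw [card_H] at h1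
    exact h1
  have pc : ∀ n k : ℕ, n.Prime → orderOf w ∣ n ^ k → orderOf w = n := fun n k hn h =>
    (Nat.prime_dvd_prime_iff_eq hw hn).1 (hw.dvd_of_dvd_pow h)
  rcases (Nat.Prime.dvd_mul hw).1 hd with h | hd
  · exact absurd (pc 2 14 Nat.prime_two h) hw2
  rcases (Nat.Prime.dvd_mul hw).1 hd with h | hd
  · exact Or.inl (three (pc 3 3 Nat.prime_three h))
  rcases (Nat.Prime.dvd_mul hw).1 hd with h | hd
  · exact Or.inl (five (pc 5 3 (by norm_num) h))
  right
  rcases (Nat.Prime.dvd_mul hw).1 hd with h | hd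
  · have := Nat.le_of_dvd (by norm_num) (H296.Fr.Ru.cent7 w ((Nat.prime_dvd_prime_iff_eq hw (by norm_num)).1 h))
    omega
  rcases (Nat.Prime.dvd_mul hw).1 hd with h | h
  · have := Nat.le_of_dvd (by norm_num) (H436.TwoRu.cent13 w ((Nat.prime_dvd_prime_iff_eq hw (by norm_num)).1 h))
    omega
  · have := Nat.le_of_dvd (by norm_num) (H436.TwoRu.cent29 w ((Nat.prime_dvd_prime_iff_eq hw (by norm_num)).1 h))
    omega

/-- transport -/
theorem core_equiv {L : Type*} [Group L] (e : L ≃* RuOrder.H) (w : L)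
    (h : pCore 2 ↥(centralizer ({e w} : Set RuOrder.H)) = ⊥) : pCore 2 ↥(centralizer ({w} : Set L)) = ⊥ := by
  have h1 : (centralizer ({w} : Set L)).map e.toMonoidHom = centralizer ({e w} : Set RuOrder.H) := by
    ext x
    constructor
    · rintro ⟨y, hy, rfl⟩
      rw [mem_centralizer_singleton_iff]
      change e y * e w = e w * e y
      rw [← map_mul, ← map_mul, mem_centralizer_singleton_iff.1 hy]
    · intro hx
      refine ⟨e.symm x, ?_, e.apply_symm_apply x⟩
      refine mem_centralizer_singleton_iff.2 ?_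
      apply e.injective
      rw [map_mul, map_mul, e.apply_symm_apply]
      exact mem_centralizer_singleton_iff.1 hx
  exact pCore_equiv ((e.subgroupMap (centralizer ({w} : Set L))).trans (MulEquiv.subgroupCongr h1)).symm h

theorem factA {L : Type u} [Group L] [Finite L] (h : Cfsg.Spor.IsoRu L) : FactA L := by
  have := finite_H
  obtain ⟨e⟩ := h
  let f : L ≃* RuOrder.H := e.trans RuLat.Main.equiv
  obtain ⟨Q, hQ, hall⟩ := factA_H
  have hc : Nat.card (Q.map f.symm.toMonoidHom) = Nat.card Q :=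
    Subgroup.card_map_of_injective (f := f.symm.toMonoidHom) f.symm.injective
  refine ⟨Q.map f.symm.toMonoidHom, by rw [hc]; exact hQ, fun w hw hw2 => ?_⟩
  have ho : orderOf (f w) = orderOf w := MulEquiv.orderOf_eq f w
  rcases hall (f w) (by rw [ho]; exact hw) (by rw [ho]; exact hw2) with h1 | h1
  · exact Or.inl (core_equiv f w h1)
  · right
    rw [hc, H296.Fr.card_cent_equiv f w]
    exact h1

/-- the class of elements of order five -/
theorem exists_y {L : Type u} [Group L] [Finite L] (h : Cfsg.Spor.IsoRu L) : ∃ x : L, orderOf x = 5 ∧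
    ∀ M : Ideal AlgInt, IsPModular 2 M → NN M (cl x) := by
  classical
  obtain ⟨C, hsz, hc⟩ := CTwoTab.Ru.exists_core_sz h
  let V : Subgroup L :=
    { carrier := Set.range C.v
      mul_mem' := by
        rintro _ _ ⟨a, rfl⟩ ⟨b, rfl⟩
        exact ⟨a + b, C.v_add a b⟩
      one_mem' := ⟨0, C.v_zero⟩
      inv_mem' := by
        rintro _ ⟨a, rfl⟩
        exact ⟨a, (C.v_inv a).symm⟩ }
  have hVmem : ∀ g, g ∈ V ↔ ∃ a, C.v a = g := fun g => Iff.rfl
  have hcV : Nat.card V = 4 := by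
    have h1 : Nat.card V = Nat.card RuB.A4 :=
      (Nat.card_congr (Equiv.ofInjective C.v (fun a b => C.v_inj))).symm
    rw [h1, Nat.card_eq_fintype_card]
    rfl
  have ha : ((1, 0) : RuB.A4) ≠ 0 := by decide
  have hVC : V ≤ centralizer (V : Set L) := by
    rintro _ ⟨a, rfl⟩
    rw [mem_centralizer_iff]
    rintro _ ⟨b, rfl⟩
    exact C.v_v_comm b a
  have hLC : ∀ l ∈ C.L, l ∈ centralizer (V : Set L) := by
    intro l hl
    rw [mem_centralizer_iff]
    rintro _ ⟨b, rfl⟩
    exact C.v_comm b l hl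
  have key : ∀ g : centralizer (V : Set L), ∃ l : C.L, ∃ b, (g : L) = C.v b * l := by
    intro g
    obtain ⟨b, l, hl, hg⟩ := C.cent _ ha g (mem_centralizer_iff.1 g.2 _ ⟨(1, 0), rfl⟩).symm
    exact ⟨⟨l, hl⟩, b, hg⟩
  choose f b hf using key
  have huniq : ∀ (b b' : RuB.A4) (l l' : C.L), C.v b * (l : L) = C.v b' * l' → l = l' := by
    intro b b' l l' h2
    exact Subtype.ext (C.vl_inj l.2 l'.2 h2).2
  have hmul : ∀ x y, f (x * y) = f x * f y := by
    intro x y
    refine huniq (b (x * y)) (b x + b y) _ _ ?_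
    rw [← hf, C.v_add]
    change (x : L) * (y : L) = C.v (b x) * C.v (b y) * ((f x : L) * (f y : L))
    rw [hf x, hf y]
    have h2 := C.v_comm (b y) (f x) (f x).2
    calc C.v (b x) * (f x : L) * (C.v (b y) * (f y : L)) =
        C.v (b x) * ((f x : L) * C.v (b y)) * (f y : L) := by group
      _ = C.v (b x) * (C.v (b y) * (f x : L)) * (f y : L) := by rw [h2]
      _ = _ := by group
  let φ : centralizer (V : Set L) →* C.L := MonoidHom.mk' f hmul
  have hc5 : ∀ y : C.L, orderOf y = 5 → Nat.card (centralizer ({y} : Set C.L)) = 5 :=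
    fun y hy => H52.FourRu.card_centralizer_five hsz hc hy
  have hfin : Finite C.L := inferInstance
  obtain ⟨x, hx, -, hN⟩ := WeakNN.exists_nn (V := V) (IsPGroup.of_card (n := 2) (by rw [hcV]; norm_num)) hVC φ
    (fun l => by
      refine ⟨⟨(l : L), hLC l l.2⟩, ?_⟩
      refine huniq (b ⟨(l : L), hLC l l.2⟩) 0 _ _ ?_
      rw [C.v_zero, one_mul]
      exact (hf ⟨(l : L), hLC l l.2⟩).symm)
    (fun g hg => by
      rw [hVmem]
      refine ⟨b g, ?_⟩
      have h1 := hf g
      have h2 : f g = 1 := hg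
      rw [h2] at h1
      rw [h1, Subgroup.coe_one, mul_one])
    (Omega.ML.LieRow.SzSplit.hasSplit_of_isoSuzuki hsz) (by rw [hc]; norm_num) (by rw [hc]; norm_num)
    (j := 91) (by norm_num) (by norm_num) (fun y hy => by
      have h1 := hc5 y hy
      have h2 := Subgroup.card_mul_index (centralizer ({y} : Set C.L))
      rw [h1, hc] at h2
      refine ⟨by omega, by rw [h1]; norm_num, by rw [h1]; norm_num⟩)
  exact ⟨x, hx, hN⟩

theorem factB {L : Type u} [Group L] [Finite L] (h : Cfsg.Spor.IsoRu L) : FactB L := by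
  obtain ⟨y, hy, hN⟩ := exists_y h
  obtain ⟨e⟩ := h
  let f : L ≃* RuOrder.H := e.trans RuLat.Main.equiv
  refine FactB.of_cl (y := y) ?_ (core_equiv f y (five (by rw [MulEquiv.orderOf_eq f y]; exact hy))) ?_ hN
  · rintro rfl
    rw [orderOf_one] at hy
    norm_num at hy
  · intro β
    obtain ⟨g, hg⟩ := OddHalf.Table.OutRu.inner ((f.symm.trans β).trans f)
    have h1 : f (β (f.symm (f y))) = g * f y * g⁻¹ := by
      have := congrArg (fun α : MulAut RuOrder.H => α (f y)) hg
      exact this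
    rw [f.symm_apply_apply] at h1
    refine isConj_iff.2 ⟨f.symm g, ?_⟩
    apply f.injective
    rw [map_mul, map_mul, map_inv, f.apply_symm_apply, h1]

/-- **The row of the Rudvalis group.** -/
theorem row {L : Type u} [Group L] [Finite L] (h : Cfsg.Spor.IsoRu L) (B : Base L) : Row 2 L :=
  row_of_facts B (factA h) (factB h)

end Cfsg.Agent.H191.WeakRu
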