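import Cfsg.Agent.H509.Weak
import Cfsg.Agent.H978.RadCube
import Cfsg.Agent.Lib.CoprimeHyperplane
import Cfsg.Agent.CpAutRuFive.Main

/-!
# Tools for the sporadic rows of S4095 at the prime 2 (helper191)

* `exists_big` : a `p`-group `P` acting on a 2-group `T ≠ 1` as an elementary abelian group: an involution of `T` is
  centralized by a subgroup `B ≤ P` with `|P| ∣ p |B|`;
* `core_of_cube` : `O_2(C(c)) = 1` if `c` is the commutator of `a, b`, `⟨a, b, c⟩` of order `p ^ 3` and exponent `p`, and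
  `p ^ 2` does not divide the orders of the centralizers of the involutions;
* `core_of_small` : the same if `p ^ 2 ∣ |C(w)|` and `p ∤ 2 ^ k - 1` for `2 ^ k p ^ 2 ≤ |C(w)|`, `k ≥ 1`;
* `core_of_zpowers` : conjugate subgroups.
-/

set_option autoImplicit false
set_option linter.unusedSectionVars false

namespace Cfsg.Agent.H191.WeakTool

open Subgroup Cfsg Cfsg.Agent.Lib Cfsg.Agent.H978.RadCube Cfsg.Agent.Lib.CoprimeHyperplane

section

variable {G : Type*} [Group G] [Finite G] {p : ℕ} [hp : Fact p.Prime]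

theorem exists_invol {T : Subgroup G} (hT : IsPGroup 2 T) (hT1 : T ≠ ⊥) : ∃ t ∈ T, orderOf t = 2 := by
  have h2 : Fact (Nat.Prime 2) := ⟨Nat.prime_two⟩
  obtain ⟨n, hn⟩ := IsPGroup.iff_card.1 hT
  have h1 : 2 ∣ Nat.card T := by
    rw [hn]
    apply dvd_pow_self
    rintro rfl
    rw [pow_zero] at hn
    exact hT1 (Subgroup.card_eq_one.1 hn)
  obtain ⟨t, ht⟩ := exists_prime_orderOf_dvd_card' (G := T) 2 h1
  exact ⟨t, t.2, by rw [Subgroup.orderOf_coe]; exact ht⟩

theorem exists_big (hp2 : p ≠ 2) {P T : Subgroup G} (hT : IsPGroup 2 T) (hT1 : T ≠ ⊥)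
    (hN : P ≤ normalizer (T : Set G)) (hcomm : ∀ x ∈ P, ∀ y ∈ P, ∀ t ∈ T, (x * y) * t * (x * y)⁻¹ = (y * x) * t * (y * x)⁻¹)
    (hpow : ∀ x ∈ P, ∀ t ∈ T, x ^ p * t * (x ^ p)⁻¹ = t) :
    ∃ B : Subgroup G, B ≤ P ∧ Nat.card P ∣ p * Nat.card B ∧ ∃ t ∈ T, orderOf t = 2 ∧ B ≤ centralizer ({t} : Set G) := by
  have h2 : Fact (Nat.Prime 2) := ⟨Nat.prime_two⟩
  let φ : P →* MulAut T := conjHom hN
  have hφ : ∀ (x : P) (t : T), ((φ x t : T) : G) = x * t * (x : G)⁻¹ := fun x t => rfl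
  let cA : CommGroup φ.range :=
    { (inferInstance : Group φ.range) with
      mul_comm := by
        rintro ⟨_, x, rfl⟩ ⟨_, y, rfl⟩
        apply Subtype.ext
        change φ x * φ y = φ y * φ x
        rw [← map_mul, ← map_mul]
        ext t
        rw [hφ, hφ]
        exact hcomm x x.2 y y.2 t t.2 }
  have hA : ∀ a : φ.range, a ^ p = 1 := by
    rintro ⟨_, x, rfl⟩
    apply Subtype.ext
    change φ x ^ p = 1
    rw [← map_pow]
    ext t
    rw [hφ]
    exact hpow x x.2 t t.2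
  -- from a subgroup of `T`
  have key : ∀ B' : Subgroup P, Nat.card P ∣ p * Nat.card B' → (∃ t : T, t ≠ 1 ∧ ∀ b ∈ B', φ b t = t) →
      ∃ B : Subgroup G, B ≤ P ∧ Nat.card P ∣ p * Nat.card B ∧ ∃ t ∈ T, orderOf t = 2 ∧
        B ≤ centralizer ({t} : Set G) := by
    rintro B' hc ⟨t, ht1, ht⟩
    refine ⟨B'.map P.subtype, Subgroup.map_subtype_le B', ?_, ?_⟩
    · rwa [Subgroup.card_map_of_injective P.subtype_injective]
    · have h3 : IsPGroup 2 (zpowers (t : G)) := hT.to_le (zpowers_le.2 t.2)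
      have h4 : zpowers (t : G) ≠ ⊥ := by
        rw [Ne, zpowers_eq_bot]
        exact fun h => ht1 (Subtype.ext h)
      obtain ⟨s, ⟨k, hk⟩, hs⟩ := exists_invol h3 h4
      have hk' : (t : G) ^ k = s := hk
      refine ⟨s, ?_, hs, ?_⟩
      · rw [← hk']
        exact zpow_mem t.2 k
      · rintro _ ⟨b, hb, rfl⟩
        rw [mem_centralizer_singleton_iff]
        have h5 : (b : G) * t * (b : G)⁻¹ = t := by
          rw [← hφ, ht b hb]
        have h6 : Commute (b : G) t := mul_inv_eq_iff_eq_mul.1 h5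
        rw [← hk']
        exact (h6.zpow_right k).eq
  by_cases hnt : Nontrivial φ.range
  · have h1 := iSup_fix_eq_top_of_isPGroup (A := φ.range) (R := T) φ.range.subtype hp2 hA hT
    by_contra hcon
    have h3 : ∀ B : {B : Subgroup φ.range // B.index = p}, fix φ.range.subtype B.1 ≤ ⊥ := by
      intro B t ht
      by_contra ht1
      apply hcon
      refine key (B.1.comap φ.rangeRestrict) ?_ ⟨t, ht1, ?_⟩
      · have h4 := Subgroup.index_comap_of_surjective B.1 (f := φ.rangeRestrict) φ.rangeRestrict_surjective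
        have h5 := Subgroup.card_mul_index (B.1.comap φ.rangeRestrict)
        rw [h4, B.2] at h5
        rw [← h5, mul_comm]
      · intro b hb
        exact ht _ hb
    have h4 : (⊤ : Subgroup T) ≤ ⊥ := by
      rw [← h1]
      exact iSup_le h3
    apply hT1
    rw [eq_bot_iff]
    intro t ht
    have h5 : (⟨t, ht⟩ : T) ∈ (⊥ : Subgroup T) := h4 (mem_top _)
    rw [mem_bot] at h5 ⊢
    exact congrArg Subtype.val h5
  · refine key ⊤ ?_ ?_
    · rw [Subgroup.card_top]
      exact dvd_mul_left _ _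
    · obtain ⟨t, ht, hto⟩ := exists_invol hT hT1
      refine ⟨⟨t, ht⟩, ?_, ?_⟩
      · intro h
        have h3 : t = 1 := congrArg Subtype.val h
        rw [h3, orderOf_one] at hto
        omega
      · intro b _
        rw [not_nontrivial_iff_subsingleton] at hnt
        have h3 : (⟨φ b, b, rfl⟩ : φ.range) = 1 := Subsingleton.elim _ _
        have h4 : φ b = 1 := congrArg Subtype.val h3
        rw [h4, MulAut.one_apply]

/-- `O_2(C(w))` as a subgroup of `G` -/
theorem core_bot_iff (w : G) : pCore 2 ↥(centralizer ({w} : Set G)) = ⊥ ↔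
    (pCore 2 ↥(centralizer ({w} : Set G))).map (centralizer ({w} : Set G)).subtype = ⊥ := by
  constructor
  · intro h
    rw [h, Subgroup.map_bot]
  · intro h
    exact (Subgroup.map_eq_bot_iff_of_injective _ (Subgroup.subtype_injective _)).1 h

theorem normalizes (w : G) : centralizer ({w} : Set G) ≤
    normalizer (((pCore 2 ↥(centralizer ({w} : Set G))).map (centralizer ({w} : Set G)).subtype : Subgroup G) : Set G) := by
  have key : ∀ g ∈ centralizer ({w} : Set G), ∀ x ∈ (pCore 2 ↥(centralizer ({w} : Set G))).map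
      (centralizer ({w} : Set G)).subtype, g * x * g⁻¹ ∈ (pCore 2 ↥(centralizer ({w} : Set G))).map
      (centralizer ({w} : Set G)).subtype := by
    rintro g hg _ ⟨x, hx, rfl⟩
    exact ⟨⟨g, hg⟩ * x * ⟨g, hg⟩⁻¹, (Lib.Cores.pCore_normal (G := ↥(centralizer ({w} : Set G))) 2).conj_mem _ hx _, rfl⟩
  intro g hg
  rw [mem_normalizer_iff]
  intro x
  refine ⟨key g hg x, fun h => ?_⟩
  have h1 := key g⁻¹ (inv_mem hg) _ h
  have h2 : g⁻¹ * (g * x * g⁻¹) * g⁻¹⁻¹ = x := by group
  rwa [h2] at h1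

theorem isPGroup_core (w : G) :
    IsPGroup 2 ((pCore 2 ↥(centralizer ({w} : Set G))).map (centralizer ({w} : Set G)).subtype : Subgroup G) :=
  (Lib.Cores.pCore_isPGroup (G := ↥(centralizer ({w} : Set G))) 2).map _

/-- the group of order `p ^ 3` -/
theorem card_cube {a b c : G} (hac : a * c = c * a) (hbc : b * c = c * b) (hab : a * b = c * (b * a)) (ha : a ^ p = 1)
    (hb : b ^ p = 1) (hc : c ^ p = 1) (hc1 : c ≠ 1) : p ^ 3 ∣ Nat.card (cube hac hbc hab) := by
  have hP := isPGroup_cube hac hbc hab ha hb hc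
  obtain ⟨n, hn⟩ := IsPGroup.iff_card.1 hP
  have hncomm : ¬ ∀ u v : ↥(cube hac hbc hab), u * v = v * u := by
    intro h
    have hma : a ∈ cube hac hbc hab := ⟨1, 0, 0, by simp⟩
    have hmb : b ∈ cube hac hbc hab := ⟨0, 1, 0, by simp⟩
    have h4 := congrArg Subtype.val (h ⟨a, hma⟩ ⟨b, hmb⟩)
    have h5 : a * b = b * a := h4
    rw [hab] at h5
    exact hc1 (mul_eq_right.1 h5)
  have hn3 : 3 ≤ n := by
    by_contra h4
    have h5 : n ≤ 2 := by omega
    apply hncomm
    interval_cases n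
    · intro u v
      have h6 : Subsingleton ↥(cube hac hbc hab) := by
        rw [pow_zero] at hn
        exact (Nat.card_eq_one_iff_unique.1 hn).1
      exact Subsingleton.elim _ _
    · rw [pow_one] at hn
      have h6 := isCyclic_of_prime_card hn
      intro u v
      let _ := IsCyclic.commGroup (α := ↥(cube hac hbc hab))
      exact mul_comm u v
    · intro u v
      let _ := IsPGroup.commGroupOfCardEqPrimeSq hn
      exact mul_comm u v
  rw [hn]
  exact pow_dvd_pow p hn3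

/-- **`O_2(C(c)) = 1`** -/
theorem core_of_cube (hp2 : p ≠ 2) (hinv : ∀ t : G, orderOf t = 2 → ¬ p ^ 2 ∣ Nat.card ↥(centralizer ({t} : Set G)))
    {a b c : G} (hac : a * c = c * a) (hbc : b * c = c * b) (hab : a * b = c * (b * a)) (ha : a ^ p = 1)
    (hb : b ^ p = 1) (hc : c ^ p = 1) (hc1 : c ≠ 1) : pCore 2 ↥(centralizer ({c} : Set G)) = ⊥ := by
  rw [core_bot_iff]
  by_contra hT1
  have hPC : cube hac hbc hab ≤ centralizer ({c} : Set G) := by
    rintro _ ⟨i, j, k, rfl⟩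
    rw [mem_centralizer_singleton_iff]
    have h1 : Commute a c := hac
    have h2 : Commute b c := hbc
    exact (((h1.zpow_left i).mul_left (h2.zpow_left j)).mul_left ((Commute.refl c).zpow_left k)).eq
  set T := (pCore 2 ↥(centralizer ({c} : Set G))).map (centralizer ({c} : Set G)).subtype with hT
  have hcT : ∀ (k : ℤ) (t : G), t ∈ T → c ^ k * t = t * c ^ k := by
    rintro k _ ⟨t, -, rfl⟩
    have h1 : Commute c (t : G) := (mem_centralizer_singleton_iff.1 t.2).symm
    exact (h1.zpow_left k).eq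
  have g1 : ∀ x ∈ cube hac hbc hab, ∀ y ∈ cube hac hbc hab, ∀ t ∈ T,
      (x * y) * t * (x * y)⁻¹ = (y * x) * t * (y * x)⁻¹ := by
    rintro x ⟨i, j, k, rfl⟩ y ⟨i', j', k', rfl⟩ t ht
    rw [form_mul hac hbc hab, form_mul hac hbc hab]
    have e : a ^ (i + i') * b ^ (j + j') * c ^ (k + k' - j * i') =
        (a ^ (i' + i) * b ^ (j' + j) * c ^ (k' + k - j' * i)) * c ^ (j' * i - j * i') := by
      rw [mul_assoc _ (c ^ _) (c ^ _), ← zpow_add, add_comm i' i, add_comm j' j]
      congr 2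
      ring
    rw [e]
    set u := a ^ (i' + i) * b ^ (j' + j) * c ^ (k' + k - j' * i)
    have h1 := hcT (j' * i - j * i') t ht
    set d := c ^ (j' * i - j * i')
    calc u * d * t * (u * d)⁻¹ = u * (d * t) * d⁻¹ * u⁻¹ := by group
      _ = u * (t * d) * d⁻¹ * u⁻¹ := by rw [h1]
      _ = u * t * u⁻¹ := by group
  have g2 : ∀ x ∈ cube hac hbc hab, ∀ t ∈ T, x ^ p * t * (x ^ p)⁻¹ = t := by
    rintro x ⟨i, j, k, rfl⟩ t ht
    obtain ⟨k', hk'⟩ := form_pow hac hbc hab i j k p
    have ea : a ^ (i * (p : ℤ)) = 1 := by rw [mul_comm, zpow_mul, zpow_natCast, ha, one_zpow]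
    have eb : b ^ (j * (p : ℤ)) = 1 := by rw [mul_comm, zpow_mul, zpow_natCast, hb, one_zpow]
    rw [hk', ea, eb, one_mul, one_mul, hcT k' t ht, mul_inv_cancel_right]
  obtain ⟨B, hBP, hB, t, ht, hto, hBt⟩ := exists_big hp2 (P := cube hac hbc hab) (isPGroup_core c) hT1
    (hPC.trans (normalizes c)) g1 g2
  have h1 := (card_cube hac hbc hab ha hb hc hc1).trans hB
  have h2 : p ^ 2 ∣ Nat.card B := by
    have h3 : p * p ^ 2 ∣ p * Nat.card B := by
      have : p * p ^ 2 = p ^ 3 := by ring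
      rw [this]
      exact h1
    exact Nat.dvd_of_mul_dvd_mul_left hp.out.pos h3
  exact hinv t hto (h2.trans (card_dvd_of_le hBt))

/-- **`O_2(C(w)) = 1`** for small centralizers -/
theorem core_of_small (hinv : ∀ t : G, orderOf t = 2 → ¬ p ^ 2 ∣ Nat.card ↥(centralizer ({t} : Set G))) {w : G}
    (hp2 : p ≠ 2) (hw : p ^ 2 ∣ Nat.card ↥(centralizer ({w} : Set G)))
    (hs : ∀ k, 1 ≤ k → 2 ^ k * p ^ 2 ∣ Nat.card ↥(centralizer ({w} : Set G)) → ¬ 2 ^ k ≡ 1 [MOD p]) :
    pCore 2 ↥(centralizer ({w} : Set G)) = ⊥ := by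
  by_contra hT1
  have h2 : Fact (Nat.Prime 2) := ⟨Nat.prime_two⟩
  set C := centralizer ({w} : Set G) with hC
  have hTp : IsPGroup 2 ↥(pCore 2 ↥C) := Lib.Cores.pCore_isPGroup (G := ↥C) 2
  have hTn : (pCore 2 ↥C).Normal := Lib.Cores.pCore_normal (G := ↥C) 2
  obtain ⟨P⟩ : Nonempty (Sylow p ↥C) := inferInstance
  obtain ⟨k, hk⟩ := IsPGroup.iff_card.1 hTp
  have hk1 : 1 ≤ k := by
    by_contra hcon
    have h0 : k = 0 := by omega
    rw [h0, pow_zero] at hk
    exact hT1 (Subgroup.card_eq_one.1 hk)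
  have hcop : Nat.Coprime (2 ^ k) (p ^ 2) :=
    Nat.Coprime.pow _ _ ((Nat.coprime_primes Nat.prime_two hp.out).2 (Ne.symm hp2))
  have hd : 2 ^ k * p ^ 2 ∣ Nat.card ↥C := by
    refine hcop.mul_dvd_of_dvd_of_dvd ?_ hw
    rw [← hk]
    exact card_subgroup_dvd_card _
  have hne := hs k hk1 hd
  -- the action of `P`
  let act : MulAction P (pCore 2 ↥C) := MulAction.compHom _ ((MulAut.conjNormal (H := pCore 2 ↥C)).comp P.1.subtype)
  have hsm : ∀ (x : P) (t : pCore 2 ↥C), ((x • t : pCore 2 ↥C) : ↥C) = x * t * (x : ↥C)⁻¹ := fun x t => rfl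
  have h3 := P.2.card_modEq_card_fixedPoints (pCore 2 ↥C)
  rw [hk] at h3
  have h4 : Nontrivial (MulAction.fixedPoints P (pCore 2 ↥C)) := by
    by_contra hcon
    rw [not_nontrivial_iff_subsingleton] at hcon
    apply hne
    have h5 : Nat.card (MulAction.fixedPoints P (pCore 2 ↥C)) = 1 := by
      have h6 : Nonempty (MulAction.fixedPoints P (pCore 2 ↥C)) := ⟨⟨1, fun x => by
        apply Subtype.ext
        rw [hsm]
        simp⟩⟩
      exact Nat.card_eq_one_iff_unique.2 ⟨hcon, h6⟩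
    rw [h5] at h3
    exact h3
  have h1m : (1 : pCore 2 ↥C) ∈ MulAction.fixedPoints P (pCore 2 ↥C) := fun x => by
    apply Subtype.ext
    rw [hsm]
    simp
  obtain ⟨⟨t, ht⟩, ht1⟩ := exists_ne (⟨1, h1m⟩ : MulAction.fixedPoints P (pCore 2 ↥C))
  have ht1' : ((t : ↥C) : G) ≠ 1 := by
    intro h
    apply ht1
    apply Subtype.ext
    apply Subtype.ext
    exact Subtype.ext h
  have h5 : IsPGroup 2 (zpowers ((t : ↥C) : G)) := by
    have h6 : IsPGroup 2 ((pCore 2 ↥C).map C.subtype) := hTp.map _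
    exact h6.to_le (zpowers_le.2 ⟨t, t.2, rfl⟩)
  obtain ⟨s, ⟨j, hj⟩, hs⟩ := exists_invol h5 (by rw [Ne, zpowers_eq_bot]; exact ht1')
  have hj' : ((t : ↥C) : G) ^ j = s := hj
  apply hinv s hs
  have h6 : ((P : Subgroup ↥C).map C.subtype) ≤ centralizer ({s} : Set G) := by
    rintro _ ⟨x, hx, rfl⟩
    rw [mem_centralizer_singleton_iff, ← hj']
    have h7 := congrArg (fun y : pCore 2 ↥C => ((y : ↥C) : G)) (ht ⟨x, hx⟩)
    have h8 : (x : G) * ((t : ↥C) : G) * (x : G)⁻¹ = ((t : ↥C) : G) := h7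
    have h9 : Commute (x : G) ((t : ↥C) : G) := mul_inv_eq_iff_eq_mul.1 h8
    exact (h9.zpow_right j).eq
  refine dvd_trans ?_ (card_dvd_of_le h6)
  rw [Subgroup.card_map_of_injective C.subtype_injective]
  exact P.pow_dvd_card_of_pow_dvd_card hw

end

/-- conjugate cyclic subgroups -/
theorem core_of_zpowers {G : Type*} [Group G] {x y g : G} (h : zpowers (g * x * g⁻¹) = zpowers y)
    (hO : pCore 2 ↥(centralizer ({y} : Set G)) = ⊥) : pCore 2 ↥(centralizer ({x} : Set G)) = ⊥ := by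
  have h1 : centralizer ({g * x * g⁻¹} : Set G) = centralizer ({y} : Set G) := by
    rw [CpAutRuFive.centralizer_zpowers, h, ← CpAutRuFive.centralizer_zpowers]
  have h2 : pCore 2 ↥(centralizer ({g * x * g⁻¹} : Set G)) = ⊥ := by rw [h1]; exact hO
  exact H509.Weak.pCore_equiv (H509.Weak.centEquiv (MulAut.conj g) x).symm h2

end Cfsg.Agent.H191.WeakTool
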